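import Cfsg.Agent.H417.GU.Shift_m3
import Mathlib.RingTheory.PowerSeries.Inverse
import Cfsg.Agent.H421.GLn.NeckRS
import Cfsg.Agent.H614.GLn.IrrLab
import Cfsg.Agent.H474.GU.NF_m3
import Cfsg.Agent.H623.GLn.D4F
import Cfsg.Agent.H623.GLn.Wick
import Cfsg.Agent.H614.GLn.RSForm
import Cfsg.Agent.H501.GLn.Ext
import Mathlib.LinearAlgebra.Eigenspace.Zero
import Mathlib
import Cfsg.Agent.S2580
import Cfsg.Prelude.Def_LieClassical
import Cfsg.Agent.H941.GLn.FamOne
import Cfsg.Agent.H987.Sl.KdConj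
import Cfsg.Agent.S0157
import Cfsg.Agent.H505.S4536.Ext
import Cfsg.Agent.H120.GLB.Ctx
import Cfsg.Agent.H809.GLB.Trn
import Cfsg.Agent.H321.Ker.Unit
import Cfsg.Agent.H666.Clif.Sec_mg
import Cfsg.Agent.Prune
set_option linter.all false

section
prune_inst 0x7fbea9f8abac89dfdfff7fbfa690edf812800fffa4dff9437f60619f0b9f138009c5638d09e000fc0e82c01410a87803f97eceffe06bd87ffffd1df41ffbee4fe5f73508519488340fbc0ff603f0678e6f3ffffffffcdffffffffff7ffffffbeffbff3feffff

-- part: H531/GU/Neck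
section
prune_inst 0x415604540352202000000058471205802f800002000030808e0220c040801280089c00e010b002107522a008108050020021000e0404000000e200000000000000800100480480100020098001181010000000000320000000000000000000004004010000
set_option linter.all false
open scoped Cfsg.Agent.FastGrp

-- part: H531/GU/Int
section
/-!
# S4537, B2: the necklace operators preserve generalized characters (helper531)

* `iW g v j` : the coefficients of the inverse of `Wt g v`;
* `Eop_eq` : `E_{n,k} x = ∑_{a+b=k} coeff_a (Wt g (sz lam)) * Uop n (iW_b * x)`;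
* `gc_Eop` : `E_{n,k}` preserves generalized characters if the coefficients of `Wt g (sz lam)` are
  generalized characters.
-/

set_option autoImplicit false
set_option linter.unusedSectionVars false

open scoped ComplexConjugate
open Cfsg Cfsg.Agent.H615.GU Cfsg.Agent.H315.GU
open Cfsg.Agent.OddOrderCharacters.VChar

universe u

namespace Cfsg.Agent.H531.GU

open Polynomial

section

variable {I : Type*} (g : I → ℂ[X])

theorem Wt_coeff_zero (hg : ∀ i, (g i).coeff 0 = 1) (v : I →₀ ℕ) : (Wt g v).coeff 0 = 1 := by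
  rw [Wt, Finsupp.prod, coeff_zero_prod]
  refine Finset.prod_eq_one fun i _ => ?_
  rw [coeff_zero_eq_eval_zero, eval_pow, ← coeff_zero_eq_eval_zero, hg, one_pow]

/-- the coefficients of the inverse of the weight -/
noncomputable def iW (v : I →₀ ℕ) (j : ℕ) : ℂ := PowerSeries.coeff j ((Wt g v : ℂ[X]) : PowerSeries ℂ)⁻¹

theorem iW_inv (hg : ∀ i, (g i).coeff 0 = 1) (v : I →₀ ℕ) :
    ((Wt g v : ℂ[X]) : PowerSeries ℂ) * ((Wt g v : ℂ[X]) : PowerSeries ℂ)⁻¹ = 1 := by
  refine PowerSeries.mul_inv_cancel _ ?_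
  rw [← PowerSeries.coeff_zero_eq_constantCoeff_apply, Polynomial.coeff_coe, Wt_coeff_zero g hg]
  exact one_ne_zero

theorem iW_sum (hg : ∀ i, (g i).coeff 0 = 1) (v : I →₀ ℕ) (j : ℕ) :
    ∑ y ∈ Finset.HasAntidiagonal.antidiagonal j, (Wt g v).coeff y.1 * iW g v y.2 = if j = 0 then 1 else 0 := by
  have h := congrArg (PowerSeries.coeff j) (iW_inv g hg v)
  rw [PowerSeries.coeff_mul, PowerSeries.coeff_one] at h
  rw [← h]
  refine Finset.sum_congr rfl fun y _ => ?_
  rw [Polynomial.coeff_coe]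
  rfl

theorem iW_zero (hg : ∀ i, (g i).coeff 0 = 1) (v : I →₀ ℕ) : iW g v 0 = 1 := by
  have h := iW_sum g hg v 0
  rw [Finset.Nat.antidiagonal_zero, Finset.sum_singleton, Wt_coeff_zero g hg, one_mul, if_pos rfl] at h
  exact h

theorem iW_succ (hg : ∀ i, (g i).coeff 0 = 1) (v : I →₀ ℕ) (j : ℕ) : iW g v (j + 1) =
    -∑ y ∈ Finset.HasAntidiagonal.antidiagonal j, (Wt g v).coeff (y.1 + 1) * iW g v y.2 := by
  have h := iW_sum g hg v (j + 1)
  rw [Finset.Nat.sum_antidiagonal_succ, Wt_coeff_zero g hg, one_mul, if_neg (Nat.succ_ne_zero j)] at h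
  exact eq_neg_of_add_eq_zero_left h

/-- the weight of a difference -/
theorem Wt_sub (hg : ∀ i, (g i).coeff 0 = 1) (v w : I →₀ ℕ) (k : ℕ) : (Wt g v).coeff k =
    ∑ y ∈ Finset.HasAntidiagonal.antidiagonal k, (Wt g (v + w)).coeff y.1 * iW g w y.2 := by
  have h : ((Wt g v : ℂ[X]) : PowerSeries ℂ) =
      ((Wt g (v + w) : ℂ[X]) : PowerSeries ℂ) * ((Wt g w : ℂ[X]) : PowerSeries ℂ)⁻¹ := by
    rw [Wt_add, Polynomial.coe_mul, mul_assoc, iW_inv g hg, mul_one]
  have h1 := congrArg (PowerSeries.coeff k) h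
  rw [PowerSeries.coeff_mul, Polynomial.coeff_coe] at h1
  rw [h1]
  refine Finset.sum_congr rfl fun y _ => ?_
  rw [Polynomial.coeff_coe]
  rfl

variable (d : I → ℕ) (Q : ℤ)

theorem Eop_eq (hg : ∀ i, (g i).coeff 0 = 1) (n k : ℕ) (x : Ty I → ℂ) : Eop d Q g n k x =
    ∑ y ∈ Finset.HasAntidiagonal.antidiagonal k, (fun lam : Ty I => (Wt g (sz lam)).coeff y.1) *
      Uop d Q n ((fun lam : Ty I => iW g (sz lam) y.2) * x) := by
  classical
  funext lam
  rw [Eop, UF_apply, Finset.sum_apply]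
  simp only [Pi.mul_apply]
  have h : ∀ y ∈ Finset.HasAntidiagonal.antidiagonal k,
      (Wt g (sz lam)).coeff y.1 * Uop d Q n ((fun lam : Ty I => iW g (sz lam) y.2) * x) lam =
      ∑ c ∈ tbelow lam, (Wt g (sz lam)).coeff y.1 *
        (Ng d Q lam c * (if vdeg d (sz lam - sz c) = n then 1 else 0) * (iW g (sz c) y.2 * x c)) := by
    intro y _
    rw [Uop_eq]
    show (Wt g (sz lam)).coeff y.1 * UF d Q (fun v => if vdeg d v = n then 1 else 0) _ lam = _
    rw [UF_apply, Finset.mul_sum]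
    rfl
  rw [Finset.sum_congr rfl h, Finset.sum_comm]
  refine Finset.sum_congr rfl fun c hc => ?_
  rw [mem_tbelow] at hc
  by_cases hv : vdeg d (sz lam - sz c) = n
  · rw [if_pos hv, Wt_sub g hg _ (sz c), tsub_add_cancel_of_le (sz_mono hc), Finset.mul_sum, Finset.sum_mul]
    refine Finset.sum_congr rfl fun y _ => ?_
    rw [if_pos hv]
    ring
  · rw [if_neg hv, mul_zero, zero_mul]
    symm
    refine Finset.sum_eq_zero fun y _ => ?_
    rw [if_neg hv]
    ring

theorem Eop_below {n k m : ℕ} (h : m < n) (x : Ty I → ℂ) {lam : Ty I} (hlam : tdeg d lam = m) :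
    Eop d Q g n k x lam = 0 := by
  classical
  rw [Eop, UF_apply]
  refine Finset.sum_eq_zero fun c hc => ?_
  rw [mem_tbelow] at hc
  have h1 : vdeg d (sz lam - sz c) + tdeg d c = tdeg d lam := by
    rw [← vdeg_sz, ← vdeg_sz, ← vdeg_add, tsub_add_cancel_of_le (sz_mono hc)]
  rw [if_neg (by omega), mul_zero, zero_mul]

end

section GCs

variable {I : Type*} {d : I → ℕ} {Q : ℤ}
variable {G : ℕ → Type u} [∀ n, Group (G n)] [∀ n, Finite (G n)] {N : ℕ} {T : ∀ n, n ≤ N → TypeData d Q (G n) n}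
variable {n m : ℕ} {g : I → ℂ[X]}

theorem GC.one : GC T n (fun _ => 1) := fun _ => gen_one

theorem gc_iW (hg : ∀ i, (g i).coeff 0 = 1) (hE : ∀ k, GC T n (fun lam => (Wt g (sz lam)).coeff k)) (j : ℕ) :
    GC T n (fun lam => iW g (sz lam) j) := by
  induction j using Nat.strong_induction_on with
  | _ j ih =>
    cases j with
    | zero =>
      have h : (fun lam : Ty I => iW g (sz lam) 0) = fun _ => 1 := funext fun lam => iW_zero g hg _
      rw [h]
      exact GC.one
    | succ j =>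
      have h : (fun lam : Ty I => iW g (sz lam) (j + 1)) = -∑ y ∈ Finset.HasAntidiagonal.antidiagonal j,
          (fun lam : Ty I => (Wt g (sz lam)).coeff (y.1 + 1)) * fun lam : Ty I => iW g (sz lam) y.2 := by
        funext lam
        rw [iW_succ g hg, Pi.neg_apply, Finset.sum_apply]
        rfl
      rw [h]
      refine (GC.sum _ fun y hy => (hE _).mul (ih y.2 ?_)).neg
      rw [Finset.HasAntidiagonal.mem_antidiagonal] at hy
      omega

variable (hd : ∀ i, 0 < d i) (hQ : 2 ≤ |Q|) (hf : ∀ n, {lam : Ty I | tdeg d lam = n}.Finite)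
  (hW : ∀ n m (hn : n ≤ N) (hm : m ≤ N), IsGeneralizedCharacter (G n × G m) fun x =>
    (Q.sign : ℂ) ^ (n * m) * (Q : ℂ) ^ tip d ((T n hn).typ x.1) ((T m hm).typ x.2⁻¹))

include hd hQ hf hW

theorem gc_Eop (hg : ∀ i, (g i).coeff 0 = 1) (hE : ∀ n k, GC T n (fun lam => (Wt g (sz lam)).coeff k))
    {x : Ty I → ℂ} (hx : GC T m x) (n k : ℕ) : GC T (m + n) (Eop d Q g n k x) := by
  rw [Eop_eq g d Q hg]
  exact GC.sum _ fun y _ => (hE _ _).mul (gc_Uop hd hQ hf hW m _ ((gc_iW hg (hE m) _).mul hx) n)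

/-- **The necklace operators preserve generalized characters.** -/
theorem gc_Eop' (hg : ∀ i, (g i).coeff 0 = 1) (hE : ∀ n k, GC T n (fun lam => (Wt g (sz lam)).coeff k))
    {x : Ty I → ℂ} (hx : ∀ n, GC T n x) (r k n : ℕ) : GC T n (Eop d Q g r k x) := by
  by_cases h : r ≤ n
  · have h1 := gc_Eop hd hQ hf hW hg hE (hx (n - r)) r k
    rwa [Nat.sub_add_cancel h] at h1
  · refine (GC.zero (T := T) (n := n)).congr fun lam hlam => ?_
    rw [Eop_below g d Q (not_le.1 h) x hlam]
    rfl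

end GCs

end Cfsg.Agent.H531.GU
end

-- part: H531/GU/Neck
section
/-!
# S4537, B2 (R3): the exterior powers act as the necklace operators (helper531)

* `orb_equiv` : the orbit of `x` is `x ^ (Q ^ i)`, `i < dOrb`;
* `gx θ Q x o = ∏_{y ∈ o} (1 + θ(y) ^ x X)`;
* `evR_En` : `evR (En n k x * y) = Eop (gx x) n k (evR y)` for `n ≤ N`.
-/

set_option autoImplicit false
set_option linter.unusedSectionVars false

open scoped ComplexConjugate
open Cfsg Cfsg.Agent.H615.GU Cfsg.Agent.H315.GU Cfsg.Agent.H577.GLB.Std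

universe u

namespace Cfsg.Agent.H531.GU

open Polynomial

/-! ### generalities -/

theorem coeff_prod_one_add {ι : Type*} [DecidableEq ι] (s : Finset ι) (w : ι → ℂ) (a : ℕ) :
    (∏ j ∈ s, (1 + C (w j) * X)).coeff a = ∑ S ∈ s.powersetCard a, ∏ j ∈ S, w j := by
  rw [Finset.prod_one_add, finsetSum_coeff, Finset.powersetCard_eq_filter, Finset.sum_filter]
  refine Finset.sum_congr rfl fun S _ => ?_
  rw [Finset.prod_mul_distrib, Finset.prod_const, ← map_prod, coeff_C_mul, coeff_X_pow]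
  split_ifs with h1 h2 h2
  · rw [mul_one]
  · exact absurd h1.symm h2
  · exact absurd h2.symm h1
  · rw [mul_zero]

theorem prod_periodic {A : Type*} [CommMonoid A] (f : ℕ → A) {d : ℕ} (hf : ∀ j, f (j + d) = f j) (m : ℕ) :
    ∏ j ∈ Finset.range (d * m), f j = (∏ j ∈ Finset.range d, f j) ^ m := by
  induction m with
  | zero => simp
  | succ m ih =>
    rw [Nat.mul_succ, Finset.prod_range_add, ih, pow_succ]
    congr 1
    refine Finset.prod_congr rfl fun j _ => ?_
    clear ih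
    induction m with
    | zero => rw [mul_zero, zero_add]
    | succ m ih => rw [Nat.mul_succ, add_right_comm, hf, ih]

/-! ### orbits -/

section Orbits

variable {K : Type*} [Field K] {Q : ℤ} {M : ℕ}

theorem iterate_pow (x : Kˣ) (j : ℕ) : (fun z : Kˣ => z ^ Q)^[j] x = x ^ (Q ^ j) := by
  induction j with
  | zero => rw [Function.iterate_zero, id, pow_zero, zpow_one]
  | succ j ih => rw [Function.iterate_succ_apply', ih, ← zpow_mul, pow_succ]

theorem exists_period [Finite K] (hM : Nat.card Kˣ = M) (hQ : IsUnit (Q : ZMod M)) :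
    ∃ L : ℕ, 0 < L ∧ ∀ x : Kˣ, x ^ (Q ^ L) = x := by
  have : NeZero M := ⟨by
    rw [← hM]
    exact (Nat.card_pos (α := Kˣ)).ne'⟩
  obtain ⟨u, hu⟩ := hQ
  refine ⟨orderOf u, orderOf_pos u, fun x => ?_⟩
  have h1 : ((Q ^ orderOf u : ℤ) : ZMod M) = ((1 : ℤ) : ZMod M) := by
    rw [Int.cast_pow, ← hu, ← Units.val_pow_eq_pow_val, pow_orderOf_eq_one, Units.val_one, Int.cast_one]
  rw [ZMod.intCast_eq_intCast_iff_dvd_sub] at h1
  obtain ⟨s, hs⟩ := h1
  have h2 : Q ^ orderOf u = 1 - M * s := by linarith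
  rw [h2, zpow_sub, zpow_one, zpow_mul, zpow_natCast, ← hM, pow_card_eq_one', one_zpow, inv_one, mul_one]

theorem mk_eq_iff [Finite K] (hM : Nat.card Kˣ = M) (hQ : IsUnit (Q : ZMod M)) (x y : Kˣ) :
    Quotient.mk (orbSetoid K Q) y = Quotient.mk (orbSetoid K Q) x ↔ ∃ j : ℕ, y = x ^ (Q ^ j) := by
  rw [Quotient.eq]
  constructor
  · rintro ⟨i, j, h⟩
    obtain ⟨L, hL, hper⟩ := exists_period hM hQ
    have hper' : ∀ (x : Kˣ) (m : ℕ), x ^ (Q ^ (m * L)) = x := by
      intro x m
      induction m with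
      | zero => rw [zero_mul, pow_zero, zpow_one]
      | succ m ih => rw [Nat.succ_mul, pow_add, zpow_mul, ih, hper]
    refine ⟨j + i * (L - 1), ?_⟩
    have h1 : i + i * (L - 1) = i * L := by
      obtain ⟨L', rfl⟩ : ∃ L', L = L' + 1 := ⟨L - 1, by omega⟩
      rw [Nat.add_sub_cancel]
      ring
    rw [pow_add, zpow_mul, ← h, ← zpow_mul, ← pow_add, h1, hper']
  · rintro ⟨j, rfl⟩
    exact ⟨0, j, by rw [pow_zero, zpow_one]⟩

/-- the orbit of `x` -/
theorem orb_equiv [Finite K] (hM : Nat.card Kˣ = M) (hQ : IsUnit (Q : ZMod M)) {o : Orb K Q} {x : Kˣ}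
    (hx : Quotient.mk (orbSetoid K Q) x = o) :
    ∃ e : Fin (dOrb K Q o) ≃ {y : Kˣ // (Quotient.mk (orbSetoid K Q) y) = o}, ∀ i, ((e i : Kˣ)) = x ^ (Q ^ (i : ℕ)) := by
  set d := Function.minimalPeriod (fun z : Kˣ => z ^ Q) x with hd
  let f : Fin d → {y : Kˣ // (Quotient.mk (orbSetoid K Q) y) = o} := fun i =>
    ⟨x ^ (Q ^ (i : ℕ)), by rw [← hx]; exact (mk_eq_iff hM hQ _ _).2 ⟨i, rfl⟩⟩
  obtain ⟨L, hL, hper⟩ := exists_period (K := K) hM hQ
  have hpos : 0 < d := by
    rw [hd]
    refine Function.minimalPeriod_pos_of_mem_periodicPts ⟨L, hL, ?_⟩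
    show (fun z : Kˣ => z ^ Q)^[L] x = x
    rw [iterate_pow, hper]
  have hf : Function.Bijective f := by
    constructor
    · intro i j hij
      have h1 : (fun z : Kˣ => z ^ Q)^[(i : ℕ)] x = (fun z : Kˣ => z ^ Q)^[(j : ℕ)] x := by
        rw [iterate_pow, iterate_pow]
        exact congrArg Subtype.val hij
      exact Fin.ext (Function.iterate_injOn_Iio_minimalPeriod i.2 j.2 h1)
    · rintro ⟨y, hy⟩
      rw [← hx] at hy
      obtain ⟨j, hj⟩ := (mk_eq_iff hM hQ _ _).1 hy
      refine ⟨⟨j % d, Nat.mod_lt _ hpos⟩, Subtype.ext ?_⟩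
      show x ^ (Q ^ (j % d)) = y
      rw [hj, ← iterate_pow, ← iterate_pow, hd, Function.iterate_mod_minimalPeriod_eq]
  have hcard : dOrb K Q o = d := by
    rw [dOrb, ← Nat.card_congr (Equiv.ofBijective f hf), Nat.card_fin]
  refine ⟨(finCongr hcard).trans (Equiv.ofBijective f hf), fun i => ?_⟩
  rfl

theorem dOrb_pos [Finite K] (o : Orb K Q) : 0 < dOrb K Q o := by
  obtain ⟨x, hx⟩ := Quotient.exists_rep o
  have : Nonempty {y : Kˣ // (Quotient.mk (orbSetoid K Q) y) = o} := ⟨⟨x, hx⟩⟩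
  exact Nat.card_pos

theorem pow_dOrb [Finite K] (hM : Nat.card Kˣ = M) (hQ : IsUnit (Q : ZMod M)) {o : Orb K Q} {x : Kˣ}
    (hx : Quotient.mk (orbSetoid K Q) x = o) : x ^ (Q ^ dOrb K Q o) = x := by
  -- a bijection of the orbit shows that the minimal period is the size
  obtain ⟨e, he⟩ := orb_equiv hM hQ hx
  have hpos := dOrb_pos o
  have h1 : Quotient.mk (orbSetoid K Q) (x ^ (Q ^ dOrb K Q o)) = o := by
    rw [← hx]
    exact (mk_eq_iff hM hQ _ _).2 ⟨_, rfl⟩
  obtain ⟨i, hi⟩ := e.surjective ⟨_, h1⟩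
  have h2 : x ^ (Q ^ (i : ℕ)) = x ^ (Q ^ dOrb K Q o) := by
    rw [← he i, hi]
  -- cancel
  obtain ⟨L, hL, hper⟩ := exists_period (K := K) hM hQ
  have hinj : Function.Injective fun z : Kˣ => z ^ Q := by
    intro z w h
    have h3 : ∀ z : Kˣ, (z ^ Q) ^ (Q ^ (L - 1)) = z := by
      intro z
      rw [← zpow_mul, ← pow_succ', Nat.sub_add_cancel hL, hper]
    rw [← h3 z, ← h3 w]
    exact congrArg (· ^ (Q ^ (L - 1))) h
  rcases Nat.eq_zero_or_pos (i : ℕ) with h0 | h0
  · rw [← h2, h0, pow_zero, zpow_one]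
  · exfalso
    have h4 : (fun z : Kˣ => z ^ Q)^[(i : ℕ)] x = (fun z : Kˣ => z ^ Q)^[(i : ℕ)] (x ^ (Q ^ (dOrb K Q o - i))) := by
      rw [iterate_pow, iterate_pow, ← zpow_mul, ← pow_add, Nat.sub_add_cancel i.2.le, h2]
    have h5 := (hinj.iterate (i : ℕ)) h4
    have h6 : e ⟨0, hpos⟩ = e ⟨dOrb K Q o - i, by omega⟩ := by
      refine Subtype.ext ?_
      rw [he, he]
      show x ^ (Q ^ 0) = x ^ (Q ^ (dOrb K Q o - i))
      rw [pow_zero, zpow_one]
      exact h5
    have h7 := congrArg Fin.val (e.injective h6)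
    simp only [] at h7
    have := i.2
    omega

theorem pow_of_dvd [Finite K] (hM : Nat.card Kˣ = M) (hQ : IsUnit (Q : ZMod M)) {o : Orb K Q} {x : Kˣ}
    (hx : Quotient.mk (orbSetoid K Q) x = o) {k : ℕ} (hk : dOrb K Q o ∣ k) : x ^ (Q ^ k) = x := by
  obtain ⟨m, rfl⟩ := hk
  induction m with
  | zero => rw [mul_zero, pow_zero, zpow_one]
  | succ m ih => rw [Nat.mul_succ, pow_add, zpow_mul, ih, pow_dOrb hM hQ hx]

end Orbits

/-! ### theta sums -/

section Theta

variable {K : Type*} [Field K] [Finite K] (θ : K →*₀ ℂ) {Q : ℤ} {M : ℕ}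

/-- the sum of `θ ^ a` over an orbit -/
noncomputable def thA (Q : ℤ) (a : ℤ) (o : Orb K Q) : ℂ :=
  ∑ᶠ y : {y : Kˣ // (Quotient.mk (orbSetoid K Q) y) = o}, θ ((y : Kˣ) : K) ^ a

/-- the polynomial `∏ (1 + θ(y) ^ x X)` over an orbit -/
noncomputable def gx (Q : ℤ) (x : ℤ) (o : Orb K Q) : ℂ[X] :=
  ∏ᶠ y : {y : Kˣ // (Quotient.mk (orbSetoid K Q) y) = o}, (1 + C (θ ((y : Kˣ) : K) ^ x) * X)

theorem gx_coeff_zero (x : ℤ) (o : Orb K Q) : (gx θ Q x o).coeff 0 = 1 := by
  classical
  have := Fintype.ofFinite {y : Kˣ // (Quotient.mk (orbSetoid K Q) y) = o}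
  rw [gx, finprod_eq_prod_of_fintype, coeff_zero_prod]
  exact Finset.prod_eq_one fun y _ => by simp

theorem theta_pow (y : Kˣ) (x : ℤ) (n : ℤ) : θ (((y ^ n : Kˣ)) : K) ^ x = θ (y : K) ^ (x * n) := by
  rw [Units.val_zpow_eq_zpow_val, map_zpow₀, ← zpow_mul, mul_comm]

theorem theta_ne (y : Kˣ) : θ (y : K) ≠ 0 := by
  rw [Ne, map_eq_zero]
  exact y.ne_zero

/-- the elementary symmetric sums over an orbit -/
theorem sum_thA (hM : Nat.card Kˣ = M) (hQ : IsUnit (Q : ZMod M)) (x : ℤ) (o : Orb K Q) {r : ℕ}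
    (hr : dOrb K Q o ∣ r) (a : ℕ) :
    ∑ S ∈ (Finset.range r).powersetCard a, thA θ Q (x * ∑ j ∈ S, Q ^ j) o =
      dOrb K Q o * (gx θ Q x o ^ (r / dOrb K Q o)).coeff a := by
  classical
  have := Fintype.ofFinite {y : Kˣ // (Quotient.mk (orbSetoid K Q) y) = o}
  simp only [thA, finsum_eq_sum_of_fintype]
  rw [Finset.sum_comm]
  have h1 : ∀ y : {y : Kˣ // (Quotient.mk (orbSetoid K Q) y) = o},
      ∑ S ∈ (Finset.range r).powersetCard a, θ ((y : Kˣ) : K) ^ (x * ∑ j ∈ S, Q ^ j) =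
        (gx θ Q x o ^ (r / dOrb K Q o)).coeff a := by
    rintro ⟨y, hy⟩
    simp only []
    have h2 : ∀ S : Finset ℕ, θ (y : K) ^ (x * ∑ j ∈ S, Q ^ j) = ∏ j ∈ S, θ (y : K) ^ (x * Q ^ j) := by
      intro S
      rw [Finset.mul_sum]
      induction S using Finset.induction_on with
      | empty => rw [Finset.sum_empty, Finset.prod_empty, zpow_zero]
      | insert j S hj ih => rw [Finset.sum_insert hj, Finset.prod_insert hj, zpow_add₀ (theta_ne θ y), ih]
    rw [Finset.sum_congr rfl fun S _ => h2 S, ← coeff_prod_one_add]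
    congr 1
    obtain ⟨m, rfl⟩ := hr
    rw [Nat.mul_div_cancel_left _ (dOrb_pos o), prod_periodic]
    · congr 1
      obtain ⟨e, he⟩ := orb_equiv hM hQ hy
      rw [gx, finprod_eq_prod_of_fintype, ← Fintype.prod_equiv e (fun i => 1 + C (θ (y : K) ^ (x * Q ^ (i : ℕ))) * X)
        (fun z => 1 + C (θ ((z : Kˣ) : K) ^ x) * X) (fun i => by rw [he, theta_pow]), Finset.prod_range]
    · intro j
      have h3 : θ (y : K) ^ (x * Q ^ (j + dOrb K Q o)) = θ (y : K) ^ (x * Q ^ j) := by
        rw [← theta_pow θ y x (Q ^ (j + dOrb K Q o)), ← theta_pow θ y x (Q ^ j), add_comm j, pow_add, zpow_mul,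
          pow_dOrb hM hQ hy]
      rw [h3]
  rw [Finset.sum_congr rfl fun y _ => h1 y, Finset.sum_const, nsmul_eq_mul, Finset.card_univ, dOrb,
    Nat.card_eq_fintype_card]

/-- the theta sums depend on the exponent modulo `Q ^ k - 1` -/
theorem thA_congr (hM : Nat.card Kˣ = M) (hQ : IsUnit (Q : ZMod M)) {o : Orb K Q} {k : ℕ} (hk : dOrb K Q o ∣ k)
    {a b : ℤ} (hab : Q ^ k - 1 ∣ a - b) : thA θ Q a o = thA θ Q b o := by
  unfold thA
  refine finsum_congr fun y => ?_
  obtain ⟨s, hs⟩ := hab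
  have h1 : a = b + (Q ^ k - 1) * s := by linarith
  have h2 : θ (((y : Kˣ)) : K) ^ (Q ^ k - 1) = 1 := by
    have h3 := pow_of_dvd hM hQ y.2 hk
    rw [zpow_sub₀ (theta_ne θ _), zpow_one, ← map_zpow₀, ← Units.val_zpow_eq_zpow_val, h3,
      div_self (theta_ne θ _)]
  rw [h1, zpow_add₀ (theta_ne θ _), zpow_mul, h2, one_zpow, mul_one]

theorem thA_Q (hM : Nat.card Kˣ = M) (hQ : IsUnit (Q : ZMod M)) (o : Orb K Q) (a : ℤ) :
    thA θ Q (Q * a) o = thA θ Q a o := by
  classical
  have := Fintype.ofFinite {y : Kˣ // (Quotient.mk (orbSetoid K Q) y) = o}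
  obtain ⟨L, hL, hper⟩ := exists_period (K := K) hM hQ
  have hmem : ∀ y : {y : Kˣ // (Quotient.mk (orbSetoid K Q) y) = o}, ∀ j : ℕ,
      Quotient.mk (orbSetoid K Q) ((y : Kˣ) ^ (Q ^ j)) = o := fun y j => by
    conv_rhs => rw [← y.2]
    exact (mk_eq_iff hM hQ _ _).2 ⟨j, rfl⟩
  let e : {y : Kˣ // (Quotient.mk (orbSetoid K Q) y) = o} ≃ {y : Kˣ // (Quotient.mk (orbSetoid K Q) y) = o} :=
    { toFun := fun y => ⟨(y : Kˣ) ^ (Q ^ 1), hmem y 1⟩
      invFun := fun y => ⟨(y : Kˣ) ^ (Q ^ (L - 1)), hmem y (L - 1)⟩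
      left_inv := fun y => Subtype.ext (by
        show ((y : Kˣ) ^ (Q ^ 1)) ^ (Q ^ (L - 1)) = y
        rw [← zpow_mul, ← pow_add, Nat.add_sub_cancel' hL, hper])
      right_inv := fun y => Subtype.ext (by
        show ((y : Kˣ) ^ (Q ^ (L - 1))) ^ (Q ^ 1) = y
        rw [← zpow_mul, ← pow_add, Nat.sub_add_cancel hL, hper]) }
  rw [thA, thA, finsum_eq_sum_of_fintype, finsum_eq_sum_of_fintype]
  refine Fintype.sum_equiv e _ _ fun y => ?_
  show θ ((y : Kˣ) : K) ^ (Q * a) = θ ((((y : Kˣ) ^ (Q ^ 1) : Kˣ)) : K) ^ a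
  rw [theta_pow, pow_one, mul_comm]

theorem thO_eq (k : ℕ) (c : ZMod M) (o : Orb K Q) : thO θ Q M k c o = thA θ Q (expoZ Q M k c) o := rfl

/-- exactness of the division in the exponent -/
theorem expoZ_mul [NeZero M] {k : ℕ} {c : ZMod M} (hc : TorZ Q M k c) :
    expoZ Q M k c * M = c.val * (Q ^ k - 1) := by
  unfold expoZ
  refine Int.ediv_mul_cancel ?_
  have h1 : (((c.val : ℤ) * (Q ^ k - 1) : ℤ) : ZMod M) = 0 := by
    push_cast
    rw [ZMod.natCast_zmod_val, mul_comm]
    exact hc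
  exact (ZMod.intCast_zmod_eq_zero_iff_dvd _ _).1 h1

/-- the exponent of a label given by an integer -/
theorem expoZ_intCast [NeZero M] {k : ℕ} (hk : Q ^ k - 1 ∣ (M : ℤ)) (a : ℤ) :
    Q ^ k - 1 ∣ expoZ Q M k (((a * ((M : ℤ) / (Q ^ k - 1)) : ℤ)) : ZMod M) - a := by
  set c : ZMod M := (((a * ((M : ℤ) / (Q ^ k - 1)) : ℤ)) : ZMod M) with hc
  have hM0 : (M : ℤ) ≠ 0 := by exact_mod_cast NeZero.ne M
  have h0 : (Q ^ k - 1) * ((M : ℤ) / (Q ^ k - 1)) = M := Int.mul_ediv_cancel' hk
  have hT : TorZ Q M k c := by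
    rw [TorZ, hc]
    have h1 : ((Q : ZMod M) ^ k - 1) * (((a * ((M : ℤ) / (Q ^ k - 1)) : ℤ)) : ZMod M) =
        (((Q ^ k - 1) * (a * ((M : ℤ) / (Q ^ k - 1))) : ℤ) : ZMod M) := by push_cast; ring
    rw [h1, ZMod.intCast_zmod_eq_zero_iff_dvd]
    exact ⟨a, by linear_combination a * h0⟩
  have h1 : (M : ℤ) ∣ (c.val : ℤ) - a * ((M : ℤ) / (Q ^ k - 1)) := by
    rw [← ZMod.intCast_zmod_eq_zero_iff_dvd]
    push_cast
    rw [ZMod.natCast_zmod_val, hc]
    push_cast
    ring
  obtain ⟨s, hs⟩ := h1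
  refine ⟨s, ?_⟩
  have h2 := expoZ_mul hT
  apply mul_right_cancel₀ hM0
  rw [sub_mul, h2]
  linear_combination (Q ^ k - 1) * hs + a * h0

theorem TorZ_intCast {k : ℕ} (hk : Q ^ k - 1 ∣ (M : ℤ)) (a : ℤ) :
    TorZ Q M k (((a * ((M : ℤ) / (Q ^ k - 1)) : ℤ)) : ZMod M) := by
  rw [TorZ]
  have h0 : (Q ^ k - 1) * ((M : ℤ) / (Q ^ k - 1)) = M := Int.mul_ediv_cancel' hk
  have h1 : ((Q : ZMod M) ^ k - 1) * (((a * ((M : ℤ) / (Q ^ k - 1)) : ℤ)) : ZMod M) =
      (((Q ^ k - 1) * (a * ((M : ℤ) / (Q ^ k - 1))) : ℤ) : ZMod M) := by push_cast; ring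
  rw [h1, ZMod.intCast_zmod_eq_zero_iff_dvd]
  exact ⟨a, by linear_combination a * h0⟩

/-- `thO` is invariant under the action of `Q` on the labels -/
theorem thO_pow (hM : Nat.card Kˣ = M) [NeZero M] (hQ : IsUnit (Q : ZMod M)) {k : ℕ} {c : ZMod M}
    (hc : TorZ Q M k c) {o : Orb K Q} (hk : dOrb K Q o ∣ k) (j : ℕ) :
    thO θ Q M k ((Q : ZMod M) ^ j * c) o = thO θ Q M k c o := by
  have hM0 : (M : ℤ) ≠ 0 := by exact_mod_cast NeZero.ne M
  have key : ∀ c : ZMod M, TorZ Q M k c → thO θ Q M k ((Q : ZMod M) * c) o = thO θ Q M k c o := by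
    intro c hc
    have hc' : TorZ Q M k ((Q : ZMod M) * c) := by
      rw [TorZ] at hc ⊢
      rw [mul_left_comm, hc, mul_zero]
    rw [thO_eq, thO_eq, ← thA_Q θ hM hQ o (expoZ Q M k c)]
    refine thA_congr θ hM hQ hk ?_
    have h1 : (M : ℤ) ∣ (((Q : ZMod M) * c).val : ℤ) - Q * c.val := by
      rw [← ZMod.intCast_zmod_eq_zero_iff_dvd]
      push_cast
      rw [ZMod.natCast_zmod_val, ZMod.natCast_zmod_val, sub_self]
    obtain ⟨s, hs⟩ := h1
    refine ⟨s, ?_⟩
    have h2 := expoZ_mul hc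
    have h3 := expoZ_mul hc'
    apply mul_right_cancel₀ hM0
    rw [sub_mul, h3, mul_assoc, h2]
    linear_combination (Q ^ k - 1) * hs
  induction j with
  | zero => rw [pow_zero, one_mul]
  | succ j ih =>
    rw [pow_succ', mul_assoc, key, ih]
    rw [TorZ] at hc ⊢
    rw [mul_left_comm, hc, mul_zero]

theorem Pop_pow (hM : Nat.card Kˣ = M) [NeZero M] (hQ : IsUnit (Q : ZMod M)) {k : ℕ} {c : ZMod M}
    (hc : TorZ Q M k c) (j : ℕ) : Pop θ Q M k ((Q : ZMod M) ^ j * c) = Pop θ Q M k c := by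
  classical
  rw [Pop_eq, Pop_eq]
  refine Finset.sum_congr rfl fun o _ => ?_
  split_ifs with h
  · rw [thO_pow θ hM hQ hc h.2]
  · rfl

theorem Pop_canon (hM : Nat.card Kˣ = M) [NeZero M] (hQ : IsUnit (Q : ZMod M)) {k : ℕ} {c : ZMod M}
    (hc : TorZ Q M k c) : Pop θ Q M k (canon Q M c) = Pop θ Q M k c := by
  have h : ∃ j : ℕ, canon Q M c = (Q : ZMod M) ^ j * c := by
    have hne : {n : ℕ | ∃ j : ℕ, n = ((Q : ZMod M) ^ j * c).val}.Nonempty := ⟨_, 0, rfl⟩
    obtain ⟨j, hj⟩ := Nat.sInf_mem hne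
    refine ⟨j, ?_⟩
    rw [canon]
    conv_lhs => rw [hj]
    rw [ZMod.natCast_zmod_val]
  obtain ⟨j, hj⟩ := h
  rw [hj, Pop_pow θ hM hQ hc]

end Theta

/-! ### the exterior powers -/

section Main

variable {K : Type*} [Field K] [Finite K] (θ : K →*₀ ℂ) {Q : ℤ} {M N : ℕ}

/-- a cuspidal variable acts as the cuspidal operator -/
theorem evR_rv_mul (h2 : I2S) (hM : Nat.card Kˣ = M) [NeZero M] (hQ : IsUnit (Q : ZMod M)) {k : ℕ} (hk : 0 < k)
    {c : ZMod M} (hc : TorZ Q M k c) (x : RS M) :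
    evR θ Q M (rv Q M k c * x) = Pop θ Q M k c (evR θ Q M x) := by
  rw [rv, if_pos ⟨hk, hc⟩, evR_X_mul θ Q M h2]
  rw [Pop_canon θ hM hQ hc]

/-- the sum of the cuspidal operators -/
theorem sum_Pop (hM : Nat.card Kˣ = M) [NeZero M] (hQ : IsUnit (Q : ZMod M)) {r : ℕ} (hr : 0 < r)
    (hdvd : Q ^ r - 1 ∣ (M : ℤ)) (x : ℤ) (a : ℕ) :
    ∑ S ∈ (Finset.range r).powersetCard a,
      Pop θ Q M r (((x * (∑ j ∈ S, Q ^ j) * ((M : ℤ) / (Q ^ r - 1)) : ℤ)) : ZMod M) =
        PQ (dOrb K Q) Q (gx θ Q x) r a := by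
  classical
  simp only [Pop_eq]
  rw [Finset.sum_comm, PQ]
  refine Finset.sum_congr rfl fun o _ => ?_
  by_cases ho : dOrb K Q o ∣ r
  · simp only [if_pos (show 0 < r ∧ dOrb K Q o ∣ r from ⟨hr, ho⟩), if_pos ho]
    rw [← Finset.sum_smul, ← sum_thA θ hM hQ x o ho a]
    congr 1
    refine Finset.sum_congr rfl fun S _ => ?_
    rw [thO_eq]
    exact thA_congr θ hM hQ ho (expoZ_intCast hdvd _)
  · simp only [if_neg (show ¬ (0 < r ∧ dOrb K Q o ∣ r) from fun h => ho h.2), if_neg ho]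
    exact Finset.sum_const_zero

/-- **The exterior powers act as the necklace operators.** -/
theorem evR_En (h2 : I2S) (hM : Nat.card Kˣ = M) [NeZero M] (hQ : IsUnit (Q : ZMod M))
    (hdvd : ∀ k, 0 < k → k ≤ N → Q ^ k - 1 ∣ (M : ℤ)) (x : ℤ) (y : RS M) : ∀ n ≤ N, ∀ k : ℕ,
    evR θ Q M (H421.GLn.En Q M n k x * y) = Eop (dOrb K Q) Q (gx θ Q x) n k (evR θ Q M y) := by
  classical
  intro n
  induction n using Nat.strong_induction_on with
  | _ n ih =>
    intro hn k
    rcases Nat.eq_zero_or_pos n with rfl | hn0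
    · rw [H421.GLn.En_zero, Eop_zero _ _ _ dOrb_pos]
      split_ifs
      · rw [one_mul, Module.End.one_apply]
      · rw [zero_mul, map_zero, LinearMap.zero_apply]
    have h1 := H421.GLn.En_rec (Q := Q) (M := M) n k x
    have h3 := Eop_rec (dOrb K Q) Q (gx θ Q x) dOrb_pos n k
    have hne : (n : ℂ) ≠ 0 := Nat.cast_ne_zero.2 hn0.ne'
    have h4 : (n : ℂ) • evR θ Q M (H421.GLn.En Q M n k x * y) =
        (n : ℂ) • Eop (dOrb K Q) Q (gx θ Q x) n k (evR θ Q M y) := by
      rw [← map_smul, Nat.cast_smul_eq_nsmul, nsmul_eq_mul, ← mul_assoc, h1, Nat.cast_smul_eq_nsmul,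
        ← LinearMap.smul_apply, h3, Finset.sum_range_succ']
      simp only [PQ_zero, zero_mul, Finset.sum_const_zero, add_zero]
      rw [Finset.sum_mul, map_sum, LinearMap.sum_apply]
      refine Finset.sum_congr rfl fun i hi => ?_
      rw [Finset.mem_range] at hi
      rw [Finset.sum_mul, map_sum, LinearMap.sum_apply]
      refine Finset.sum_congr rfl fun w _ => ?_
      have hd' := hdvd (i + 1) i.succ_pos (by omega)
      rw [Module.End.mul_apply, Nat.sub_sub, Nat.add_comm 1 i, ← ih (n - (i + 1)) (by omega) (by omega) w.2,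
        ← sum_Pop θ hM hQ i.succ_pos hd' x w.1, LinearMap.sum_apply, mul_assoc, Finset.sum_mul, map_sum]
      refine Finset.sum_congr rfl fun S _ => ?_
      rw [H421.GLn.Prs, evR_rv_mul θ h2 hM hQ i.succ_pos (TorZ_intCast hd' _)]
    exact smul_right_injective _ hne h4

end Main

/-! ### R3 -/

section R3

variable {K : Type*} [Field K] {θ : K →*₀ ℂ} {Q : ℤ} {M N : ℕ}
variable {G : ℕ → Type u} [∀ n, Group (G n)] [∀ n, Finite (G n)]
  {T : ∀ n, n ≤ N → TypeData (dOrb K Q) Q (G n) n}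

/-- the elementary symmetric functions of the lifted eigenvalues are generalized characters -/
def EInt (θ : K →*₀ ℂ) (T : ∀ n, n ≤ N → TypeData (dOrb K Q) Q (G n) n) : Prop :=
  ∀ (x : ℤ) (n k : ℕ), GC T n (fun lam => (Wt (gx θ Q x) (sz lam)).coeff k)

/-- the Weil kernels are generalized characters -/
def WInt (T : ∀ n, n ≤ N → TypeData (dOrb K Q) Q (G n) n) : Prop :=
  ∀ n m (hn : n ≤ N) (hm : m ≤ N), IsGeneralizedCharacter (G n × G m) fun x =>
    (Q.sign : ℂ) ^ (n * m) * (Q : ℂ) ^ tip (dOrb K Q) ((T n hn).typ x.1) ((T m hm).typ x.2⁻¹)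

theorem CtxQ.neM (ctx : CtxQ θ Q M N) : NeZero M := ⟨by
  have := ctx.finK
  rw [← ctx.card]
  exact (Nat.card_pos (α := Kˣ)).ne'⟩

theorem finite_tdeg (ctx : CtxQ θ Q M N) (n : ℕ) : {lam : Ty (Orb K Q) | tdeg (dOrb K Q) lam = n}.Finite := by
  have := ctx.finK
  have h1 : Finite (Orb K Q) := inferInstance
  exact H315.GU.finite_tofDeg (dOrb K Q) dOrb_pos (fun n => Set.toFinite _) n

theorem R3_one (ctx : CtxQ θ Q M N) (n : ℕ) : GC T n (evR θ Q M 1) := by
  rw [evR_one]
  rcases Nat.eq_zero_or_pos n with rfl | hn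
  · refine (GC.one (T := T) (n := 0)).congr fun lam hlam => ?_
    have := ctx.finK
    rw [vac, if_pos]
    ext1 o
    have h3 := mul_le_vdeg (dOrb K Q) (sz lam) o
    rw [vdeg_sz, sz_apply, hlam] at h3
    have h4 : (lam o).size = 0 := by
      have := (Nat.le_mul_of_pos_left _ (dOrb_pos o)).trans h3
      omega
    rw [Finsupp.coe_zero, Pi.zero_apply]
    exact (col_eq_of_le (k := 0) (l := lam o) (fun i => Nat.zero_le _) (by rw [h4, Col.size_zero])).symm
  · refine (GC.zero (T := T) (n := n)).congr fun lam hlam => ?_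
    rw [vac, if_neg]
    · rfl
    · rintro rfl
      rw [tdeg, Finsupp.sum_zero_index] at hlam
      omega

/-- **R3**: the exterior powers preserve generalized characters -/
theorem R3_ext (h2 : I2S) (ctx : CtxQ θ Q M N) (hE : EInt θ T) (hW : WInt T) {y : RS M}
    (hy : ∀ n, GC T n (evR θ Q M y)) {r : ℕ} (hr : r ≤ N) (k : ℕ) (x : ℤ) (n : ℕ) :
    GC T n (evR θ Q M (H421.GLn.En Q M r k x * y)) := by
  have := ctx.finK
  have := CtxQ.neM ctx
  rw [evR_En θ h2 ctx.card ctx.unit ctx.dvd x y r hr k]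
  exact gc_Eop' dOrb_pos ctx.two (finite_tdeg ctx) hW (gx_coeff_zero θ x) (hE x) hy r k n

end R3

end Cfsg.Agent.H531.GU
end

private theorem dce_bf3db2aa8571 : _root_.True := by
  try have : _root_.True := by simp only [_root_.Cfsg.Agent.H531.GU.thA.eq_1]
  try have : _root_.True := by simp only [_root_.Cfsg.Agent.H531.GU.Wt.eq_1]
  try have : _root_.True := by simp only [_root_.Cfsg.Agent.H615.GU.tdeg.eq_1]
  try have : _root_.True := by simp only [_root_.Cfsg.Agent.H531.GU.gx.eq_1]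
  try have : _root_.True := by simp only [_root_.Cfsg.Agent.H615.GU.dOrb.eq_1]
  exact _root_.True.intro
end

-- part: H623/GU/Tower
section
prune_inst 0x320000000000800000000000008000000
set_option linter.all false
open scoped Cfsg.Agent.FastGrp

-- part: H614/GLn/AbsLab
section
/-!
# Labels of irreducible characters, abstract version (for `S4536` and `S4537`)

`AbsR Q M N G om` : `om n : RS M →ₗ[ℂ] (G n → ℂ)`, `n ≤ N`, is a realization of the standard model in the class
functions of the finite groups `G n`: isometric, multiplication by the exterior powers `En` preserves generalized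
characters, and `[g = 1]` is in the image.  `AbsR.bij` : the labels classify the irreducible characters of `G n`.
-/

set_option autoImplicit false

open scoped ComplexConjugate

namespace Cfsg.Agent.H614.GLn.RSt

open MvPolynomial Cfsg Cfsg.Agent Cfsg.Agent.H614 Cfsg.Agent.H577.GLB.Std Cfsg.Agent.H614.GLn
open Cfsg.Agent.OddOrderCharacters.VChar

universe u

/-- an abstract realization of the standard model -/
structure AbsR (Q : ℤ) (M N : ℕ) [NeZero M] (G : ℕ → Type u) [∀ n, Group (G n)]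
    (om : ∀ n, RS M →ₗ[ℂ] (G n → ℂ)) : Prop where
  unit : IsUnit (Q : ZMod M)
  dvd : ∀ k, 0 < k → k ≤ N → Q ^ k - 1 ∣ (M : ℤ)
  one : ∀ n ≤ N, IsGeneralizedCharacter (G n) (om n 1)
  ext : ∀ y : RS M, (∀ n ≤ N, IsGeneralizedCharacter (G n) (om n y)) → ∀ (r k : ℕ) (x : ℤ), r ≤ N →
    ∀ n ≤ N, IsGeneralizedCharacter (G n) (om n (H421.GLn.En Q M r k x * y))
  iso : ∀ n ≤ N, ∀ [Fintype (G n)], ∀ x ∈ Hom Q M n, ∀ y ∈ Hom Q M n,
    classInner (om n x) (om n y) = form Q M x y
  del : ∀ n ≤ N, ∃ x ∈ Hom Q M n, om n x 1 ≠ 0 ∧ ∀ g : G n, g ≠ 1 → om n x g = 0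

namespace AbsR

variable {Q : ℤ} {M N : ℕ} [NeZero M] {G : ℕ → Type u} [∀ n, Group (G n)] [∀ n, Finite (G n)]
  {om : ∀ n, RS M →ₗ[ℂ] (G n → ℂ)} {m : ℕ}

/-- the multipliers of the generalized characters -/
def mulRing (N : ℕ) (om : ∀ n, RS M →ₗ[ℂ] (G n → ℂ)) : Subring (RS M) where
  carrier := {x | ∀ y : RS M, (∀ n ≤ N, IsGeneralizedCharacter (G n) (om n y)) →
    ∀ n ≤ N, IsGeneralizedCharacter (G n) (om n (x * y))}
  mul_mem' := fun {a b} ha hb y hy n hn => by
    rw [mul_assoc]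
    exact ha (b * y) (hb y hy) n hn
  one_mem' := fun y hy n hn => by rw [one_mul]; exact hy n hn
  add_mem' := fun {a b} ha hb y hy n hn => by
    rw [add_mul, map_add]
    exact gen_add (ha y hy n hn) (hb y hy n hn)
  zero_mem' := fun y hy n hn => by
    rw [zero_mul, map_zero]
    exact gen_zero
  neg_mem' := fun {a} ha y hy n hn => by
    rw [neg_mul, map_neg]
    exact gen_neg (ha y hy n hn)

omit [∀ n, Finite (G n)] in
theorem SchP_mem (R : AbsR Q M N G om) {n : ℕ} (hn : n ≤ N) (t : LabZ Q M m n) :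
    SchP Q M t.t ∈ mulRing N om := by
  rw [SchP_eq]
  unfold prodS
  refine Subring.prod_mem _ fun c hc => ?_
  have h1 := nuP_deg R.unit t.t t.orb
  rw [t.sum] at h1
  have h2 := Finset.single_le_sum (f := fun c => perZ Q M c * H577.GLB.Std.bsz (t.t c))
    (fun _ _ => Nat.zero_le _) hc
  have h3 : perZ Q M c * H577.GLB.Std.bsz (t.t c) ≤ N := h2.trans (h1.le.trans hn)
  rw [SS_eq_JT _ _ (sum_eq_bsz (t.mono c))]
  refine JT_mem (k := H577.GLB.Std.bsz (t.t c)) (fun j hj => ?_) (sum_eq_bsz (t.mono c))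
  rw [hh_eq_newt]
  refine H421.GLn.hRS_mem (N := N) R.unit R.dvd (mulRing N om) (fun r k x hr y hy n' hn' => R.ext y hy r k x hr n' hn')
    (perZ_pos R.unit c) ((torZ_iff _ _).2 dvd_rfl) ?_
  rw [mul_comm]
  exact (Nat.mul_le_mul_left _ hj).trans h3

omit [∀ n, Finite (G n)] in
theorem gen (R : AbsR Q M N G om) {n : ℕ} (hn : n ≤ N) (t : LabZ Q M m n) :
    IsGeneralizedCharacter (G n) (om n (SchP Q M t.t)) := by
  have h := R.SchP_mem hn t 1 R.one n hn
  rwa [mul_one] at h

theorem exists_irr (R : AbsR Q M N G om) {n : ℕ} (hn : n ≤ N) (t : LabZ Q M m n) :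
    ∃ (χ : IrrCharacter (G n)) (s : ℤˣ), om n (SchP Q M t.t) = (((s : ℤ) : ℂ)) • (χ : G n → ℂ) := by
  have : Fintype (G n) := Fintype.ofFinite _
  have h1 := R.gen hn t
  have h2 := R.iso n hn _ (SchP_mem_Hom R.unit t) _ (SchP_mem_Hom R.unit t)
  rw [form_SchP R.unit t t, if_pos rfl] at h2
  rcases Characters.Core.isIrr_of_generalized h1 h2 with h | h
  · exact ⟨⟨_, h⟩, 1, by simp⟩
  · exact ⟨⟨_, h⟩, -1, by simp⟩

/-- every irreducible character has a label -/
theorem exists_lab (R : AbsR Q M N G om) {n : ℕ} (hn : n ≤ N) (hm : n ≤ m) (χ : IrrCharacter (G n)) :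
    ∃ (t : LabZ Q M m n) (s : ℤˣ), om n (SchP Q M t.t) = (((s : ℤ) : ℂ)) • (χ : G n → ℂ) := by
  classical
  have : Fintype (G n) := Fintype.ofFinite _
  by_contra hne
  push Not at hne
  obtain ⟨x, hx, hx1, hx2⟩ := R.del n hn
  have h0 : ∀ t : LabZ Q M m n, classInner (om n (SchP Q M t.t)) (χ : G n → ℂ) = 0 := by
    intro t
    obtain ⟨ψ, s, hs⟩ := R.exists_irr hn t
    have hψ : (ψ : G n → ℂ) ≠ (χ : G n → ℂ) := fun h => hne t s (by rw [hs, h])
    rw [hs, Characters.Core.classInner_smul_left, Characters.Core.classInner_irr_ne ψ.2 χ.2 hψ, mul_zero]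
  have h1 : classInner (om n x) (χ : G n → ℂ) = 0 := by
    have h2 := Hom_le_span (m := m) R.unit hm hx
    refine Submodule.span_induction (p := fun x _ => classInner (om n x) (χ : G n → ℂ) = 0) ?_ ?_ ?_ ?_ h2
    · rintro _ ⟨t, rfl⟩
      exact h0 t
    · rw [map_zero, Characters.Core.classInner_zero_left]
    · intro a b _ _ ha hb
      rw [map_add, Characters.Core.classInner_add_left, ha, hb, add_zero]
    · intro c a _ ha
      rw [map_smul, Characters.Core.classInner_smul_left, ha, mul_zero]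
  rw [Characters.Core.classInner_def, Finset.sum_eq_single (1 : G n)] at h1
  · have h3 : (Nat.card (G n) : ℂ)⁻¹ ≠ 0 := inv_ne_zero (Nat.cast_ne_zero.2 Nat.card_pos.ne')
    have h4 := (mul_eq_zero.1 h1).resolve_left h3
    have h5 := (mul_eq_zero.1 h4).resolve_left hx1
    exact Characters.Core.isIrr_apply_one_ne_zero χ.2 ((map_eq_zero _).1 h5)
  · intro g _ hg
    rw [hx2 g hg, zero_mul]
  · intro h; exact absurd (Finset.mem_univ _) h

/-- **The labels classify the irreducible characters** (abstract GB1). -/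
theorem bij (R : AbsR Q M N G om) {n : ℕ} (hn : n ≤ N) (hm : n ≤ m) :
    (∀ χ : IrrCharacter (G n), ∃! t : LabZ Q M m n, ∃ s : ℤˣ,
      om n (SchP Q M t.t) = (((s : ℤ) : ℂ)) • (χ : G n → ℂ)) ∧
    (∀ t : LabZ Q M m n, ∃! χ : IrrCharacter (G n), ∃ s : ℤˣ,
      om n (SchP Q M t.t) = (((s : ℤ) : ℂ)) • (χ : G n → ℂ)) := by
  have : Fintype (G n) := Fintype.ofFinite _
  have hinner : ∀ {χ χ' : IrrCharacter (G n)} {t t' : LabZ Q M m n},
      (∃ s : ℤˣ, om n (SchP Q M t.t) = (((s : ℤ) : ℂ)) • (χ : G n → ℂ)) →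
      (∃ s : ℤˣ, om n (SchP Q M t'.t) = (((s : ℤ) : ℂ)) • (χ' : G n → ℂ)) →
      ((if t.t = t'.t then 1 else 0 : ℂ) ≠ 0 ↔ classInner (χ : G n → ℂ) (χ' : G n → ℂ) ≠ 0) := by
    rintro χ χ' t t' ⟨s, hs⟩ ⟨s', hs'⟩
    have h2 := R.iso n hn _ (SchP_mem_Hom R.unit t) _ (SchP_mem_Hom R.unit t')
    rw [form_SchP R.unit t t', hs, hs', Characters.Core.classInner_smul_left,
      Characters.Core.classInner_smul_right] at h2
    rw [← h2]
    have h3 : (((s : ℤ) : ℂ)) ≠ 0 := by exact_mod_cast s.ne_zero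
    have h4 : conj (((s' : ℤ) : ℂ)) ≠ 0 := by
      rw [map_intCast]; exact_mod_cast s'.ne_zero
    constructor
    · intro h h5
      exact h (by rw [h5]; simp)
    · intro h
      exact mul_ne_zero h3 (mul_ne_zero h4 h)
  refine ⟨fun χ => ?_, fun t => ?_⟩
  · obtain ⟨t, ht⟩ := R.exists_lab hn hm χ
    refine ⟨t, ht, fun t' ht' => ?_⟩
    by_contra hne
    have h1 := (hinner ht' ht).2 (by rw [Characters.Core.classInner_irr_self χ.2]; exact one_ne_zero)
    rw [if_neg (fun h2 => hne (LabZ.ext h2))] at h1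
    exact h1 rfl
  · obtain ⟨χ, hχ⟩ := R.exists_irr hn t
    refine ⟨χ, hχ, fun χ' hχ' => ?_⟩
    by_contra hne
    have h1 := (hinner hχ' hχ).1 (by rw [if_pos rfl]; exact one_ne_zero)
    exact h1 (Characters.Core.classInner_irr_ne χ'.2 χ.2 fun h => hne (Subtype.ext h))

end AbsR

end Cfsg.Agent.H614.GLn.RSt
end

-- part: H623/GU/Tower
section
/-!
# S4537: the realizations of the standard model given by types

`T : TypeData (dOrb K Q) Q X n` : the classes of the finite group `X` are the types of degree `n`.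

* `omT θ M T` : the evaluation of the standard model at the types of the elements of `X`;
* `RzHyp θ M p T` : (R2) and (R4) for `omT`; `RzHyp.rz` : the realization;
* `rz_gr` : monomials of the wrong weight are realized by zero;
* `absR_of` : the tower `T n`, `n ≤ N`, satisfies the hypotheses of `AbsR.bij`; `rz_bij`.
-/

set_option autoImplicit false

open Cfsg
open scoped ComplexConjugate TensorProduct

namespace Cfsg.Agent.H623.GU

open Cfsg.Agent.H577.GLB.Std Cfsg.Agent.H614 Cfsg.Agent.H614.GLn Cfsg.Agent.H615.GU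
open Cfsg.Agent.H112.GLB Cfsg.Agent.H608.BlockRank Cfsg.Agent.H531.GU

universe u v

section one

variable {K : Type v} [Field K] {Q : ℤ} {X : Type u} [Group X] {n : ℕ}

/-- the realization given by the types -/
noncomputable def omT (θ : K →*₀ ℂ) (M : ℕ) (T : TypeData (dOrb K Q) Q X n) : RS M →ₗ[ℂ] (X → ℂ) :=
  LinearMap.pi fun g => LinearMap.proj (T.typ g) ∘ₗ H615.GU.evR θ Q M

@[simp] theorem omT_apply (θ : K →*₀ ℂ) (M : ℕ) (T : TypeData (dOrb K Q) Q X n) (x : RS M) (g : X) :
    omT θ M T x g = H615.GU.evR θ Q M x (T.typ g) := rfl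

/-- (R2) and (R4) for the realization given by the types -/
structure RzHyp (θ : K →*₀ ℂ) (M : ℕ) [NeZero M] (p : ℕ) (T : TypeData (dOrb K Q) Q X n) : Prop where
  unit : IsUnit (Q : ZMod M)
  iso : ∀ [Fintype X], ∀ x ∈ Hom Q M n, ∀ y ∈ Hom Q M n, classInner (omT θ M T x) (omT θ M T y) = form Q M x y
  tau : ∀ x ∈ Hom Q M n, omT θ M T (tauP Q M p x) = pReg p (omT θ M T x)

variable {θ : K →*₀ ℂ} {M : ℕ} [NeZero M] {p : ℕ} {T : TypeData (dOrb K Q) Q X n}

/-- the realization -/
noncomputable def RzHyp.rz (h : RzHyp θ M p T) : Rz Q M p n X := ⟨omT θ M T, h.unit, h.iso, h.tau⟩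

theorem RzHyp.rz_om (h : RzHyp θ M p T) : h.rz.om = omT θ M T := rfl

theorem RzHyp.rz_om_apply (h : RzHyp θ M p T) (x : RS M) (g : X) : h.rz.om x g = H615.GU.evR θ Q M x (T.typ g) := rfl

theorem omT_eq_zero [Finite K] (h2 : I2S) (T : TypeData (dOrb K Q) Q X n) {x : RS M} {m : ℕ}
    (hx : x ∈ MvPolynomial.weightedHomogeneousSubmodule ℂ (fun v : Var M => v.1) m) (hm : m ≠ n) :
    omT θ M T x = 0 := by
  funext g
  rw [omT_apply, Pi.zero_apply]
  refine evR_supp θ Q M h2 hx _ ?_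
  rw [T.deg]
  exact hm.symm

theorem RzHyp.gr [Finite K] (h2 : I2S) (h : RzHyp θ M p T) : Gr h.rz := by
  intro m c hm
  rw [h.rz_om]
  refine omT_eq_zero h2 T (m := Finsupp.weight (fun v : Var M => v.1) m) ?_ hm
  rw [MvPolynomial.mem_weightedHomogeneousSubmodule]
  exact MvPolynomial.isWeightedHomogeneous_monomial _ _ _ rfl

end one

section tower

variable {K : Type v} [Field K] {θ : K →*₀ ℂ} {Q : ℤ} {M N : ℕ} [NeZero M] {G : ℕ → Type u} [∀ n, Group (G n)]
  [∀ n, Finite (G n)] {T : ∀ n, n ≤ N → TypeData (dOrb K Q) Q (G n) n} {p : ℕ}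

open Classical in
/-- the realizations of a tower, zero above `N` -/
noncomputable def omN (θ : K →*₀ ℂ) (M : ℕ) (T : ∀ n, n ≤ N → TypeData (dOrb K Q) Q (G n) n) (n : ℕ) :
    RS M →ₗ[ℂ] (G n → ℂ) :=
  if h : n ≤ N then omT θ M (T n h) else 0

theorem omN_eq {n : ℕ} (hn : n ≤ N) : omN θ M T n = omT θ M (T n hn) := dif_pos hn

/-- a tower satisfies the hypotheses of `AbsR.bij` -/
theorem absR_of (h2 : I2S) (ctx : CtxQ θ Q M N) (hE : EInt θ T) (hW : WInt T)
    (h : ∀ n (hn : n ≤ N), RzHyp θ M p (T n hn))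
    (hdel : ∀ n (hn : n ≤ N), ∃ x ∈ Hom Q M n, omT θ M (T n hn) x 1 ≠ 0 ∧ ∀ g : G n, g ≠ 1 → omT θ M (T n hn) x g = 0) :
    RSt.AbsR Q M N G (omN θ M T) where
  unit := ctx.unit
  dvd := ctx.dvd
  one := fun n hn => by
    rw [omN_eq hn]
    exact R3_one (T := T) ctx n hn
  ext := fun y hy r k x hr n hn => by
    rw [omN_eq hn]
    refine R3_ext (T := T) h2 ctx hE hW (y := y) (fun n' hn' => ?_) hr k x n hn
    have h1 := hy n' hn'
    rw [omN_eq hn'] at h1
    exact h1
  iso := fun n hn _ x hx y hy => by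
    rw [omN_eq hn]
    exact (h n hn).iso x hx y hy
  del := fun n hn => by
    rw [omN_eq hn]
    exact hdel n hn

/-- the labels classify the irreducible characters of the groups of a tower -/
theorem rz_bij (h2 : I2S) (ctx : CtxQ θ Q M N) (hE : EInt θ T) (hW : WInt T)
    (h : ∀ n (hn : n ≤ N), RzHyp θ M p (T n hn))
    (hdel : ∀ n (hn : n ≤ N), ∃ x ∈ Hom Q M n, omT θ M (T n hn) x 1 ≠ 0 ∧ ∀ g : G n, g ≠ 1 → omT θ M (T n hn) x g = 0)
    (n m : ℕ) (hn : n ≤ N) (hm : n ≤ m) : (h n hn).rz.Bij m := by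
  have h1 := (absR_of h2 ctx hE hW h hdel).bij hn hm
  rw [omN_eq hn] at h1
  exact h1

end tower

end Cfsg.Agent.H623.GU
end
end

-- part: H623/GU/Val
section
set_option linter.all false
open scoped Cfsg.Agent.FastGrp

/-!
# S4537: the values at `u (A, B)`

* `R67 θ Q M p f` : the coproduct formula for the evaluation at types; `r67` : its proof (from helper417's `evR_sec`);
* `val_of` : `Val` for the realizations given by types, from `R67` and the formula for the types of `j (A, B)`.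
-/

set_option autoImplicit false

open Cfsg
open scoped ComplexConjugate TensorProduct

namespace Cfsg.Agent.H623.GU

open Cfsg.Agent.H577.GLB.Std Cfsg.Agent.H614 Cfsg.Agent.H614.GLn Cfsg.Agent.H615.GU
open Cfsg.Agent.H577.GLB.Real (coP PhiF PGen frm)
open Cfsg.Agent.H112.GLB Cfsg.Agent.H608.BlockRank

universe u v

variable {K : Type v} [Field K] {θ : K →*₀ ℂ} {Q : ℤ} {M : ℕ} [NeZero M] {p n k l f : ℕ}

/-- the value of the realization at a type, as a functional -/
noncomputable def evT (θ : K →*₀ ℂ) (Q : ℤ) (M : ℕ) (lam : Ty (Orb K Q)) : RS M →ₗ[ℂ] ℂ :=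
  LinearMap.proj lam ∘ₗ H615.GU.evR θ Q M

open Classical in
/-- the coproduct formula for the evaluation at types (R6, R7) -/
def R67 (θ : K →*₀ ℂ) (Q : ℤ) (M p f : ℕ) : Prop :=
  ∀ z : Kˣ, (∃ a : ℕ, z ^ p ^ a = 1) → z ≠ 1 → (∀ j : ℕ, z ^ (Q ^ j) = z ↔ f ∣ j) → ∀ x ∈ PGen Q M p,
    ∀ (lam mu₂ : Ty (Orb K Q)) (mu₁ : Ty (Orb K (Q ^ f))), lam.filter (fun o => ¬ ZOrb K Q p z o) = mu₂ →
      (∀ y : Kˣ, (orderOf y).Coprime p → lam.filter (ZOrb K Q p z) (Quotient.mk (orbSetoid K Q) (z * y)) =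
        mu₁ (Quotient.mk (orbSetoid K (Q ^ f)) y)) → PregT (Q ^ f) p mu₁ → PregT Q p mu₂ →
      H615.GU.evR θ Q M x lam = LinearMap.mul' ℂ ℂ (TensorProduct.map (evT θ (Q ^ f) M mu₁ ∘ₗ (PhiF Q M f).toLinearMap)
        (evT θ Q M mu₂) (coP M x))

open Classical in
/-- **(R6), (R7).** -/
theorem r67 {N : ℕ} (ctx : CtxQ θ Q M N) (hp : p.Prime) (hf : 0 < f) : R67 θ Q M p f := by
  have := ctx.finK
  intro z hz hz1 hmin x hx lam mu₂ mu₁ hs1 hs2 hpr₁ hpr₂
  obtain ⟨a, ha⟩ := hz
  have hzf : z ^ (Q ^ f) = z := (hmin f).2 dvd_rfl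
  refine H417.GU.evR_sec θ H521.GU.i2s ctx.card ctx.unit ha hz1 hmin hf hx ⟨hpr₁, hpr₂, ?_, ?_, ?_⟩
  · intro y hy
    rw [← hs2 y hy, Finsupp.filter_apply_pos (ZOrb K Q p z) lam ⟨y, hy, rfl⟩]
  · intro y hy
    by_cases hyz : ZOrb K Q p z (Quotient.mk (orbSetoid K Q) y)
    · exfalso
      have h1 := b_eq_zero (f := f) hp ha hz1 hf hzf (b := fun x : Kˣ =>
        if (orderOf x).Coprime p then (⟨Finsupp.single 0 1, fun i j hij => by
          rcases Nat.eq_zero_or_pos j with rfl | hj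
          · rw [Nat.le_zero.1 hij]
          · rw [Finsupp.single_eq_of_ne hj.ne']
            exact Nat.zero_le _⟩ : Col) else 0) (fun x h => by
          by_contra hc
          exact h (if_neg hc)) hyz
      have h1' := h1.symm.trans (if_pos hy)
      have h2 := congrArg (fun c : Col => c 0) h1'
      have h3 : (0 : ℕ) = (Finsupp.single 0 1 : ℕ →₀ ℕ) 0 := h2
      rw [Finsupp.single_eq_same] at h3
      exact absurd h3 (by norm_num)
    · rw [← hs1, Finsupp.filter_apply_pos (fun o => ¬ ZOrb K Q p z o) lam hyz]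
  · intro x hx
    by_cases hxz : ZOrb K Q p z (Quotient.mk (orbSetoid K Q) x)
    · obtain ⟨y, hy, hxy⟩ := hxz
      exact ⟨y, hy, Or.inl hxy⟩
    · refine ⟨x, hpr₂ x ?_, Or.inr rfl⟩
      rw [← hs1, Finsupp.filter_apply_pos (fun o => ¬ ZOrb K Q p z o) lam hxz]
      exact hx

section

variable {G : Type u} [Group G] {X₁ : Type u} [Group X₁] {X₂ : Type u} [Group X₂]
  {T : TypeData (dOrb K Q) Q G n} {T₁ : TypeData (dOrb K (Q ^ f)) (Q ^ f) X₁ k} {T₂ : TypeData (dOrb K Q) Q X₂ l}

/-- **The values at `u (A, B)`.** -/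
theorem val_of (hp : p.Prime) (hf : 0 < f) (h67 : R67 θ Q M p f) (h : RzHyp θ M p T) (h₁ : RzHyp θ M p T₁)
    (h₂ : RzHyp θ M p T₂) (j : X₁ × X₂ →* G) (c : X₁) {z : Kˣ} {a₀ : ℕ} (hz : z ^ p ^ a₀ = 1) (hz1 : z ≠ 1)
    (hmin : ∀ j : ℕ, z ^ (Q ^ j) = z ↔ f ∣ j)
    (htyp : ∀ (A : X₁) (B : X₂) (x : Kˣ) (i : ℕ), T.typ (j (A, B)) (Quotient.mk (orbSetoid K Q) x) i =
      ∑ i' ∈ Finset.range f, T₁.typ A (Quotient.mk (orbSetoid K (Q ^ f)) (x ^ (Q ^ i'))) i +
        T₂.typ B (Quotient.mk (orbSetoid K Q) x) i)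
    (hsh : ∀ (A : X₁) (y : Kˣ), T₁.typ (c * A) (Quotient.mk (orbSetoid K (Q ^ f)) y) =
      T₁.typ A (Quotient.mk (orbSetoid K (Q ^ f)) (z⁻¹ * y)))
    (hpr₁ : ∀ A : X₁, ¬ p ∣ orderOf A → PregT (Q ^ f) p (T₁.typ A))
    (hpr₂ : ∀ B : X₂, ¬ p ∣ orderOf B → PregT Q p (T₂.typ B)) :
    Val h.rz h₁.rz h₂.rz j (j (c, 1)) := by
  classical
  intro x hx A B hA hB
  rw [← map_mul, Prod.mk_mul_mk, one_mul, h.rz_om_apply]
  obtain ⟨hs1, hs2⟩ := types_split (f := f) (lam := T.typ (j (c * A, B))) (mu := T₂.typ B) (nu := T₁.typ A)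
    (a := fun y => T₁.typ A (Quotient.mk (orbSetoid K (Q ^ f)) y))
    (b := fun y => T₂.typ B (Quotient.mk (orbSetoid K Q) y))
    (c := fun x => T.typ (j (c * A, B)) (Quotient.mk (orbSetoid K Q) x)) hp hz hz1 hf ((hmin f).2 dvd_rfl)
    (fun i h0 hi h1 => absurd (Nat.le_of_dvd h0 ((hmin i).1 h1)) (not_le.2 hi))
    (hpr₁ A hA) (hpr₂ B hB) (fun x i => by
      simp only [htyp, hsh]) (fun x => rfl) (fun x => rfl) (fun x => rfl)
  exact h67 z ⟨a₀, hz⟩ hz1 hmin x hx _ _ _ hs1 hs2 (hpr₁ A hA) (hpr₂ B hB)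

end

end Cfsg.Agent.H623.GU
end

-- part: H623/GU/Geo
section
prune_inst 0x4156055403540020000040584b1207e82fd0004b2004b8809c1020a440a01a82280802f2103a030175228a28110040000001000e0005000000e20040000010120888042042140a10406009980018001000000000032000000000080000000000000c010000
set_option linter.all false
open scoped Cfsg.Agent.FastGrp

/-!
# S4537: the geometric hypothesis for the unitary groups

* `mcol_scl` : the columns of `z A`;
* `Tow` : towers of groups with realizations given by types;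
* `ctx_pow` : the standing hypotheses for `Q ^ f`;
* `geo_gu` : the hypothesis `Geo` for `GU_n(q)`.
-/

set_option autoImplicit false

open Cfsg
open scoped ComplexConjugate TensorProduct MatrixGroups

namespace Cfsg.Agent.H623.GU

open Cfsg.Agent.H577.GLB.Std Cfsg.Agent.H614 Cfsg.Agent.H614.GLn Cfsg.Agent.H615.GU
open Cfsg.Agent.H577.GLB.Real (coP PhiF PGen frm)
open Cfsg.Agent.H112.GLB Cfsg.Agent.H608.BlockRank Cfsg.Agent.H624.Sl Cfsg.Agent.H166.GUC

universe u v

section scl

variable {F : Type u} [Field F] {K : Type v} [Field K] [Algebra F K] {k : ℕ}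

theorem mcol_scl (z : Fˣ) (A : GL (Fin k) F) (y : Kˣ) :
    mcol ((scl k z * A : GL (Fin k) F) : Matrix (Fin k) (Fin k) F) (y : K) =
      mcol (A : Matrix (Fin k) (Fin k) F) ((((Units.map (algebraMap F K).toMonoidHom z)⁻¹ * y : Kˣ) : Kˣ) : K) := by
  obtain ⟨w, hw⟩ : ∃ w : Kˣ, w = Units.map (algebraMap F K).toMonoidHom z := ⟨_, rfl⟩
  rw [← hw]
  have hwz : (w : K) = algebraMap F K z := by rw [hw]; rfl
  have h1 : (((scl k z * A : GL (Fin k) F) : Matrix (Fin k) (Fin k) F).map (algebraMap F K) - Matrix.scalar (Fin k) (y : K)) =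
      (w : K) • (((A : Matrix (Fin k) (Fin k) F)).map (algebraMap F K) -
        Matrix.scalar (Fin k) (((w⁻¹ * y : Kˣ) : Kˣ) : K)) := by
    ext i j
    have h2 : ((scl k z * A : GL (Fin k) F) : Matrix (Fin k) (Fin k) F) i j = (z : F) * (A : Matrix (Fin k) (Fin k) F) i j := by
      change ((Matrix.scalar (Fin k) (z : F)) * (A : Matrix (Fin k) (Fin k) F)) i j = _
      rw [Matrix.scalar_apply, Matrix.diagonal_mul]
    rw [Matrix.sub_apply, Matrix.map_apply, h2, map_mul, Matrix.smul_apply, Matrix.sub_apply, Matrix.map_apply, smul_sub,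
      smul_eq_mul, smul_eq_mul, hwz, Matrix.scalar_apply, Matrix.scalar_apply]
    congr 1
    by_cases hij : i = j
    · subst hij
      rw [Matrix.diagonal_apply_eq, Matrix.diagonal_apply_eq, ← hwz, ← Units.val_mul, mul_inv_cancel_left]
    · rw [Matrix.diagonal_apply_ne _ hij, Matrix.diagonal_apply_ne _ hij, mul_zero]
  unfold mcol
  rw [h1]
  refine colOf_congr fun i => ?_
  obtain ⟨X, hX⟩ : ∃ X, X = (((A : Matrix (Fin k) (Fin k) F)).map (algebraMap F K) -
        Matrix.scalar (Fin k) (((w⁻¹ * y : Kˣ) : Kˣ) : K)) := ⟨_, rfl⟩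
  rw [← hX, smul_pow, Matrix.smul_eq_diagonal_mul]
  refine Matrix.rank_mul_eq_right_of_isUnit_det _ _ ?_
  rw [Matrix.det_diagonal, Finset.prod_const]
  exact ((w.isUnit.pow i).pow _)

end scl

section ctx

variable {K : Type v} [Field K] {θ : K →*₀ ℂ} {Q : ℤ} {M N : ℕ}

/-- the standing hypotheses for `Q ^ f` -/
theorem ctx_pow (ctx : CtxQ θ Q M N) {f k : ℕ} (hf : 0 < f) (hk : f * k ≤ N) : CtxQ θ (Q ^ f) M k where
  finK := ctx.finK
  inj := ctx.inj
  card := ctx.card
  dvd := fun j hj hjk => by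
    rw [← pow_mul]
    exact ctx.dvd _ (Nat.mul_pos hf hj) ((Nat.mul_le_mul_left _ hjk).trans hk)
  unit := by
    rw [Int.cast_pow]
    exact ctx.unit.pow f
  two := by
    rw [abs_pow]
    exact ctx.two.trans (le_self_pow₀ (by linarith [ctx.two]) hf.ne')

end ctx

section tow

variable {K : Type v} [Field K]

/-- a tower of finite groups with realizations given by types -/
structure Tow (θ : K →*₀ ℂ) (Q : ℤ) (M : ℕ) [NeZero M] (N p : ℕ) (G : ℕ → Type u) [∀ n, Group (G n)]
    [∀ n, Finite (G n)] where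
  /-- the types -/
  T : ∀ n, n ≤ N → TypeData (dOrb K Q) Q (G n) n
  hyp : ∀ n (hn : n ≤ N), RzHyp θ M p (T n hn)
  gr : ∀ n (hn : n ≤ N), Gr (hyp n hn).rz
  bij : ∀ (n m : ℕ) (hn : n ≤ N), n ≤ m → (hyp n hn).rz.Bij m
  preg : ∀ n (hn : n ≤ N) (g : G n), ¬ p ∣ orderOf g → PregT Q p ((T n hn).typ g)

variable {θ : K →*₀ ℂ} {Q : ℤ} {M : ℕ} [NeZero M] {N p : ℕ} {G : ℕ → Type u} [∀ n, Group (G n)]
    [∀ n, Finite (G n)]

/-- the realizations of a tower -/
noncomputable def Tow.R (t : Tow θ Q M N p G) (n : ℕ) (hn : n ≤ N) : Rz Q M p n (G n) := (t.hyp n hn).rz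

theorem Tow.R_om (t : Tow θ Q M N p G) {n : ℕ} (hn : n ≤ N) (x : RS M) (g : G n) :
    (t.R n hn).om x g = H615.GU.evR θ Q M x ((t.T n hn).typ g) := rfl

/-- the values at `u (A, B)` for towers -/
theorem Tow.val (hp : p.Prime) {f : ℕ} (hf : 0 < f) (h67 : R67 θ Q M p f) (t : Tow θ Q M N p G)
    {N₁ : ℕ} {G₁ : ℕ → Type u} [∀ n, Group (G₁ n)] [∀ n, Finite (G₁ n)] (t₁ : Tow θ (Q ^ f) M N₁ p G₁) {n l k : ℕ}
    (hn : n ≤ N) (hl : l ≤ N) (hk : k ≤ N₁) (j : G₁ k × G l →* G n) (c : G₁ k) {z : Kˣ} {a₀ : ℕ} (hz : z ^ p ^ a₀ = 1)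
    (hz1 : z ≠ 1) (hmin : ∀ j : ℕ, z ^ (Q ^ j) = z ↔ f ∣ j)
    (htyp : ∀ (A : G₁ k) (B : G l) (x : Kˣ) (i : ℕ), (t.T n hn).typ (j (A, B)) (Quotient.mk (orbSetoid K Q) x) i =
      ∑ i' ∈ Finset.range f, (t₁.T k hk).typ A (Quotient.mk (orbSetoid K (Q ^ f)) (x ^ (Q ^ i'))) i +
        (t.T l hl).typ B (Quotient.mk (orbSetoid K Q) x) i)
    (hsh : ∀ (A : G₁ k) (y : Kˣ), (t₁.T k hk).typ (c * A) (Quotient.mk (orbSetoid K (Q ^ f)) y) =
      (t₁.T k hk).typ A (Quotient.mk (orbSetoid K (Q ^ f)) (z⁻¹ * y))) :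
    Val (t.R n hn) (t₁.R k hk) (t.R l hl) j (j (c, 1)) :=
  val_of hp hf h67 (t.hyp n hn) (t₁.hyp k hk) (t.hyp l hl) j c hz hz1 hmin htyp hsh (t₁.preg k hk) (t.preg l hl)

end tow

section central

variable {E : Type u} [Field E] [Finite E] {p : ℕ}

theorem orderOf_scl {k : ℕ} (hk : 0 < k) (z : Eˣ) : orderOf (scl k z) = orderOf z := by
  apply orderOf_injective (Units.map (Matrix.scalar (Fin k)).toMonoidHom : Eˣ →* GL (Fin k) E)
  intro x y hxy
  have h2 := congrArg (fun A : GL (Fin k) E => A.1 ⟨0, hk⟩ ⟨0, hk⟩) hxy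
  apply Units.ext
  simpa using h2

theorem scl_comm {k : ℕ} (z : Eˣ) (g : GL (Fin k) E) : scl k z * g = g * scl k z := by
  apply Units.ext
  change (Matrix.scalar (Fin k)) ((z : Eˣ) : E) * g.1 = g.1 * (Matrix.scalar (Fin k)) _
  exact (Matrix.scalar_commute _ (fun r => Commute.all _ r) _)

theorem orderOf_gsc {k Q₀ : ℕ} (hk : 0 < k) (z : Eˣ) (hz : z ^ (Q₀ + 1) = 1) : orderOf (gsc k z hz) = orderOf z := by
  rw [← orderOf_scl hk z, ← coe_gsc k z hz]
  exact (orderOf_injective (GU k E Q₀).subtype Subtype.val_injective (gsc k z hz)).symm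

theorem exists_pow_order (hp : p.Prime) {z : Eˣ} (hz : ∃ a : ℕ, orderOf z = p ^ a) (hz1 : z ≠ 1) :
    ∃ i : ℕ, orderOf (z ^ i) = p := by
  obtain ⟨a, ha⟩ := hz
  have ha0 : a ≠ 0 := by
    rintro rfl
    rw [pow_zero, orderOf_eq_one_iff] at ha
    exact hz1 ha
  refine ⟨p ^ (a - 1), ?_⟩
  rw [orderOf_pow, ha, Nat.gcd_eq_right (pow_dvd_pow p (Nat.sub_le a 1)), Nat.pow_div (Nat.sub_le a 1) hp.pos,
    Nat.sub_sub_self (Nat.one_le_iff_ne_zero.2 ha0), pow_one]

/-- a central element of order `p` of the unitary group -/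
theorem exists_gsc (hp : p.Prime) {z : Eˣ} (hz : ∃ a : ℕ, orderOf z = p ^ a) (hz1 : z ≠ 1) {Q₀ : ℕ} (hzq : z ^ (Q₀ + 1) = 1)
    {k : ℕ} (hk : 0 < k) : ∃ c : GU k E Q₀, orderOf c = p ∧ ∀ g : GU k E Q₀, c * g = g * c := by
  obtain ⟨i, hi⟩ := exists_pow_order hp hz hz1
  have h1 : (z ^ i) ^ (Q₀ + 1) = 1 := by rw [← pow_mul, mul_comm, pow_mul, hzq, one_pow]
  refine ⟨gsc k (z ^ i) h1, by rw [orderOf_gsc hk, hi], fun g => Subtype.ext ?_⟩
  rw [Subgroup.coe_mul, Subgroup.coe_mul, coe_gsc]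
  exact scl_comm _ _

end central

section fields

/-- field data of the odd case -/
structure FOdd (F K : Type u) [Field F] [Field K] [Algebra F K] (q p f : ℕ) (E : Type u) [Field E] [Algebra F E]
    [Algebra E K] (z : Eˣ) : Prop where
  tower : IsScalarTower F E K
  finrank : Module.finrank F E = f
  ppow : ∃ a : ℕ, orderOf z = p ^ a
  ne : z ≠ 1
  unit : z ^ (q ^ f + 1) = 1
  adj : Algebra.adjoin F {(z : E)} = ⊤
  min : ∀ j : ℕ, (Units.map (algebraMap E K).toMonoidHom z) ^ ((-(q : ℤ)) ^ j) =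
    Units.map (algebraMap E K).toMonoidHom z ↔ f ∣ j

/-- field data of the even case -/
structure FEven (F K : Type u) [Field F] [Field K] [Algebra F K] (q p g : ℕ) (E : Type u) [Field E] [Algebra F E]
    [Algebra E K] (z : Eˣ) : Prop where
  tower : IsScalarTower F E K
  finrank : Module.finrank F E = g
  ppow : ∃ a : ℕ, orderOf z = p ^ a
  ne : z ≠ 1
  dual : ∀ i : ℕ, (z⁻¹) ^ q ≠ z ^ ((q ^ 2) ^ i)
  adj : Algebra.adjoin F {(z : E)} = ⊤
  min : ∀ j : ℕ, (Units.map (algebraMap E K).toMonoidHom z) ^ ((-(q : ℤ)) ^ j) =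
    Units.map (algebraMap E K).toMonoidHom z ↔ 2 * g ∣ j

variable {F : Type u} [Field F] [Fintype F] {K : Type u} [Field K] [Algebra F K] {θ : K →*₀ ℂ} {q M N p : ℕ} [NeZero M]

/-- **The reduction step, odd case.** -/
theorem step_odd (hp : p.Prime) (hF : Fintype.card F = q ^ 2) {f : ℕ} (hfo : Odd f)
    (h67 : R67 θ (-(q : ℤ)) M p f) (t : Tow θ (-(q : ℤ)) M N p (fun n => GU n F q))
    (ht : ∀ n (hn : n ≤ N), IsTypU q n (t.T n hn)) {E : Type u} [Field E] [Finite E] [Algebra F E] [Algebra E K] {z : Eˣ}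
    (hE : FOdd F K q p f E z) {N₁ : ℕ} (t₁ : Tow θ ((-(q : ℤ)) ^ f) M N₁ p (fun n => GU n E (q ^ f)))
    (ht₁ : ∀ n (hn : n ≤ N₁) (A : GU n E (q ^ f)) (x : Kˣ), (t₁.T n hn).typ A (Quotient.mk (orbSetoid K _) x) =
      mcol ((A : GL (Fin n) E) : Matrix (Fin n) (Fin n) E) (x : K)) {n k l : ℕ} (hk : k ≤ N₁) (hl : l ≤ N)
    (hn : n ≤ N) (hnl : l + f * k = n) :
    ∃ (j : GU k E (q ^ f) × GU l F q →* GU n F q),
      Function.Injective j ∧
      j.range = Subgroup.centralizer ({j (gsc k z hE.unit, 1)} : Set (GU n F q)) ∧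
      (∀ (A : GU k E (q ^ f)) (B : GU l F q) (x : Kˣ) (i : ℕ),
        (t.T n hn).typ (j (A, B)) (Quotient.mk (orbSetoid K (-(q : ℤ))) x) i =
        ∑ i' ∈ Finset.range f, (t₁.T k hk).typ A (Quotient.mk (orbSetoid K ((-(q : ℤ)) ^ f)) (x ^ ((-(q : ℤ)) ^ i'))) i +
        (t.T l hl).typ B (Quotient.mk (orbSetoid K (-(q : ℤ))) x) i) ∧
      (∀ (u : GU k E (q ^ f)) (y : GU l F q),
        Matrix.GeneralLinearGroup.det ((j (u, y) : GU n F q) : GL (Fin n) F) =
          nrm F E (Matrix.GeneralLinearGroup.det (u : GL (Fin k) E)) *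
            Matrix.GeneralLinearGroup.det (y : GL (Fin l) F)) ∧
      Val (t.R n hn) (t₁.R k hk) (t.R l hl) j (j (gsc k z hE.unit, 1)) := by
  have := hE.tower
  obtain ⟨j, hj, hjr, hjm, hjd⟩ := exists_odd (K := K) (m := l) (k := k) (n := n) hF hfo hE.finrank (by omega) z hE.unit hE.ne
    hE.adj
  obtain ⟨a, ha⟩ := hE.ppow
  have htyp : ∀ (A : GU k E (q ^ f)) (B : GU l F q) (x : Kˣ) (i : ℕ),
        (t.T n hn).typ (j (A, B)) (Quotient.mk (orbSetoid K (-(q : ℤ))) x) i =
        ∑ i' ∈ Finset.range f, (t₁.T k hk).typ A (Quotient.mk (orbSetoid K ((-(q : ℤ)) ^ f)) (x ^ ((-(q : ℤ)) ^ i'))) i +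
        (t.T l hl).typ B (Quotient.mk (orbSetoid K (-(q : ℤ))) x) i := by
    intro A B x i
    rw [ht n hn, ht l hl, hjm]
    congr 1
    refine Finset.sum_congr rfl fun i' _ => ?_
    rw [ht₁ k hk]
  exact ⟨j, hj, hjr, htyp, hjd, t.val hp hfo.pos h67 t₁ hn hl hk j (gsc k z hE.unit)
    (z := Units.map (algebraMap E K).toMonoidHom z) (a₀ := a)
    (by rw [← map_pow, ← ha, pow_orderOf_eq_one, map_one])
    (fun h => hE.ne ((Units.map_injective (f := (algebraMap E K).toMonoidHom) (algebraMap E K).injective) (by rw [h, map_one])))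
    hE.min htyp
    (fun A y => by
      rw [ht₁ k hk, ht₁ k hk]
      exact mcol_scl z _ y)⟩

/-- **The reduction step, even case.** -/
theorem step_even (hp : p.Prime) (hF : Fintype.card F = q ^ 2) {g : ℕ} (hg : 0 < g)
    (h67 : R67 θ (-(q : ℤ)) M p (2 * g)) (t : Tow θ (-(q : ℤ)) M N p (fun n => GU n F q))
    (ht : ∀ n (hn : n ≤ N), IsTypU q n (t.T n hn)) {E : Type u} [Field E] [Finite E] [Algebra F E] [Algebra E K] {z : Eˣ}
    (hE : FEven F K q p g E z) {N₁ : ℕ} (t₁ : Tow θ ((-(q : ℤ)) ^ (2 * g)) M N₁ p (fun n => GL (Fin n) E))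
    (ht₁ : ∀ n (hn : n ≤ N₁) (A : GL (Fin n) E) (x : Kˣ), (t₁.T n hn).typ A (Quotient.mk (orbSetoid K _) x) =
      mcol (A : Matrix (Fin n) (Fin n) E) (x : K)) {n k l : ℕ} (hk : k ≤ N₁) (hl : l ≤ N)
    (hn : n ≤ N) (hnl : l + 2 * g * k = n) :
    ∃ (j : GL (Fin k) E × GU l F q →* GU n F q),
      Function.Injective j ∧
      j.range = Subgroup.centralizer ({j (scl k z, 1)} : Set (GU n F q)) ∧
      (∀ (A : GL (Fin k) E) (B : GU l F q) (x : Kˣ) (i : ℕ),
        (t.T n hn).typ (j (A, B)) (Quotient.mk (orbSetoid K (-(q : ℤ))) x) i =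
        ∑ i' ∈ Finset.range (2 * g),
          (t₁.T k hk).typ A (Quotient.mk (orbSetoid K ((-(q : ℤ)) ^ (2 * g))) (x ^ ((-(q : ℤ)) ^ i'))) i +
        (t.T l hl).typ B (Quotient.mk (orbSetoid K (-(q : ℤ))) x) i) ∧
      (∀ (u : GL (Fin k) E) (y : GU l F q),
        Matrix.GeneralLinearGroup.det ((j (u, y) : GU n F q) : GL (Fin n) F) =
          nrm F E (Matrix.GeneralLinearGroup.det u) * (nrm F E (Matrix.GeneralLinearGroup.det u) ^ q)⁻¹ *
            Matrix.GeneralLinearGroup.det (y : GL (Fin l) F)) ∧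
      Val (t.R n hn) (t₁.R k hk) (t.R l hl) j (j (scl k z, 1)) := by
  have := hE.tower
  obtain ⟨j, hj, hjr, hjm, hjd⟩ := exists_even (K := K) (m := l) (k := k) (n := n) hF hE.finrank (by omega) z hE.dual hE.adj
  obtain ⟨a, ha⟩ := hE.ppow
  have htyp : ∀ (A : GL (Fin k) E) (B : GU l F q) (x : Kˣ) (i : ℕ),
        (t.T n hn).typ (j (A, B)) (Quotient.mk (orbSetoid K (-(q : ℤ))) x) i =
        ∑ i' ∈ Finset.range (2 * g),
          (t₁.T k hk).typ A (Quotient.mk (orbSetoid K ((-(q : ℤ)) ^ (2 * g))) (x ^ ((-(q : ℤ)) ^ i'))) i +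
        (t.T l hl).typ B (Quotient.mk (orbSetoid K (-(q : ℤ))) x) i := by
    intro A B x i
    rw [ht n hn, ht l hl, hjm]
    congr 1
    refine Finset.sum_congr rfl fun i' _ => ?_
    rw [ht₁ k hk]
  exact ⟨j, hj, hjr, htyp, hjd, t.val hp (Nat.mul_pos two_pos hg) h67 t₁ hn hl hk j (scl k z)
    (z := Units.map (algebraMap E K).toMonoidHom z) (a₀ := a)
    (by rw [← map_pow, ← ha, pow_orderOf_eq_one, map_one])
    (fun h => hE.ne ((Units.map_injective (f := (algebraMap E K).toMonoidHom) (algebraMap E K).injective) (by rw [h, map_one])))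
    hE.min htyp
    (fun A y => by
      rw [ht₁ k hk, ht₁ k hk]
      exact mcol_scl z _ y)⟩

end fields

end Cfsg.Agent.H623.GU
end

-- part: H941/GU/Complete_mg
section
prune_inst 0x4000400012200000000000080001a02900000000040080000020000000108000040080101002107502000000004002002100020400000000a200000000000000800000000000000000080000000000000000000300000000000000000000000000000000
set_option linter.all false
open scoped Cfsg.Agent.FastGrp

-- part: H941/GU/Complete
section
/-!
# S4537, R1 (global completeness): every function of the types of degree `n` is `evR x` (helper941)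

* `LocSpan t` : local completeness (`loc_span` of helper521);
* `Four rho N`, `four` : Fourier inversion, the local power sum at one orbit is in the image;
* `exists_loc` , `exists_delta`, `exists_evR_of` : the global statement from these;
* `exists_evR_eq` : **(R1)**; `exists_evR_typ` : for class functions; `exists_one_typ` : `[g = 1]`.
-/

set_option autoImplicit false
set_option linter.unusedSectionVars false

open scoped ComplexConjugate
open Cfsg Cfsg.Agent.H615.GU Cfsg.Agent.H315.GU Cfsg.Agent.H577.GLB.Std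

namespace Cfsg.Agent.H941.GU

open Cfsg.Agent.H531.GU (I2S exists_rho lft_apply)

/-! ### homogeneous elements -/

section hom

variable {Q : ℤ} {M : ℕ}

theorem Hom_mul {i j : ℕ} {x y : RS M} (hx : x ∈ Hom Q M i) (hy : y ∈ Hom Q M j) : x * y ∈ Hom Q M (i + j) :=
  ⟨(GenR Q M).mul_mem hx.1 hy.1, MvPolynomial.IsWeightedHomogeneous.mul hx.2 hy.2⟩

theorem Hom_one : (1 : RS M) ∈ Hom Q M 0 :=
  ⟨(GenR Q M).one_mem, MvPolynomial.isWeightedHomogeneous_one ℂ _⟩

theorem Hom_rv (k : ℕ) (c : ZMod M) : rv Q M k c ∈ Hom Q M k := by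
  refine ⟨Algebra.subset_adjoin ⟨(k, c), rfl⟩, ?_⟩
  change MvPolynomial.IsWeightedHomogeneous (fun v : Var M => v.1) (rv Q M k c) k
  unfold rv
  split_ifs
  · exact MvPolynomial.isWeightedHomogeneous_X ℂ (fun v : Var M => v.1) _
  · exact MvPolynomial.isWeightedHomogeneous_zero ℂ _ _

end hom

/-! ### the local and the Fourier input -/

/-- local completeness -/
def LocSpan (t : ℂ) : Prop := ∀ (n : ℕ) (f : Col → ℂ), (∀ l, f l ≠ 0 → l.size = n) →
  f ∈ Submodule.span ℂ {g : Col → ℂ | ∃ L : List ℕ, (∀ i ∈ L, 0 < i) ∧ L.sum = n ∧ g = (L.map (Pl t)).prod vacl}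

section glob

variable {K : Type*} [Field K] [Finite K] {θ : K →*₀ ℂ} {Q : ℤ} {M : ℕ}

/-- Fourier inversion: the local power sum at `o` is a combination of the operators `rho (rv k c)` -/
def Four (rho : RS M →ₐ[ℂ] Module.End ℂ (Ty (Orb K Q) → ℂ)) (N : ℕ) : Prop :=
  ∀ (o : Orb K Q) (m : ℕ), 0 < m → dOrb K Q o * m ≤ N →
    ∃ z ∈ Hom Q M (dOrb K Q o * m), rho z = lft o (Pl ((Q : ℂ) ^ dOrb K Q o) m)

variable {rho : RS M →ₐ[ℂ] Module.End ℂ (Ty (Orb K Q) → ℂ)} {N : ℕ}

theorem exists_word (hF : Four rho N) (o : Orb K Q) (L : List ℕ) (hL : ∀ i ∈ L, 0 < i) (hN : dOrb K Q o * L.sum ≤ N) :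
    ∃ z ∈ Hom Q M (dOrb K Q o * L.sum), rho z = lft o (L.map (Pl ((Q : ℂ) ^ dOrb K Q o))).prod := by
  induction L with
  | nil =>
    refine ⟨1, ?_, ?_⟩
    · rw [List.sum_nil, mul_zero]
      exact Hom_one
    · rw [map_one, List.map_nil, List.prod_nil, map_one]
  | cons a L ih =>
    rw [List.sum_cons, mul_add] at hN
    obtain ⟨z, hz, hz'⟩ := ih (fun i hi => hL i (List.mem_cons_of_mem a hi)) (by omega)
    obtain ⟨y, hy, hy'⟩ := hF o a (hL a List.mem_cons_self) (by omega)
    refine ⟨y * z, ?_, ?_⟩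
    · rw [List.sum_cons, mul_add]
      exact Hom_mul hy hz
    · rw [map_mul, hy', hz', List.map_cons, List.prod_cons, map_mul]

theorem exists_loc {o : Orb K Q} (hL : LocSpan ((Q : ℂ) ^ dOrb K Q o)) (hF : Four rho N) (l : Col)
    (hN : dOrb K Q o * l.size ≤ N) :
    ∃ z ∈ Hom Q M (dOrb K Q o * l.size), ∃ A : Module.End ℂ (Col → ℂ), rho z = lft o A ∧
      A vacl = fun c => (open Classical in if c = l then 1 else 0) := by
  classical
  have h1 := hL l.size (fun c => if c = l then 1 else 0) (by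
    intro c hc
    have : c = l := by
      by_contra h
      exact hc (if_neg h)
    rw [this])
  generalize hg : (fun c : Col => if c = l then (1 : ℂ) else 0) = g at h1 ⊢
  clear hg
  induction h1 using Submodule.span_induction with
  | mem g hg =>
    obtain ⟨L, h0, hs, rfl⟩ := hg
    obtain ⟨z, hz, hz'⟩ := exists_word hF o L h0 (by rw [hs]; exact hN)
    rw [hs] at hz
    exact ⟨z, hz, _, hz', rfl⟩
  | zero => exact ⟨0, Submodule.zero_mem _, 0, by rw [map_zero, map_zero], by rw [LinearMap.zero_apply]⟩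
  | add g g' _ _ h h' =>
    obtain ⟨z, hz, A, hA, hA'⟩ := h
    obtain ⟨y, hy, B, hB, hB'⟩ := h'
    exact ⟨z + y, Submodule.add_mem _ hz hy, A + B, by rw [map_add, map_add, hA, hB],
      by rw [LinearMap.add_apply, hA', hB']⟩
  | smul a g _ h =>
    obtain ⟨z, hz, A, hA, hA'⟩ := h
    exact ⟨a • z, Submodule.smul_mem _ _ hz, a • A, by rw [map_smul, map_smul, hA],
      by rw [LinearMap.smul_apply, hA']⟩

open Classical in
/-- the characteristic function of a type -/
noncomputable def dl {I : Type*} (lam : Ty I) : Ty I → ℂ := fun mu => if mu = lam then 1 else 0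

theorem dl_zero {I : Type*} : (dl (0 : Ty I)) = vac := rfl

theorem lft_dl {I : Type*} {o : I} {lam : Ty I} (ho : lam o = 0) (l : Col) {A : Module.End ℂ (Col → ℂ)}
    (hA : A vacl = fun c => (open Classical in if c = l then 1 else 0)) : lft o A (dl lam) = dl (lam.update o l) := by
  classical
  funext mu
  rw [lft_apply]
  have h1 : (fun c => dl lam (mu.update o c)) = dl lam (mu.update o 0) • vacl := by
    funext c
    rw [Pi.smul_apply, smul_eq_mul, vacl]
    by_cases hc : c = 0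
    · rw [hc, if_pos rfl, mul_one]
    · rw [if_neg hc, mul_zero, dl, if_neg]
      intro h
      apply hc
      have h2 := DFunLike.congr_fun h o
      rw [Finsupp.coe_update, Function.update_self, ho] at h2
      exact h2
  rw [h1, map_smul, hA, Pi.smul_apply, smul_eq_mul]
  unfold dl
  by_cases h : mu = lam.update o l
  · rw [if_pos h, if_pos, if_pos, mul_one]
    · rw [h, Finsupp.coe_update, Function.update_self]
    · rw [h]
      ext1 i
      simp only [Finsupp.coe_update]
      by_cases hi : i = o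
      · subst hi
        rw [Function.update_self, ho]
      · rw [Function.update_of_ne hi, Function.update_of_ne hi]
  · rw [if_neg h]
    by_cases h1 : mu o = l
    · rw [if_neg, zero_mul]
      intro h2
      apply h
      ext1 i
      rw [← h2]
      simp only [Finsupp.coe_update]
      by_cases hi : i = o
      · subst hi
        rw [Function.update_self, h1]
      · rw [Function.update_of_ne hi, Function.update_of_ne hi]
    · rw [if_neg h1, mul_zero]

theorem tdeg_update {I : Type*} (d : I → ℕ) {lam : Ty I} {o : I} (ho : lam o = 0) (l : Col) :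
    tdeg d (lam.update o l) = d o * l.size + tdeg d lam := by
  classical
  unfold tdeg
  have h1 : (lam.update o l).support ⊆ insert o lam.support := by
    intro i hi
    rw [Finset.mem_insert]
    by_cases h : i = o
    · exact Or.inl h
    · right
      rw [Finsupp.mem_support_iff, Finsupp.coe_update, Function.update_of_ne h] at hi
      exact Finsupp.mem_support_iff.2 hi
  rw [Finsupp.sum_of_support_subset _ h1 _ (fun i _ => by rw [Col.size_zero, mul_zero]),
    Finset.sum_insert (fun h => (Finsupp.mem_support_iff.1 h) ho), Finsupp.coe_update, Function.update_self]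
  congr 1
  refine Finset.sum_congr rfl fun i hi => ?_
  rw [Function.update_of_ne]
  rintro rfl
  exact (Finsupp.mem_support_iff.1 hi) ho

/-- the characteristic functions of the types are in the image -/
theorem exists_delta (hL : ∀ o : Orb K Q, LocSpan ((Q : ℂ) ^ dOrb K Q o)) (hF : Four rho N) (r : ℕ) :
    ∀ lam : Ty (Orb K Q), lam.support.card = r → tdeg (dOrb K Q) lam ≤ N →
      ∃ z ∈ Hom Q M (tdeg (dOrb K Q) lam), rho z vac = dl lam := by
  classical
  induction r with
  | zero =>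
    intro lam hlam _
    have h0 : lam = 0 := by
      rw [Finset.card_eq_zero, Finsupp.support_eq_empty] at hlam
      exact hlam
    subst h0
    refine ⟨1, ?_, ?_⟩
    · have : tdeg (dOrb K Q) (0 : Ty (Orb K Q)) = 0 := Finsupp.sum_zero_index
      rw [this]
      exact Hom_one
    · rw [map_one, Module.End.one_apply, dl_zero]
  | succ r ih =>
    intro lam hlam hN
    obtain ⟨o, ho⟩ : lam.support.Nonempty := by
      rw [← Finset.card_pos, hlam]
      omega
    have he0 : (lam.erase o) o = 0 := Finsupp.erase_same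
    have he : (lam.erase o).update o (lam o) = lam := by
      ext1 i
      rw [Finsupp.coe_update]
      by_cases hi : i = o
      · rw [hi, Function.update_self]
      · rw [Function.update_of_ne hi, Finsupp.erase_ne hi]
    have hd := tdeg_update (dOrb K Q) he0 (lam o)
    rw [he] at hd
    obtain ⟨z, hz, hz'⟩ := ih (lam.erase o) (by
      rw [Finsupp.support_erase, Finset.card_erase_of_mem ho, hlam, Nat.add_sub_cancel]) (by omega)
    obtain ⟨y, hy, A, hA, hA'⟩ := exists_loc (hL o) hF (lam o) (by omega)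
    refine ⟨y * z, ?_, ?_⟩
    · rw [hd]
      exact Hom_mul hy hz
    · rw [map_mul, Module.End.mul_apply, hz', hA, lft_dl he0 (lam o) hA', he]

/-- **(R1)** from local completeness and Fourier inversion -/
theorem exists_evR_of (h2 : I2S) (hL : ∀ o : Orb K Q, LocSpan ((Q : ℂ) ^ dOrb K Q o))
    (hF : ∀ rho : RS M →ₐ[ℂ] Module.End ℂ (Ty (Orb K Q) → ℂ),
      (∀ v : Var M, rho (MvPolynomial.X v) = Pop θ Q M v.1 v.2) → Four rho N)
    (hd : ∀ o : Orb K Q, 0 < dOrb K Q o) {n : ℕ} (hn : n ≤ N) (f : Ty (Orb K Q) → ℂ)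
    (hf : ∀ lam, f lam ≠ 0 → tdeg (dOrb K Q) lam = n) : ∃ x ∈ Hom Q M n, evR θ Q M x = f := by
  classical
  obtain ⟨rho, h, h'⟩ := exists_rho θ Q M h2
  have hfin : {lam : Ty (Orb K Q) | tdeg (dOrb K Q) lam = n}.Finite :=
    finite_tofDeg (dOrb K Q) hd (fun _ => Set.toFinite _) n
  have key : ∀ lam : Ty (Orb K Q), tdeg (dOrb K Q) lam = n → ∃ z ∈ Hom Q M n, evR θ Q M z = dl lam := by
    intro lam hlam
    obtain ⟨z, hz, hz'⟩ := exists_delta hL (hF rho h) _ lam rfl (by omega)
    rw [hlam] at hz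
    exact ⟨z, hz, by rw [h', hz']⟩
  choose! z hz hz' using key
  refine ⟨∑ lam ∈ hfin.toFinset, f lam • z lam, Submodule.sum_mem _ fun lam hlam => Submodule.smul_mem _ _
    (hz lam (hfin.mem_toFinset.1 hlam)), ?_⟩
  rw [map_sum]
  funext mu
  rw [Finset.sum_apply]
  have h3 : ∀ lam ∈ hfin.toFinset, evR θ Q M (f lam • z lam) mu = if mu = lam then f mu else 0 := by
    intro lam hlam
    rw [map_smul, hz' lam (hfin.mem_toFinset.1 hlam), Pi.smul_apply, smul_eq_mul, dl]
    split_ifs with h4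
    · rw [mul_one, h4]
    · rw [mul_zero]
  rw [Finset.sum_congr rfl h3, Finset.sum_ite_eq, ite_eq_left_iff]
  intro h4
  by_contra h5
  exact h4 (hfin.mem_toFinset.2 (hf mu (Ne.symm h5)))

/-- the sum of the powers of a root of unity -/
theorem geom_root {w : ℂ} {T : ℕ} (hw : w ^ T = 1) : ∑ a ∈ Finset.range T, w ^ a = if w = 1 then (T : ℂ) else 0 := by
  split_ifs with h
  · subst h
    simp
  · rw [geom_sum_eq h, hw, sub_self, zero_div]

open H531.GU (thA theta_ne pow_of_dvd thA_congr thO_eq expoZ_intCast TorZ_intCast Pop_eq Pop_canon dOrb_pos) in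
/-- **Fourier inversion** -/
theorem four (h : CtxQ θ Q M N) {rho : RS M →ₐ[ℂ] Module.End ℂ (Ty (Orb K Q) → ℂ)}
    (hr : ∀ v : Var M, rho (MvPolynomial.X v) = Pop θ Q M v.1 v.2) : Four rho N := by
  classical
  have := H531.GU.CtxQ.neM h
  intro o m hm hN
  obtain ⟨x0, hx0⟩ := Quotient.exists_rep o
  set k := dOrb K Q o * m with hk
  have hk0 : 0 < k := Nat.mul_pos (dOrb_pos o) hm
  have hdvd := h.dvd k hk0 hN
  have hD : Q ^ k - 1 ≠ 0 := by
    intro h0
    have h1 : Q ^ k = 1 := by linarith only [h0]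
    have h2 : |Q| ^ k = 1 := by rw [← abs_pow, h1, abs_one]
    have h3 := one_lt_pow₀ (lt_of_lt_of_le one_lt_two h.two) hk0.ne'
    omega
  set T := (Q ^ k - 1).natAbs with hT
  have hT0 : (T : ℂ) ≠ 0 := by
    rw [hT, Nat.cast_ne_zero, Int.natAbs_ne_zero]
    exact hD
  let cc : ℕ → ZMod M := fun a => ((((a : ℤ) * ((M : ℤ) / (Q ^ k - 1)) : ℤ)) : ZMod M)
  have hrv : ∀ a, rho (rv Q M k (cc a)) = Pop θ Q M k (cc a) := by
    intro a
    have h1 := TorZ_intCast (M := M) hdvd (a : ℤ)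
    rw [rv, if_pos ⟨hk0, h1⟩, hr, Pop_canon θ h.card h.unit h1]
  -- the Fourier sum
  have hsum : ∀ o' : Orb K Q, dOrb K Q o' ∣ k →
      ∑ a ∈ Finset.range T, θ (x0 : K) ^ (-(a : ℤ)) * thO θ Q M k (cc a) o' = if o' = o then (T : ℂ) else 0 := by
    intro o' ho'
    have := Fintype.ofFinite {y : Kˣ // (Quotient.mk (orbSetoid K Q) y) = o'}
    have h1 : ∀ a ∈ Finset.range T, θ (x0 : K) ^ (-(a : ℤ)) * thO θ Q M k (cc a) o' =
        ∑ y : {y : Kˣ // (Quotient.mk (orbSetoid K Q) y) = o'}, (θ ((y : Kˣ) : K) / θ (x0 : K)) ^ a := by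
      intro a _
      rw [thO_eq, thA_congr θ h.card h.unit ho' (expoZ_intCast hdvd (a : ℤ)), thA, finsum_eq_sum_of_fintype,
        Finset.mul_sum]
      refine Finset.sum_congr rfl fun y _ => ?_
      rw [div_pow, zpow_neg, zpow_natCast, zpow_natCast, div_eq_mul_inv, mul_comm]
    rw [Finset.sum_congr rfl h1, Finset.sum_comm]
    have hpow : ∀ y : Kˣ, y ^ (Q ^ k) = y → θ (y : K) ^ T = 1 := by
      intro y hy
      have h2 : y ^ (Q ^ k - 1) = 1 := by rw [zpow_sub, zpow_one, hy, mul_inv_cancel]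
      have h3 : y ^ T = 1 := by
        rw [← zpow_natCast, hT]
        rcases Int.natAbs_eq (Q ^ k - 1) with h4 | h4
        · rw [← h4, h2]
        · have h5 : (((Q ^ k - 1).natAbs : ℕ) : ℤ) = -(Q ^ k - 1) := by linarith only [h4]
          rw [h5, zpow_neg, h2, inv_one]
      rw [← map_pow, ← Units.val_pow_eq_pow_val, h3, Units.val_one, map_one]
    have hx0' : θ (x0 : K) ^ T = 1 := hpow x0 (pow_of_dvd h.card h.unit hx0 ⟨m, hk⟩)
    have h6 : ∀ y : {y : Kˣ // (Quotient.mk (orbSetoid K Q) y) = o'},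
        ∑ a ∈ Finset.range T, (θ ((y : Kˣ) : K) / θ (x0 : K)) ^ a = if (y : Kˣ) = x0 then (T : ℂ) else 0 := by
      intro y
      rw [geom_root (by rw [div_pow, hpow _ (pow_of_dvd h.card h.unit y.2 ho'), hx0', div_one])]
      refine if_congr ?_ rfl rfl
      rw [div_eq_one_iff_eq (theta_ne θ x0)]
      exact ⟨fun h7 => Units.ext (h.inj h7), fun h7 => by rw [h7]⟩
    rw [Finset.sum_congr rfl fun y _ => h6 y]
    split_ifs with ho
    · subst ho
      rw [Finset.sum_eq_single (⟨x0, hx0⟩ : {y : Kˣ // (Quotient.mk (orbSetoid K Q) y) = o'})]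
      · rw [if_pos rfl]
      · intro y _ hy
        rw [if_neg]
        intro h7
        exact hy (Subtype.ext h7)
      · intro h7
        exact absurd (Finset.mem_univ _) h7
    · refine Finset.sum_eq_zero fun y _ => ?_
      rw [if_neg]
      intro h7
      apply ho
      rw [← y.2, h7]
      exact hx0
  refine ⟨(T : ℂ)⁻¹ • ∑ a ∈ Finset.range T, θ (x0 : K) ^ (-(a : ℤ)) • rv Q M k (cc a),
    Submodule.smul_mem _ _ (Submodule.sum_mem _ fun a _ => Submodule.smul_mem _ _ (Hom_rv _ _)), ?_⟩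
  rw [map_smul, map_sum]
  have h8 : ∑ a ∈ Finset.range T, rho (θ (x0 : K) ^ (-(a : ℤ)) • rv Q M k (cc a)) =
      (T : ℂ) • lft o (Pl ((Q : ℂ) ^ dOrb K Q o) m) := by
    have h9 : ∀ a ∈ Finset.range T, rho (θ (x0 : K) ^ (-(a : ℤ)) • rv Q M k (cc a)) =
        ∑ o' : Orb K Q, (if dOrb K Q o' ∣ k then (θ (x0 : K) ^ (-(a : ℤ)) * thO θ Q M k (cc a) o') •
          lft o' (Pl ((Q : ℂ) ^ dOrb K Q o') (k / dOrb K Q o')) else 0) := by
      intro a _
      rw [map_smul, hrv, Pop_eq, Finset.smul_sum]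
      refine Finset.sum_congr rfl fun o' _ => ?_
      by_cases h10 : dOrb K Q o' ∣ k
      · rw [if_pos ⟨hk0, h10⟩, if_pos h10, smul_smul, H531.GU.Pl_eq]
      · rw [if_neg (fun h11 => h10 h11.2), if_neg h10, smul_zero]
    rw [Finset.sum_congr rfl h9, Finset.sum_comm, Finset.sum_eq_single o]
    · have h12 : dOrb K Q o ∣ k := ⟨m, hk⟩
      simp only [if_pos h12]
      rw [← Finset.sum_smul, hsum o h12, if_pos rfl, hk, Nat.mul_div_cancel_left _ (dOrb_pos o)]
    · intro o' _ ho'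
      by_cases h10 : dOrb K Q o' ∣ k
      · simp only [if_pos h10]
        rw [← Finset.sum_smul, hsum o' h10, if_neg ho', zero_smul]
      · simp only [if_neg h10]
        exact Finset.sum_const_zero
    · intro h13
      exact absurd (Finset.mem_univ _) h13
  rw [h8, smul_smul, inv_mul_cancel₀ hT0, one_smul]

theorem gen_pow (hQ : 2 ≤ |Q|) {e : ℕ} (he : 0 < e) : ((Q : ℂ) ^ e) ≠ 0 ∧ ∀ i : ℕ, 0 < i → ((Q : ℂ) ^ e) ^ i ≠ 1 := by
  have hQ0 : Q ≠ 0 := by
    rintro rfl
    simp at hQ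
  refine ⟨pow_ne_zero _ (by exact_mod_cast hQ0), fun j hj h1 => ?_⟩
  rw [← pow_mul] at h1
  have h2 : Q ^ (e * j) = 1 := by exact_mod_cast h1
  have h3 : |Q| ^ (e * j) = 1 := by rw [← abs_pow, h2, abs_one]
  have h4 : 1 < |Q| ^ (e * j) := one_lt_pow₀ (by omega) (Nat.mul_pos he hj).ne'
  omega

end glob

section final

variable {K : Type*} [Field K] {θ : K →*₀ ℂ} {Q : ℤ} {M N : ℕ}

/-- **(R1)** every function of the types of degree `n ≤ N` is the evaluation of an element of `Hom Q M n` -/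
theorem exists_evR_eq (h : CtxQ θ Q M N) {n : ℕ} (hn : n ≤ N) (f : Ty (Orb K Q) → ℂ)
    (hf : ∀ lam, f lam ≠ 0 → tdeg (dOrb K Q) lam = n) : ∃ x ∈ Hom Q M n, evR θ Q M x = f := by
  have := h.finK
  refine exists_evR_of H521.GU.i2s (fun o => ?_) (fun rho hr => four h hr) H531.GU.dOrb_pos hn f hf
  obtain ⟨h0, ht⟩ := gen_pow h.two (H531.GU.dOrb_pos o)
  exact fun n f hf => H521.GU.loc_span h0 ht n f hf

/-- **(R1)** every class function is the evaluation of an element of `Hom Q M n` -/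
theorem exists_evR_typ (h : CtxQ θ Q M N) {n : ℕ} (hn : n ≤ N) {G : Type*} [Group G]
    (T : TypeData (dOrb K Q) Q G n) (f : G → ℂ) (hf : ∀ g x : G, f (x * g * x⁻¹) = f g) :
    ∃ x ∈ Hom Q M n, ∀ g, evR θ Q M x (T.typ g) = f g := by
  classical
  obtain ⟨x, hx, hx'⟩ := exists_evR_eq h hn (fun lam => if hl : ∃ g : G, T.typ g = lam then f hl.choose else 0)
    (fun lam hl => by
      by_cases h1 : ∃ g : G, T.typ g = lam
      · rw [← h1.choose_spec]
        exact T.deg _
      · exact absurd (dif_neg h1) hl)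
  refine ⟨x, hx, fun g => ?_⟩
  rw [hx']
  have h1 : ∃ g' : G, T.typ g' = T.typ g := ⟨g, rfl⟩
  simp only []
  rw [dif_pos h1]
  obtain ⟨c, hc⟩ := isConj_iff.1 (T.sep _ _ h1.choose_spec)
  exact (hf _ c).symm.trans (congrArg f hc)

/-- **(R1)** the hypothesis `h1` of `bij_of_neck` : the function `[g = 1]` is in the image -/
theorem exists_one_typ (h : CtxQ θ Q M N) {n : ℕ} (hn : n ≤ N) {G : Type*} [Group G]
    (T : TypeData (dOrb K Q) Q G n) :
    ∃ x ∈ Hom Q M n, (∀ g : G, g ≠ 1 → evR θ Q M x (T.typ g) = 0) ∧ evR θ Q M x (T.typ 1) ≠ 0 := by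
  classical
  obtain ⟨x, hx, hx'⟩ := exists_evR_typ h hn T (fun g => if g = 1 then 1 else 0) (fun g x => by
    refine if_congr ⟨fun h1 => ?_, fun h1 => by rw [h1, mul_one, mul_inv_cancel]⟩ rfl rfl
    have h2 : x * g = x := by rw [← mul_inv_eq_one]; exact h1
    exact mul_eq_left.1 h2)
  refine ⟨x, hx, fun g hg => by rw [hx', if_neg hg], ?_⟩
  rw [hx', if_pos rfl]
  exact one_ne_zero

end final

end Cfsg.Agent.H941.GU
end

-- part: H531/GU/Adj
section
/-!
# S4537, R2 (first half): adjoint operators (helper531)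

* `Adj d Q k A B` : `ipt (n + k) (A f) x = sign ^ k * ipt n f (B x)`;
* `Adj_lft_pp`, `Adj_Pop` : the adjoint of `Pop k c` is `PSop k c = ∑ conj (thO k c o) • lft o (ps ..)`;
* `PSop_Pop` : the Heisenberg relation; `PSop_vac`.
-/

set_option autoImplicit false
set_option linter.unusedSectionVars false

open scoped ComplexConjugate
open Cfsg Cfsg.Agent.H615.GU Cfsg.Agent.H315.GU Cfsg.Agent.H577.GLB.Std

universe u

namespace Cfsg.Agent.H531.GU

section Update

variable {I : Type*} (d : I → ℕ) (Q : ℤ)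

theorem update_support [DecidableEq I] (lam : Ty I) (i : I) (c : Col) : (lam.update i c).support ⊆ insert i lam.support := by
  intro i' hi'
  rw [Finset.mem_insert]
  by_cases h : i' = i
  · exact Or.inl h
  · right
    rw [Finsupp.mem_support_iff, update_ne lam (Ne.symm h)] at hi'
    exact Finsupp.mem_support_iff.2 hi'

theorem Ag_update (lam : Ty I) (i : I) (c : Col) :
    Ag d Q (lam.update i c) * ev ((Q : ℂ) ^ d i) (ap (lam i)) = Ag d Q lam * ev ((Q : ℂ) ^ d i) (ap c) := by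
  classical
  rw [Ag_eq_prod d Q (update_support lam i c), Ag_eq_prod d Q (Finset.subset_insert i lam.support),
    ← Finset.mul_prod_erase _ _ (Finset.mem_insert_self i lam.support),
    ← Finset.mul_prod_erase _ (fun i' => ev ((Q : ℂ) ^ d i') (ap (lam i'))) (Finset.mem_insert_self i lam.support),
    update_same]
  have h : ∏ x ∈ (insert i lam.support).erase i, ev ((Q : ℂ) ^ d x) (ap ((lam.update i c) x)) =
      ∏ x ∈ (insert i lam.support).erase i, ev ((Q : ℂ) ^ d x) (ap (lam x)) :=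
    Finset.prod_congr rfl fun x hx => by rw [update_ne lam (Finset.ne_of_mem_erase hx).symm]
  rw [h]
  ring

theorem tdeg_update (lam : Ty I) (i : I) (c : Col) :
    tdeg d (lam.update i c) + d i * (lam i).size = tdeg d lam + d i * c.size := by
  classical
  rw [tdeg_eq_sum d (update_support lam i c), tdeg_eq_sum d (Finset.subset_insert i lam.support),
    ← Finset.add_sum_erase _ _ (Finset.mem_insert_self i lam.support),
    ← Finset.add_sum_erase _ (fun i' => d i' * (lam i').size) (Finset.mem_insert_self i lam.support), update_same]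
  have h : ∑ x ∈ (insert i lam.support).erase i, d x * ((lam.update i c) x).size =
      ∑ x ∈ (insert i lam.support).erase i, d x * (lam x).size :=
    Finset.sum_congr rfl fun x hx => by rw [update_ne lam (Finset.ne_of_mem_erase hx).symm]
  rw [h]
  ring

end Update

section Adj

variable {I : Type*} (d : I → ℕ) (Q : ℤ)

/-- adjoint operators of degree `k` -/
def Adj (k : ℕ) (A B : Module.End ℂ (Ty I → ℂ)) : Prop :=
  ∀ n f x, ipt d Q (n + k) (A f) x = (Q.sign : ℂ) ^ k * ipt d Q n f (B x)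

variable {d Q}

theorem ipt_add_left (n : ℕ) (f g x : Ty I → ℂ) : ipt d Q n (f + g) x = ipt d Q n f x + ipt d Q n g x := by
  unfold ipt
  rw [← Finset.sum_add_distrib]
  exact Finset.sum_congr rfl fun lam _ => by rw [Pi.add_apply, add_mul, add_div]

theorem ipt_smul_left (n : ℕ) (c : ℂ) (f x : Ty I → ℂ) : ipt d Q n (c • f) x = c * ipt d Q n f x := by
  unfold ipt
  rw [Finset.mul_sum]
  exact Finset.sum_congr rfl fun lam _ => by rw [Pi.smul_apply, smul_eq_mul]; ring

theorem ipt_zero_left (n : ℕ) (x : Ty I → ℂ) : ipt d Q n 0 x = 0 := by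
  have h := ipt_smul_left (d := d) (Q := Q) n 0 0 x
  rwa [zero_smul, zero_mul] at h

theorem ipt_sum_left {ι : Type*} (s : Finset ι) (n : ℕ) (f : ι → Ty I → ℂ) (x : Ty I → ℂ) :
    ipt d Q n (∑ i ∈ s, f i) x = ∑ i ∈ s, ipt d Q n (f i) x := by
  classical
  induction s using Finset.induction_on with
  | empty => rw [Finset.sum_empty, Finset.sum_empty, ipt_zero_left]
  | insert a s ha ih => rw [Finset.sum_insert ha, Finset.sum_insert ha, ipt_add_left, ih]

theorem ipt_add_right (n : ℕ) (f g x : Ty I → ℂ) : ipt d Q n x (f + g) = ipt d Q n x f + ipt d Q n x g := by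
  unfold ipt
  rw [← Finset.sum_add_distrib]
  exact Finset.sum_congr rfl fun lam _ => by rw [Pi.add_apply, map_add, mul_add, add_div]

theorem ipt_smul_right (n : ℕ) (c : ℂ) (f x : Ty I → ℂ) : ipt d Q n x (c • f) = conj c * ipt d Q n x f := by
  unfold ipt
  rw [Finset.mul_sum]
  exact Finset.sum_congr rfl fun lam _ => by rw [Pi.smul_apply, smul_eq_mul, map_mul]; ring

theorem ipt_zero_right (n : ℕ) (x : Ty I → ℂ) : ipt d Q n x 0 = 0 := by
  have h := ipt_smul_right (d := d) (Q := Q) n 0 0 x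
  rwa [zero_smul, map_zero, zero_mul] at h

theorem Adj.zero {k : ℕ} : Adj d Q k 0 0 := fun n f x => by
  rw [LinearMap.zero_apply, LinearMap.zero_apply, ipt_zero_left, ipt_zero_right, mul_zero]

theorem Adj.add {k : ℕ} {A B A' B' : Module.End ℂ (Ty I → ℂ)} (h : Adj d Q k A B) (h' : Adj d Q k A' B') :
    Adj d Q k (A + A') (B + B') := fun n f x => by
  rw [LinearMap.add_apply, LinearMap.add_apply, ipt_add_left, ipt_add_right, h, h', mul_add]

theorem Adj.smul {k : ℕ} {A B : Module.End ℂ (Ty I → ℂ)} (c : ℂ) (h : Adj d Q k A B) :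
    Adj d Q k (c • A) (conj c • B) := fun n f x => by
  rw [LinearMap.smul_apply, LinearMap.smul_apply, ipt_smul_left, ipt_smul_right, h, Complex.conj_conj]
  ring

theorem ipt_sub_left (n : ℕ) (f g x : Ty I → ℂ) : ipt d Q n (f - g) x = ipt d Q n f x - ipt d Q n g x := by
  unfold ipt
  rw [← Finset.sum_sub_distrib]
  exact Finset.sum_congr rfl fun lam _ => by rw [Pi.sub_apply, sub_mul, sub_div]

theorem ipt_sub_right (n : ℕ) (f g x : Ty I → ℂ) : ipt d Q n x (f - g) = ipt d Q n x f - ipt d Q n x g := by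
  unfold ipt
  rw [← Finset.sum_sub_distrib]
  exact Finset.sum_congr rfl fun lam _ => by rw [Pi.sub_apply, map_sub, mul_sub, sub_div]

theorem Adj.sub {k : ℕ} {A B A' B' : Module.End ℂ (Ty I → ℂ)} (h : Adj d Q k A B) (h' : Adj d Q k A' B') :
    Adj d Q k (A - A') (B - B') := fun n f x => by
  rw [LinearMap.sub_apply, LinearMap.sub_apply, ipt_sub_left, ipt_sub_right, h, h', mul_sub]

theorem Adj.sum {ι : Type*} (s : Finset ι) {k : ℕ} {A B : ι → Module.End ℂ (Ty I → ℂ)}
    (h : ∀ i ∈ s, Adj d Q k (A i) (B i)) : Adj d Q k (∑ i ∈ s, A i) (∑ i ∈ s, B i) := by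
  classical
  induction s using Finset.induction_on with
  | empty => rw [Finset.sum_empty, Finset.sum_empty]; exact Adj.zero
  | insert a s ha ih =>
    rw [Finset.sum_insert ha, Finset.sum_insert ha]
    exact (h a (Finset.mem_insert_self _ _)).add (ih fun i hi => h i (Finset.mem_insert_of_mem hi))

theorem Adj.mul {k k' : ℕ} {A B A' B' : Module.End ℂ (Ty I → ℂ)} (h : Adj d Q k A B) (h' : Adj d Q k' A' B') :
    Adj d Q (k' + k) (A * A') (B' * B) := fun n f x => by
  rw [Module.End.mul_apply, Module.End.mul_apply, ← add_assoc, h, h', pow_add]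
  ring

theorem Adj.nwt {e : ℕ} {u u' : ℕ → Module.End ℂ (Ty I → ℂ)} (h : ∀ j, Adj d Q (e * j) (u j) (u' j))
    (hc : ∀ r j, Commute (nwt u r) (u j)) (m : ℕ) : Adj d Q (e * m) (nwt u m) (nwt u' m) := by
  induction m using Nat.strong_induction_on with
  | _ m ih =>
    cases m with
    | zero =>
      rw [nwt_zero, nwt_zero]
      exact Adj.zero
    | succ m =>
      rw [nwt_succ, nwt_succ, ← Nat.cast_smul_eq_nsmul ℂ, ← Nat.cast_smul_eq_nsmul ℂ]
      have h1 := (h (m + 1)).smul ((m + 1 : ℕ) : ℂ)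
      rw [Complex.conj_natCast] at h1
      refine h1.sub (Adj.sum _ fun r hr => ?_)
      rw [Finset.mem_range] at hr
      rw [(hc r (m + 1 - r)).eq]
      have h2 := (h (m + 1 - r)).mul (ih r hr)
      rwa [← mul_add, Nat.add_sub_cancel' hr.le] at h2

variable (hd : ∀ i, 0 < d i) (hQ : 2 ≤ |Q|) (hf : ∀ n, {lam : Ty I | tdeg d lam = n}.Finite)

include hd hQ hf

theorem gen_pow (i : I) : Gen ((Q : ℂ) ^ d i) := by
  have h0 : Q ≠ 0 := by
    rintro rfl
    simp at hQ
  refine ⟨pow_ne_zero _ (Int.cast_ne_zero.2 h0), fun j hj h => ?_⟩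
  rw [← pow_mul] at h
  have h1 : Q ^ (d i * j) = 1 := by exact_mod_cast h
  have h2 : |Q| ^ (d i * j) = 1 := by rw [← abs_pow, h1, abs_one]
  have h3 : 1 < |Q| ^ (d i * j) := one_lt_pow₀ (by omega) (Nat.mul_pos (hd i) hj).ne'
  omega

theorem Adj_lft_uu (i : I) (j : ℕ) :
    Adj d Q (d i * j) (lft i (uu ((Q : ℂ) ^ d i) j)) (lft i (us ((Q : ℂ) ^ d i) j)) := by
  classical
  intro n f x
  set t : ℂ := (Q : ℂ) ^ d i with ht
  have hgen := gen_pow hd hQ hf i
  have hs : (Q.sign : ℂ) * (Q.sign : ℂ) = 1 := by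
    rw [← Int.cast_mul, sign_mul_self hd hQ, Int.cast_one]
  have hs0 : (Q.sign : ℂ) ≠ 0 := by
    intro h0
    rw [h0, zero_mul] at hs
    exact zero_ne_one hs
  have htc : conj t = t := by rw [ht, map_pow, map_intCast]
  -- the left hand side
  have hL : ipt d Q (n + d i * j) (lft i (uu t j) f) x =
      ∑ p ∈ (tofDeg d (n + d i * j)).sigma (fun lam : Ty I => (Col.ofSize ((lam i).size - j)).filter
        (fun c => c.size + j = (lam i).size)),
        ev t (Np (p.1 i) p.2) * f (p.1.update i p.2) * conj (x p.1) / ((Q.sign : ℂ) ^ (n + d i * j) * Ag d Q p.1) := by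
    rw [Finset.sum_sigma]
    unfold ipt
    refine Finset.sum_congr rfl fun lam _ => ?_
    have h1 : lft i (uu t j) f lam = ∑ c ∈ (Col.ofSize ((lam i).size - j)).filter (fun c => c.size + j = (lam i).size),
        ev t (Np (lam i) c) * f (lam.update i c) := by
      rw [lft_apply, uu_apply]
      refine Finset.sum_subset_zero_on_sdiff ?_ ?_ fun _ _ => rfl
      · intro c hc
        rw [Finset.mem_filter] at hc ⊢
        exact ⟨Col.mem_ofSize.2 (by omega), hc.2⟩
      · intro c hc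
        rw [Finset.mem_sdiff, Finset.mem_filter, Finset.mem_filter, Col.mem_below] at hc
        have h4 : ¬ c ≤ lam i := fun h => hc.2 ⟨h, hc.1.2⟩
        rw [Np_zero t h4, zero_mul]
    rw [h1, Finset.sum_mul, Finset.sum_div]
  have hR : (Q.sign : ℂ) ^ (d i * j) * ipt d Q n f (lft i (us t j) x) =
      ∑ p ∈ (tofDeg d n).sigma (fun mu : Ty I => Col.ofSize ((mu i).size + j)),
        (Q.sign : ℂ) ^ (d i * j) * (f p.1 * (ev t (ap (p.1 i)) *
          (ev t (Np p.2 (p.1 i)) * conj (x (p.1.update i p.2)) / ev t (ap p.2))) / ((Q.sign : ℂ) ^ n * Ag d Q p.1)) := by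
    rw [Finset.sum_sigma]
    unfold ipt
    rw [Finset.mul_sum]
    refine Finset.sum_congr rfl fun mu _ => ?_
    rw [lft_apply, us_apply, map_mul, map_sum, H521.GU.ev_conj htc, Finset.mul_sum, Finset.mul_sum, Finset.sum_div,
      Finset.mul_sum]
    refine Finset.sum_congr rfl fun c _ => ?_
    rw [map_div₀, map_mul, H521.GU.ev_conj htc, H521.GU.ev_conj htc]
  rw [hL, hR]
  refine Finset.sum_nbij' (fun p => ⟨p.1.update i p.2, p.1 i⟩) (fun p => ⟨p.1.update i p.2, p.1 i⟩) ?_ ?_ ?_ ?_ ?_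
  · rintro ⟨lam, c⟩ hp
    simp only [Finset.mem_sigma, Finset.mem_filter, Col.mem_ofSize, mem_tofDeg (hf _)] at hp ⊢
    have h1 := tdeg_update d lam i c
    rw [update_same]
    refine ⟨?_, by omega⟩
    rw [hp.1, ← hp.2.2, mul_add] at h1
    omega
  · rintro ⟨mu, c⟩ hp
    simp only [Finset.mem_sigma, Finset.mem_filter, Col.mem_ofSize, mem_tofDeg (hf _)] at hp ⊢
    have h1 := tdeg_update d mu i c
    rw [update_same]
    refine ⟨?_, by omega, by omega⟩
    rw [hp.1, hp.2, mul_add] at h1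
    omega
  · rintro ⟨lam, c⟩ _
    simp only [update_same, update_update, Finsupp.update_self]
  · rintro ⟨mu, c⟩ _
    simp only [update_same, update_update, Finsupp.update_self]
  · rintro ⟨lam, c⟩ hp
    simp only [update_same, update_update, Finsupp.update_self]
    have h1 : Ag d Q (lam.update i c) * ev t (ap (lam i)) = Ag d Q lam * ev t (ap c) := Ag_update d Q lam i c
    have h2 : ev t (ap c) ≠ 0 := ap_ne hgen c
    have h3 : ev t (ap (lam i)) ≠ 0 := ap_ne hgen (lam i)
    have h4 := Ag_ne_zero' d Q hd hQ lam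
    have h5 := Ag_ne_zero' d Q hd hQ (lam.update i c)
    have h6 : (Q.sign : ℂ) ^ (d i * j) * (Q.sign : ℂ) ^ (d i * j) = 1 := by rw [← mul_pow, hs, one_pow]
    have h8 := pow_ne_zero n hs0
    have h9 := pow_ne_zero (d i * j) hs0
    rw [pow_add, div_eq_iff (mul_ne_zero (mul_ne_zero h8 h9) h4)]
    have e1 : (Q.sign : ℂ) ^ (d i * j) * (f (lam.update i c) * (ev t (ap c) *
        (ev t (Np (lam i) c) * conj (x lam) / ev t (ap (lam i)))) / ((Q.sign : ℂ) ^ n * Ag d Q (lam.update i c))) *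
        ((Q.sign : ℂ) ^ n * (Q.sign : ℂ) ^ (d i * j) * Ag d Q lam) =
        ((Q.sign : ℂ) ^ (d i * j) * (Q.sign : ℂ) ^ (d i * j)) * (f (lam.update i c) * ev t (Np (lam i) c) * conj (x lam)) *
          (Ag d Q lam * ev t (ap c)) / (Ag d Q (lam.update i c) * ev t (ap (lam i))) := by
      field_simp
    rw [e1, h6, ← h1, one_mul, mul_div_cancel_right₀ _ (mul_ne_zero h5 h3)]
    ring

theorem Adj_lft_pp (i : I) (m : ℕ) :
    Adj d Q (d i * m) (lft i (pp ((Q : ℂ) ^ d i) m)) (lft i (ps ((Q : ℂ) ^ d i) m)) := by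
  rw [lft_pp, lft_ps]
  refine Adj.nwt (fun j => Adj_lft_uu hd hQ hf i j) (fun r j => ?_) m
  rw [← lft_pp]
  exact (H521.GU.Pl_comm_Ul ((Q : ℂ) ^ d i) r j).map (lft i)

end Adj

/-! ### the adjoint of the cuspidal operators -/

section PS

variable {K : Type*} [Field K] [Finite K] (θ : K →*₀ ℂ) (Q : ℤ) (M : ℕ)

open Classical in
/-- the adjoint of `Pop` -/
noncomputable def PSop (k : ℕ) (c : ZMod M) : Module.End ℂ (Ty (Orb K Q) → ℂ) :=
  ∑ o : Orb K Q, if 0 < k ∧ dOrb K Q o ∣ k then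
    conj (thO θ Q M k c o) • lft o (ps ((Q : ℂ) ^ dOrb K Q o) (k / dOrb K Q o)) else 0

theorem Adj_Pop (hQ : 2 ≤ |Q|) (hf : ∀ n, {lam : Ty (Orb K Q) | tdeg (dOrb K Q) lam = n}.Finite) (k : ℕ)
    (c : ZMod M) : Adj (dOrb K Q) Q k (Pop θ Q M k c) (PSop θ Q M k c) := by
  classical
  rw [Pop_eq, PSop]
  refine Adj.sum _ fun o _ => ?_
  split_ifs with h
  · have h1 := (Adj_lft_pp (d := dOrb K Q) dOrb_pos hQ hf o (k / dOrb K Q o)).smul (thO θ Q M k c o)
    rwa [Nat.mul_div_cancel' h.2] at h1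
  · exact Adj.zero

theorem lft_ps_vac {I : Type*} (i : I) (t : ℂ) (m : ℕ) : lft i (ps t m) (vac : Ty I → ℂ) = 0 := by
  classical
  funext lam
  rw [lft_apply]
  have h1 : (fun c => (vac : Ty I → ℂ) (lam.update i c)) = (vac (lam.update i 0) : ℂ) • vacl := by
    funext c
    rw [Pi.smul_apply, smul_eq_mul, vac, vac, vacl]
    by_cases h0 : lam.update i 0 = 0
    · rw [if_pos h0, one_mul]
      have h2 : lam.update i c = 0 ↔ c = 0 := by
        constructor
        · intro h
          have := DFunLike.congr_fun h i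
          rwa [update_same] at this
        · rintro rfl
          exact h0
      by_cases hc : c = 0
      · rw [if_pos (h2.2 hc), if_pos hc]
      · rw [if_neg fun h => hc (h2.1 h), if_neg hc]
    · rw [if_neg h0, zero_mul, if_neg]
      intro h
      apply h0
      have h3 := DFunLike.congr_fun h i
      rw [update_same] at h3
      rw [← h, h3]
      rfl
  rw [h1, map_smul, show ps t m vacl = 0 from H521.GU.Dp_vacl t, smul_zero]
  rfl

theorem PSop_vac (k : ℕ) (c : ZMod M) : PSop θ Q M k c vac = 0 := by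
  classical
  rw [PSop, LinearMap.sum_apply]
  refine Finset.sum_eq_zero fun o _ => ?_
  split_ifs
  · rw [LinearMap.smul_apply, lft_ps_vac, smul_zero]
  · rfl

open Classical in
/-- the sum over the orbits in the Heisenberg relation -/
noncomputable def orthS (k : ℕ) (c c' : ZMod M) : ℂ :=
  ∑ o : Orb K Q, if dOrb K Q o ∣ k then conj (thO θ Q M k c o) * thO θ Q M k c' o *
    (((k / dOrb K Q o : ℕ) : ℂ) * kap ((Q : ℂ) ^ dOrb K Q o) (k / dOrb K Q o)) else 0

theorem PSop_Pop (hQ : 2 ≤ |Q|) {k : ℕ} (hk : 0 < k) (c : ZMod M) (k' : ℕ) (c' : ZMod M) :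
    PSop θ Q M k c * Pop θ Q M k' c' = Pop θ Q M k' c' * PSop θ Q M k c +
      (if k = k' then orthS θ Q M k c c' else 0) • 1 := by
  classical
  have key : ∀ o o' : Orb K Q,
      (if 0 < k ∧ dOrb K Q o ∣ k then
        conj (thO θ Q M k c o) • lft o (ps ((Q : ℂ) ^ dOrb K Q o) (k / dOrb K Q o)) else 0) *
      (if 0 < k' ∧ dOrb K Q o' ∣ k' then
        thO θ Q M k' c' o' • lft o' (pp ((Q : ℂ) ^ dOrb K Q o') (k' / dOrb K Q o')) else 0) =
      (if 0 < k' ∧ dOrb K Q o' ∣ k' then
        thO θ Q M k' c' o' • lft o' (pp ((Q : ℂ) ^ dOrb K Q o') (k' / dOrb K Q o')) else 0) *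
      (if 0 < k ∧ dOrb K Q o ∣ k then
        conj (thO θ Q M k c o) • lft o (ps ((Q : ℂ) ^ dOrb K Q o) (k / dOrb K Q o)) else 0) +
      (if o = o' then (if k = k' then (if dOrb K Q o ∣ k then conj (thO θ Q M k c o) * thO θ Q M k c' o *
        (((k / dOrb K Q o : ℕ) : ℂ) * kap ((Q : ℂ) ^ dOrb K Q o) (k / dOrb K Q o)) else 0) else 0) else 0) •
        (1 : Module.End ℂ (Ty (Orb K Q) → ℂ)) := by
    intro o o'
    by_cases h1 : 0 < k ∧ dOrb K Q o ∣ k
    · by_cases h2 : 0 < k' ∧ dOrb K Q o' ∣ k'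
      · rw [if_pos h1, if_pos h2, smul_mul_smul_comm, smul_mul_smul_comm, mul_comm (thO θ Q M k' c' o')]
        by_cases ho : o = o'
        · subst ho
          have hgen : Gen ((Q : ℂ) ^ dOrb K Q o) := by
            have h0 : Q ≠ 0 := by
              rintro rfl
              simp at hQ
            refine ⟨pow_ne_zero _ (Int.cast_ne_zero.2 h0), fun j hj h => ?_⟩
            rw [← pow_mul] at h
            have h1 : Q ^ (dOrb K Q o * j) = 1 := by exact_mod_cast h
            have h2 : |Q| ^ (dOrb K Q o * j) = 1 := by rw [← abs_pow, h1, abs_one]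
            have h3 : 1 < |Q| ^ (dOrb K Q o * j) := one_lt_pow₀ (by omega) (Nat.mul_pos (dOrb_pos o) hj).ne'
            omega
          have hr : 0 < k / dOrb K Q o := Nat.div_pos (Nat.le_of_dvd h1.1 h1.2) (dOrb_pos o)
          have h3 := ps_pp H521.GU.i3s hgen hr (k' / dOrb K Q o)
          rw [← map_mul, h3, map_add, map_mul, smul_add, if_pos rfl]
          congr 1
          have h4 : k' / dOrb K Q o = k / dOrb K Q o ↔ k = k' := by
            constructor
            · intro h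
              rw [← Nat.div_mul_cancel h1.2, ← Nat.div_mul_cancel h2.2, h]
            · rintro rfl
              rfl
          by_cases hkk : k = k'
          · subst hkk
            rw [if_pos rfl, if_pos rfl, if_pos h1.2, map_smul, map_one, smul_smul]
          · rw [if_neg hkk, if_neg fun h => hkk (h4.1 h), map_zero, smul_zero, zero_smul]
        · rw [if_neg ho, zero_smul, add_zero, (lft_comm_ps _ _ _ ho).eq]
      · rw [if_neg h2, mul_zero, zero_mul, zero_add]
        by_cases ho : o = o'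
        · subst ho
          rw [if_pos rfl]
          by_cases hkk : k = k'
          · subst hkk
            exact absurd h1 h2
          · rw [if_neg hkk, zero_smul]
        · rw [if_neg ho, zero_smul]
    · rw [if_neg h1, mul_zero, zero_mul, zero_add]
      have h3 : ¬ dOrb K Q o ∣ k := fun h => h1 ⟨hk, h⟩
      rw [if_neg h3]
      simp only [ite_self, zero_smul]
  rw [Pop_eq, PSop, Finset.sum_mul_sum, Finset.sum_mul_sum, Finset.sum_congr rfl fun o _ =>
    Finset.sum_congr rfl fun o' _ => key o o']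
  simp only [Finset.sum_add_distrib]
  congr 1
  · exact Finset.sum_comm
  · simp only [← Finset.sum_smul]
    congr 1
    simp only [Finset.sum_ite_eq, Finset.mem_univ, if_true]
    by_cases hkk : k = k'
    · subst hkk
      simp only [if_true]
      rfl
    · simp only [if_neg hkk, Finset.sum_const_zero]

end PS

end Cfsg.Agent.H531.GU
end

-- part: H531/GU/Form
section
/-!
# S4537, R2: the evaluation of the standard model is an isometry (helper531)

* `PSop_rho` : `PSop v` acts as the derivation `sign ^ k * zz v • pderiv v`;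
* `ipt_evR` : `ipt n (evR x) (evR y) = form x y` for `x`, `y` of weight `n ≤ N`.
-/

set_option autoImplicit false
set_option linter.unusedSectionVars false

open scoped ComplexConjugate
open Cfsg Cfsg.Agent.H615.GU Cfsg.Agent.H315.GU Cfsg.Agent.H577.GLB.Std

universe u

namespace Cfsg.Agent.H531.GU

open MvPolynomial

section Der

variable {σ : Type*}

theorem pderiv_supported {S : Set σ} (v : σ) {y : MvPolynomial σ ℂ} (hy : y ∈ supported ℂ S) :
    pderiv v y ∈ supported ℂ S := by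
  classical
  rw [supported_eq_adjoin_X] at hy ⊢
  induction hy using Algebra.adjoin_induction with
  | mem x hx =>
    obtain ⟨w, hw, rfl⟩ := hx
    by_cases h : w = v
    · subst h
      rw [pderiv_X_self]
      exact Subalgebra.one_mem _
    · rw [pderiv_X_of_ne h]
      exact Subalgebra.zero_mem _
  | algebraMap r =>
    rw [Derivation.map_algebraMap]
    exact Subalgebra.zero_mem _
  | add x y _ _ hx hy =>
    rw [map_add]
    exact Subalgebra.add_mem _ hx hy
  | mul x y hx' hy' hx hy =>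
    rw [Derivation.leibniz, smul_eq_mul, smul_eq_mul]
    exact Subalgebra.add_mem _ (Subalgebra.mul_mem _ hx' hy) (Subalgebra.mul_mem _ hy' hx)

end Der

section Main

variable {K : Type*} [Field K] [Finite K] {θ : K →*₀ ℂ} {Q : ℤ} {M N : ℕ}

/-- the orthogonality relations of the characters of the tori -/
def OrthS (θ : K →*₀ ℂ) (Q : ℤ) (M N : ℕ) : Prop :=
  ∀ (k : ℕ) (c c' : ZMod M), 0 < k → k ≤ N → TorZ Q M k c → TorZ Q M k c' →
    orthS θ Q M k c c' = (Q.sign : ℂ) ^ k *
      ((open Classical in ((Finset.range k).filter fun j => (Q : ZMod M) ^ j * c' = c).card : ℕ) : ℂ)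

theorem orth_gen [NeZero M] (hO : OrthS θ Q M N) {v w : Var M} (hv : GenVar Q M v) (hw : GenVar Q M w)
    (hN : v.1 ≤ N) : (if v.1 = w.1 then orthS θ Q M v.1 v.2 w.2 else 0) =
      if w = v then (Q.sign : ℂ) ^ v.1 * (zz Q M v : ℂ) else 0 := by
  classical
  obtain ⟨k, c⟩ := v
  obtain ⟨k', c'⟩ := w
  obtain ⟨hk, hT, hc⟩ := hv
  obtain ⟨hk', hT', hc'⟩ := hw
  simp only at hk hT hc hk' hT' hc' hN ⊢
  by_cases hkk : k = k'
  · subst hkk
    rw [if_pos rfl, hO k c c' hk hN hT hT']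
    by_cases hcc : c' = c
    · subst hcc
      rw [if_pos rfl, zz]
    · rw [if_neg fun h => hcc (Prod.ext_iff.1 h).2, Finset.filter_false_of_mem, Finset.card_empty, Nat.cast_zero,
        mul_zero]
      intro j _ hj
      exact hcc (H623.GLn.eq_of_canon hk hT' hc' hc hj.symm).symm
  · rw [if_neg hkk, if_neg fun h => hkk (Prod.ext_iff.1 h).1.symm]

theorem PSop_rho [NeZero M] (hQ : 2 ≤ |Q|) (hO : OrthS θ Q M N) {rho : RS M →ₐ[ℂ] Module.End ℂ (Ty (Orb K Q) → ℂ)}
    (hrho : ∀ v : Var M, rho (X v) = Pop θ Q M v.1 v.2) {v : Var M} (hv : GenVar Q M v) (hN : v.1 ≤ N)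
    {y : RS M} (hy : y ∈ supported ℂ {v : Var M | GenVar Q M v}) :
    PSop θ Q M v.1 v.2 * rho y = rho y * PSop θ Q M v.1 v.2 +
      rho (((Q.sign : ℂ) ^ v.1 * (zz Q M v : ℂ)) • pderiv v y) := by
  classical
  rw [supported_eq_adjoin_X] at hy
  induction hy using Algebra.adjoin_induction with
  | mem x hx =>
    obtain ⟨w, hw, rfl⟩ := hx
    rw [hrho, PSop_Pop θ Q M hQ hv.1, orth_gen hO hv hw hN]
    congr 1
    by_cases h : w = v
    · subst h
      rw [if_pos rfl, pderiv_X_self, map_smul, map_one]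
    · rw [if_neg h, pderiv_X_of_ne h, smul_zero, map_zero, zero_smul]
  | algebraMap r =>
    rw [Derivation.map_algebraMap, smul_zero, map_zero, add_zero, AlgHom.commutes]
    exact (Algebra.commutes r _).symm
  | add x y _ _ hx hy => rw [map_add, mul_add, hx, hy, map_add, smul_add, map_add, add_mul]; abel
  | mul x y _ _ hx hy =>
    rw [map_mul, ← mul_assoc, hx, add_mul, mul_assoc, hy, Derivation.leibniz, smul_eq_mul, smul_eq_mul, smul_add,
      map_add, mul_add, mul_assoc]
    have h1 : rho x * rho (((Q.sign : ℂ) ^ v.1 * (zz Q M v : ℂ)) • pderiv v y) =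
        rho (((Q.sign : ℂ) ^ v.1 * (zz Q M v : ℂ)) • (x * pderiv v y)) := by
      rw [← map_mul, mul_smul_comm]
    have h2 : rho (((Q.sign : ℂ) ^ v.1 * (zz Q M v : ℂ)) • pderiv v x) * rho y =
        rho (((Q.sign : ℂ) ^ v.1 * (zz Q M v : ℂ)) • (y * pderiv v x)) := by
      rw [← map_mul, smul_mul_assoc, mul_comm y]
    rw [h1, h2, add_assoc]

theorem evR_zero_apply {y : RS M} (hy : y ∈ supported ℂ {v : Var M | GenVar Q M v}) :
    evR θ Q M y 0 = coeff 0 y := by
  classical
  have hT0 : tdeg (dOrb K Q) (0 : Ty (Orb K Q)) = 0 := Finsupp.sum_zero_index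
  rw [mem_supported] at hy
  conv_lhs => rw [y.as_sum, map_sum, Finset.sum_apply]
  have h1 : ∀ m ∈ y.support, evR θ Q M (monomial m (coeff m y)) 0 = if m = 0 then coeff 0 y else 0 := by
    intro m hm
    split_ifs with h
    · subst h
      have h2 : (monomial (0 : Var M →₀ ℕ) (coeff 0 y) : RS M) = coeff 0 y • (1 : RS M) := by
        rw [smul_eq_C_mul, mul_one]
        rfl
      rw [h2, map_smul, evR_one, Pi.smul_apply, smul_eq_mul, vac, if_pos rfl, mul_one]
    · refine evR_supp θ Q M H521.GU.i2s (n := Finsupp.weight (fun v : Var M => v.1) m) ?_ 0 ?_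
      · rw [mem_weightedHomogeneousSubmodule]
        exact isWeightedHomogeneous_monomial _ _ _ rfl
      · rw [hT0]
        intro h0
        obtain ⟨v, hv⟩ : ∃ v, v ∈ m.support := by
          by_contra hcon
          push Not at hcon
          exact h (Finsupp.support_eq_empty.1 (Finset.eq_empty_of_forall_notMem hcon))
        have hg : GenVar Q M v := hy (Finset.mem_coe.2 ((mem_vars_iff_mem_support v).2 ⟨m, hm, hv⟩))
        have h3 : m v • v.1 ≤ Finsupp.weight (fun v : Var M => v.1) m := by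
          rw [Finsupp.weight_apply, Finsupp.sum]
          exact Finset.single_le_sum (f := fun v => m v • v.1) (fun _ _ => Nat.zero_le _) hv
        have h4 : 0 < m v := Nat.pos_of_ne_zero (Finsupp.mem_support_iff.1 hv)
        have h5 := Nat.mul_pos h4 hg.1
        rw [smul_eq_mul] at h3
        omega
  rw [Finset.sum_congr rfl h1, Finset.sum_ite_eq']
  split_ifs with h
  · rfl
  · exact (notMem_support_iff.1 h).symm

/-- the isometry for monomials -/
theorem ipt_mono [NeZero M] (ctx : CtxQ θ Q M N) (hO : OrthS θ Q M N) (e : ℕ) : ∀ m : Var M →₀ ℕ,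
    Finsupp.degree m = e →
    (∀ v ∈ m.support, GenVar Q M v) → Finsupp.weight (fun v : Var M => v.1) m ≤ N →
    ∀ y : RS M, y ∈ supported ℂ {v : Var M | GenVar Q M v} →
    ipt (dOrb K Q) Q (Finsupp.weight (fun v : Var M => v.1) m) (evR θ Q M (monomial m 1)) (evR θ Q M y) =
      form Q M (monomial m 1) y := by
  classical
  obtain ⟨rho, hrho, hev⟩ := exists_rho θ Q M H521.GU.i2s
  have hf := finite_tdeg ctx
  have hs : (Q.sign : ℂ) * (Q.sign : ℂ) = 1 := by
    rw [← Int.cast_mul, sign_mul_self (d := dOrb K Q) dOrb_pos ctx.two, Int.cast_one]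
  induction e with
  | zero =>
    intro m hm _ _ y hy
    rw [Finsupp.degree_eq_zero_iff] at hm
    subst hm
    have hT0 : tdeg (dOrb K Q) (0 : Ty (Orb K Q)) = 0 := Finsupp.sum_zero_index
    have h1 : (monomial (0 : Var M →₀ ℕ) (1 : ℂ) : RS M) = 1 := rfl
    rw [map_zero, H614.GLn.RSt.form_monomial_left, one_mul, h1, evR_one, ipt, Finset.sum_eq_single 0]
    · rw [vac, if_pos rfl, one_mul, pow_zero, one_mul, evR_zero_apply hy]
      have h2 : Ag (dOrb K Q) Q (0 : Ty (Orb K Q)) = 1 := by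
        rw [Ag, Finsupp.support_zero, Finset.prod_empty]
      rw [h2, div_one, H614.GLn.RSt.Nf, Finsupp.prod_zero_index, mul_one]
    · intro lam _ hne
      rw [vac, if_neg hne, zero_mul, zero_div]
    · intro h
      exact absurd ((mem_tofDeg (hf 0)).2 hT0) h
  | succ e ih =>
    intro m hm hgen hw y hy
    obtain ⟨v, hv⟩ : ∃ v, v ∈ m.support := by
      by_contra hcon
      push Not at hcon
      rw [Finsupp.support_eq_empty.1 (Finset.eq_empty_of_forall_notMem hcon), map_zero] at hm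
      omega
    have hv0 : m v ≠ 0 := Finsupp.mem_support_iff.1 hv
    have hg := hgen v hv
    obtain ⟨m', hm'⟩ : ∃ m', m = m' + Finsupp.single v 1 := ⟨_, (Finsupp.sub_add_single_one_cancel hv0).symm⟩
    have hwt : Finsupp.weight (fun v : Var M => v.1) m = Finsupp.weight (fun v : Var M => v.1) m' + v.1 := by
      rw [hm', map_add, Finsupp.weight_single, one_smul]
    have hdeg : Finsupp.degree m' = e := by
      rw [hm', map_add, Finsupp.degree_single] at hm
      omega
    have hgen' : ∀ w ∈ m'.support, GenVar Q M w := by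
      intro w hw'
      refine hgen w ?_
      rw [Finsupp.mem_support_iff] at hw' ⊢
      rw [hm', Finsupp.add_apply]
      omega
    have h1 : (monomial m 1 : RS M) = X v * monomial m' 1 := by
      rw [X, monomial_mul, one_mul, hm', add_comm]
    have h2 : PSop θ Q M v.1 v.2 (evR θ Q M y) =
        evR θ Q M (((Q.sign : ℂ) ^ v.1 * (zz Q M v : ℂ)) • pderiv v y) := by
      have h3 := PSop_rho ctx.two hO hrho hg (by omega) hy
      have h4 := congrArg (fun A : Module.End ℂ (Ty (Orb K Q) → ℂ) => A vac) h3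
      simp only [Module.End.mul_apply, LinearMap.add_apply] at h4
      rw [hev, hev, h4, PSop_vac, map_zero, zero_add]
    rw [h1, hwt, evR_X_mul θ Q M H521.GU.i2s, Adj_Pop θ Q M ctx.two hf v.1 v.2, h2, H614.GLn.RSt.form_X_mul,
      ih m' hdeg hgen' (by omega) _ (Subalgebra.smul_mem _ (pderiv_supported v hy) _), H614.GLn.RSt.Dv_apply,
      H614.GLn.RSt.form_smul_right, H614.GLn.RSt.form_smul_right, map_mul, map_pow, map_intCast,
      Complex.conj_natCast, ← mul_assoc, ← mul_assoc, ← mul_pow, hs, one_pow, one_mul]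

/-- **R2**: the isometry -/
theorem ipt_evR (ctx : CtxQ θ Q M N) (hO : OrthS θ Q M N) {n : ℕ} (hn : n ≤ N) {x y : RS M}
    (hx : x ∈ Hom Q M n) (hy : y ∈ Hom Q M n) :
    ipt (dOrb K Q) Q n (evR θ Q M x) (evR θ Q M y) = form Q M x y := by
  classical
  have := CtxQ.neM ctx
  have hy' := H623.GLn.genR_le Q hy.1
  rw [x.as_sum, map_sum, ipt_sum_left, H614.GLn.RSt.form_sum_left]
  refine Finset.sum_congr rfl fun m hm => ?_
  have h1 : (monomial m (coeff m x) : RS M) = coeff m x • monomial m 1 := by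
    rw [smul_monomial, smul_eq_mul, mul_one]
  have h2 := H623.GLn.Hom.weight hx hm
  have h3 := ipt_mono ctx hO _ m rfl (fun v hv => H623.GLn.Hom.genVar hx hm hv) (by rw [h2]; exact hn) y hy'
  rw [h2] at h3
  rw [h1, map_smul, ipt_smul_left, H614.GLn.RSt.form_smul_left, h3]

/-- R2 in the group -/
theorem classInner_evR (ctx : CtxQ θ Q M N) (hO : OrthS θ Q M N) {n : ℕ} (hn : n ≤ N) {G : Type u} [Group G]
    [Finite G] [Fintype G] (T : TypeData (dOrb K Q) Q G n) {x y : RS M}
    (hx : x ∈ Hom Q M n) (hy : y ∈ Hom Q M n) :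
    classInner (fun g => evR θ Q M x (T.typ g)) (fun g => evR θ Q M y (T.typ g)) = form Q M x y := by
  rw [classInner_typ T dOrb_pos ctx.two, ipt_evR ctx hO hn hx hy]

end Main

end Cfsg.Agent.H531.GU
end

-- part: H421/GU/Orth
section
/-!
# S4537: the orthogonality sum over the orbits (helper421)

* `card_level` : the torus of level `k` has order `|Q ^ k - 1|`; `exists_gen`; `conj_th`;
* `sum_level` : orthogonality of its characters; `sum_periodic`; `sign_pow`;
* `orth_sum` : the sum over the orbits.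
-/

set_option autoImplicit false
set_option linter.unusedSectionVars false

open scoped ComplexConjugate

namespace Cfsg.Agent.H421.GU

open Cfsg.Agent.H615.GU Cfsg.Agent.H577.GLB.Std

section

variable {K : Type*} [Field K] {θ : K →*₀ ℂ} {Q : ℤ} {M N : ℕ} {k : ℕ}

theorem pow_eq_self_iff {x : Kˣ} : x ^ (Q ^ k) = x ↔ x ^ (Q ^ k - 1).natAbs = 1 := by
  rw [← zpow_natCast, Int.natCast_natAbs]
  have h1 : x ^ (Q ^ k) = x ↔ x ^ (Q ^ k - 1) = 1 := by
    rw [zpow_sub, zpow_one, mul_inv_eq_one]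
  rw [h1]
  rcases abs_choice (Q ^ k - 1) with h | h <;> rw [h]
  rw [zpow_neg, inv_eq_one]

/-- a generator of the torus of level `k` -/
theorem exists_gen [Finite K] (hM : Nat.card Kˣ = M) (hk : (Q ^ k - 1).natAbs ∣ M) :
    ∃ x : Kˣ, orderOf x = (Q ^ k - 1).natAbs := by
  obtain ⟨g, hg⟩ := IsCyclic.exists_ofOrder_eq_natCard (α := Kˣ)
  obtain ⟨s, hs⟩ := hk
  have hM0 : 0 < M := by
    rw [← hM]
    exact Nat.card_pos
  have hs0 : 0 < s := by
    rcases Nat.eq_zero_or_pos s with h | h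
    · rw [h, mul_zero] at hs
      omega
    · exact h
  refine ⟨g ^ s, ?_⟩
  rw [orderOf_pow' g hs0.ne', hg, hM, hs, Nat.gcd_eq_right (dvd_mul_left _ _), Nat.mul_div_cancel _ hs0]

theorem card_level [Finite K] (hM : Nat.card Kˣ = M) (hk : (Q ^ k - 1).natAbs ∣ M) :
    Nat.card {x : Kˣ // x ^ (Q ^ k) = x} = (Q ^ k - 1).natAbs := by
  classical
  have : Fintype Kˣ := Fintype.ofFinite _
  obtain ⟨x, hx⟩ := exists_gen hM hk
  have hL : 0 < (Q ^ k - 1).natAbs := by
    rw [← hx]
    exact orderOf_pos x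
  have h1 : Nat.card {x : Kˣ // x ^ (Q ^ k) = x} = (Finset.univ.filter fun x : Kˣ => x ^ (Q ^ k - 1).natAbs = 1).card := by
    rw [Nat.card_eq_fintype_card, Fintype.card_subtype]
    congr 1
    ext y
    simp only [pow_eq_self_iff, _root_.Cfsg.Agent.H421.GU.pow_eq_self_iff, _root_.pow_natAbs_eq_one, _root_.Finset.mem_filter, _root_.Finset.mem_univ, _root_.true_and]
  rw [h1]
  refine le_antisymm (IsCyclic.card_pow_eq_one_le hL) ?_
  have h2 : (Finset.univ.filter fun y : Kˣ => y ∈ Subgroup.zpowers x).card = (Q ^ k - 1).natAbs := by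
    rw [← hx, ← Nat.card_zpowers, Nat.card_eq_fintype_card, Fintype.card_subtype]
  refine h2.ge.trans (Finset.card_le_card fun y hy => ?_)
  rw [Finset.mem_filter] at hy ⊢
  refine ⟨Finset.mem_univ _, ?_⟩
  obtain ⟨n, rfl⟩ := Subgroup.mem_zpowers_iff.1 hy.2
  rw [← zpow_natCast, ← zpow_mul, mul_comm, zpow_mul, zpow_natCast, ← hx, pow_orderOf_eq_one, one_zpow]

theorem conj_th [Finite K] (x : Kˣ) : conj (θ (x : K)) = θ ((x⁻¹ : Kˣ) : K) := by
  have h1 : θ (x : K) ^ Nat.card Kˣ = 1 := by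
    rw [← map_pow, ← Units.val_pow_eq_pow_val, pow_card_eq_one', Units.val_one, map_one]
  have h2 : ‖θ (x : K)‖ = 1 := Complex.norm_eq_one_of_pow_eq_one h1 (Nat.card_pos).ne'
  rw [Units.val_inv_eq_inv_val, map_inv₀, Complex.inv_def, Complex.normSq_eq_norm_sq, h2]
  simp

variable [NeZero M]

open Classical in
/-- orthogonality of the characters of the torus of level `k` -/
theorem sum_level [Finite K] [Fintype Kˣ] (hinj : Function.Injective θ) (hM : Nat.card Kˣ = M)
    (hk : (Q ^ k - 1).natAbs ∣ M) {c c' : ZMod M} (hc : TorZ Q M k c) (hc' : TorZ Q M k c') :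
    ∑ x : Kˣ, (if x ^ (Q ^ k) = x then
      conj (θ ((x ^ expoZ Q M k c : Kˣ) : K)) * θ ((x ^ expoZ Q M k c' : Kˣ) : K) else 0) =
      if c' = c then ((Q ^ k - 1).natAbs : ℂ) else 0 := by
  have hM0 : (M : ℤ) ≠ 0 := by exact_mod_cast NeZero.ne M
  have hδ := H614.GLn.RSt.torZ_sub k hc' hc
  set δ := c' - c with hδd
  have h1 : ∀ x : Kˣ, x ^ (Q ^ k) = x →
      conj (θ ((x ^ expoZ Q M k c : Kˣ) : K)) * θ ((x ^ expoZ Q M k c' : Kˣ) : K) =
        θ ((x ^ expoZ Q M k δ : Kˣ) : K) := by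
    intro x hx
    have h2 : c' = c + δ := by rw [hδd]; ring
    rw [conj_th, ← map_mul, ← Units.val_mul, h2, pow_expoZ_add hx hc hδ, inv_mul_cancel_left]
  have h1' : ∑ x : Kˣ, (if x ^ (Q ^ k) = x then
      conj (θ ((x ^ expoZ Q M k c : Kˣ) : K)) * θ ((x ^ expoZ Q M k c' : Kˣ) : K) else 0) =
      ∑ x : Kˣ, (if x ^ (Q ^ k) = x then θ ((x ^ expoZ Q M k δ : Kˣ) : K) else 0) := by
    refine Finset.sum_congr rfl fun x _ => ?_
    split_ifs with h
    · exact h1 x h
    · rfl
  rw [h1']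
  by_cases h0 : c' = c
  · have hδ0 : δ = 0 := by rw [hδd, h0, sub_self]
    have he : expoZ Q M k δ = 0 := by
      rw [hδ0, expoZ, ZMod.val_zero]
      simp
    rw [if_pos h0, he]
    simp only [zpow_zero, Units.val_one, map_one]
    rw [Finset.sum_ite, Finset.sum_const_zero, add_zero, Finset.sum_const, nsmul_eq_mul, mul_one,
      ← card_level hM hk, Nat.card_eq_fintype_card, Fintype.card_subtype]
  · rw [if_neg h0]
    obtain ⟨x₀, hx₀⟩ := exists_gen hM hk
    have hx₀' : x₀ ^ (Q ^ k) = x₀ := by rw [pow_eq_self_iff, ← hx₀, pow_orderOf_eq_one]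
    have hne : x₀ ^ expoZ Q M k δ ≠ 1 := by
      intro h
      rw [← orderOf_dvd_iff_zpow_eq_one, hx₀] at h
      have h3 : (Q ^ k - 1) ∣ expoZ Q M k δ := Int.natAbs_dvd.1 h
      obtain ⟨s, hs⟩ := h3
      have h4 := expoZ_mul hδ
      have hL : (Q ^ k - 1) ≠ 0 := by
        intro h5
        have h6 := orderOf_pos x₀
        rw [hx₀, h5] at h6
        simp at h6
      have h5 : (δ.val : ℤ) = s * M := by
        refine mul_right_cancel₀ hL ?_
        rw [← h4, hs]
        ring
      have h6 : (M : ℤ) ∣ δ.val := ⟨s, by rw [h5]; ring⟩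
      have h7 : M ∣ δ.val := by exact_mod_cast h6
      have h8 : δ.val = 0 := Nat.eq_zero_of_dvd_of_lt h7 (ZMod.val_lt δ)
      have h9 : δ = 0 := (ZMod.val_eq_zero δ).1 h8
      exact h0 (sub_eq_zero.1 h9)
    set S := ∑ x : Kˣ, (if x ^ (Q ^ k) = x then θ ((x ^ expoZ Q M k δ : Kˣ) : K) else 0) with hS
    have h2 : S = θ ((x₀ ^ expoZ Q M k δ : Kˣ) : K) * S := by
      conv_lhs => rw [hS, ← Equiv.sum_comp (Equiv.mulLeft x₀)]
      rw [hS, Finset.mul_sum]
      refine Finset.sum_congr rfl fun x _ => ?_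
      have h3 : (Equiv.mulLeft x₀ x) ^ (Q ^ k) = Equiv.mulLeft x₀ x ↔ x ^ (Q ^ k) = x := by
        rw [Equiv.coe_mulLeft, mul_zpow, hx₀', mul_right_inj]
      rw [mul_ite, mul_zero, if_congr h3 rfl rfl, Equiv.coe_mulLeft, mul_zpow, Units.val_mul, map_mul]
    have h3 : θ ((x₀ ^ expoZ Q M k δ : Kˣ) : K) ≠ 1 := by
      intro h
      apply hne
      have h4 : θ ((x₀ ^ expoZ Q M k δ : Kˣ) : K) = θ 1 := by rw [h, map_one]
      exact Units.ext (hinj h4)
    have h4 : (θ ((x₀ ^ expoZ Q M k δ : Kˣ) : K) - 1) * S = 0 := by rw [sub_mul, one_mul, ← h2, sub_self]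
    rcases mul_eq_zero.1 h4 with h | h
    · exact absurd (sub_eq_zero.1 h) h3
    · exact h

/-- periodic sums -/
theorem sum_periodic {A : Type*} [AddCommMonoid A] [Finite K] (hM : Nat.card Kˣ = M) (hQ : IsUnit (Q : ZMod M))
    (f : Kˣ → A) {x : Kˣ} (hx : dOrb K Q (Quotient.mk (orbSetoid K Q) x) ∣ k) :
    ∑ i ∈ Finset.range k, f (x ^ (Q ^ i)) =
      (k / dOrb K Q (Quotient.mk (orbSetoid K Q) x)) •
        ∑ i ∈ Finset.range (dOrb K Q (Quotient.mk (orbSetoid K Q) x)), f (x ^ (Q ^ i)) := by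
  obtain ⟨m, hm⟩ := hx
  have hd := dOrb_pos hM hQ (Quotient.mk (orbSetoid K Q) x)
  have hp := pow_dOrb hM hQ x
  have h2 : k / dOrb K Q (Quotient.mk (orbSetoid K Q) x) = m := by
    conv_lhs => rw [hm]
    exact Nat.mul_div_cancel_left m hd
  rw [h2]
  conv_lhs => rw [hm]
  set d := dOrb K Q (Quotient.mk (orbSetoid K Q) x) with hdd
  have h0 : ∀ m, x ^ (Q ^ (d * m)) = x := by
    intro m
    induction m with
    | zero => simp
    | succ m ih => rw [Nat.mul_succ, pow_add, zpow_mul, ih, hp]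
  clear h2 hm
  induction m with
  | zero => simp
  | succ m ih =>
    rw [Nat.mul_succ, Finset.sum_range_add, ih, succ_nsmul]
    congr 1
    refine Finset.sum_congr rfl fun i _ => ?_
    rw [pow_add, zpow_mul, h0]

theorem sign_pow (h2 : 2 ≤ |Q|) (hk0 : 0 < k) : ((Q ^ k - 1).natAbs : ℤ) = Q.sign ^ k * (Q ^ k - 1) ∧ Q ^ k ≠ 1 := by
  have h1 : 1 < |Q ^ k| := by
    rw [abs_pow]
    exact one_lt_pow₀ (by omega) hk0.ne'
  have hne : Q ^ k ≠ 1 := by
    intro h
    rw [h, abs_one] at h1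
    exact lt_irrefl _ h1
  refine ⟨?_, hne⟩
  have hQ0 : Q ≠ 0 := by
    rintro rfl
    simp at h2
  rw [Int.natCast_natAbs]
  have hs : Q.sign ^ k * Q ^ k = |Q ^ k| := by
    rw [← mul_pow, abs_pow, Int.sign_mul_self_eq_abs]
  have hs2 : Q.sign ^ k = 1 ∨ Q.sign ^ k = -1 := by
    rcases lt_or_gt_of_ne hQ0 with h | h
    · rw [Int.sign_eq_neg_one_of_neg h]
      exact neg_one_pow_eq_or ℤ k
    · rw [Int.sign_eq_one_of_pos h, one_pow]
      exact Or.inl rfl
  rcases hs2 with h | h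
  · rw [h, one_mul] at hs ⊢
    rw [abs_of_nonneg]
    rw [hs]
    omega
  · rw [h] at hs ⊢
    have h3 : Q ^ k < 0 := by omega
    rw [abs_of_nonpos (by omega)]
    ring

open Classical in
/-- **The orthogonality sum.** -/
theorem orth_sum [Fintype (Orb K Q)] (ctx : CtxQ θ Q M N) (hk0 : 0 < k) (hkN : k ≤ N) {c c' : ZMod M}
    (hc : TorZ Q M k c) (hc' : TorZ Q M k c') :
    ∑ o : Orb K Q, (if dOrb K Q o ∣ k then
      conj (thO θ Q M k c o) * thO θ Q M k c' o *
        (((k / dOrb K Q o : ℕ) : ℂ) * H531.GU.kap ((Q : ℂ) ^ dOrb K Q o) (k / dOrb K Q o)) else 0) =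
      (Q.sign : ℂ) ^ k * (((Finset.range k).filter fun j => (Q : ZMod M) ^ j * c' = c).card : ℂ) := by
  have := ctx.finK
  have : Fintype Kˣ := Fintype.ofFinite _
  have hM := ctx.card
  have hQ := ctx.unit
  obtain ⟨hsgn, hne1⟩ := sign_pow (Q := Q) (k := k) ctx.two hk0
  have hkM : (Q ^ k - 1).natAbs ∣ M := by
    have := ctx.dvd k hk0 hkN
    rwa [← Int.natAbs_dvd, Int.natCast_dvd_natCast] at this
  -- the function on `Kˣ`
  set ch : ZMod M → Kˣ → ℂ := fun b x => θ ((x ^ expoZ Q M k b : Kˣ) : K) with hch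
  set f : Kˣ → ℂ := fun x => if x ^ (Q ^ k) = x then
    conj (ch c x) * ∑ i ∈ Finset.range k, ch c' (x ^ (Q ^ i)) else 0 with hf
  have hzc : ((Q : ℂ) ^ k - 1) ≠ 0 := by
    intro h
    apply hne1
    have h3 : (((Q ^ k - 1 : ℤ)) : ℂ) = 0 := by push_cast; exact h
    have h4 : Q ^ k - 1 = 0 := by exact_mod_cast h3
    omega
  have hmkpow : ∀ (x : Kˣ) (i : ℕ), Quotient.mk (orbSetoid K Q) (x ^ (Q ^ i)) = Quotient.mk (orbSetoid K Q) x :=
    fun x i => (mk_eq_iff hM hQ).2 ⟨i, rfl⟩
  -- one orbit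
  have h1 : ∀ o : Orb K Q, (if dOrb K Q o ∣ k then
      conj (thO θ Q M k c o) * thO θ Q M k c' o *
        (((k / dOrb K Q o : ℕ) : ℂ) * H531.GU.kap ((Q : ℂ) ^ dOrb K Q o) (k / dOrb K Q o)) else 0) =
      ((Q : ℂ) ^ k - 1)⁻¹ * ∑ x : Kˣ, if Quotient.mk (orbSetoid K Q) x = o then f x else 0 := by
    intro o
    induction o using Quotient.inductionOn with
    | _ x =>
      have hd := dOrb_pos hM hQ (Quotient.mk (orbSetoid K Q) x)
      have h2 : ∑ y : Kˣ, (if Quotient.mk (orbSetoid K Q) y = Quotient.mk (orbSetoid K Q) x then f y else 0) =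
          ∑ i ∈ Finset.range (dOrb K Q (Quotient.mk (orbSetoid K Q) x)), f (x ^ (Q ^ i)) := by
        rw [← finsum_orb hM hQ f x, finsum_eq_sum_of_fintype, ← Finset.sum_filter]
        exact (Finset.sum_subtype_of_mem f (p := fun y => Quotient.mk (orbSetoid K Q) y = Quotient.mk (orbSetoid K Q) x)
          (fun y hy => (Finset.mem_filter.1 hy).2)).symm.trans (by
            congr 1
            ext y
            simp only [y.2, _root_.Finset.mem_subtype, _root_.Finset.mem_filter, _root_.Finset.mem_univ, _root_.and_self])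
      rw [h2]
      split_ifs with h
      · obtain ⟨m, hm⟩ := id h
        have hkd : k / dOrb K Q (Quotient.mk (orbSetoid K Q) x) = m := by
          conv_lhs => rw [hm]
          exact Nat.mul_div_cancel_left m hd
        have hm0 : m ≠ 0 := by
          rintro rfl
          rw [mul_zero] at hm
          omega
        have hkap : H531.GU.kap ((Q : ℂ) ^ dOrb K Q (Quotient.mk (orbSetoid K Q) x)) m = ((Q : ℂ) ^ k - 1)⁻¹ := by
          rw [H531.GU.kap, if_neg hm0, ← pow_mul, ← hm]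
        have h3 : ∀ i, f (x ^ (Q ^ i)) = conj (ch c (x ^ (Q ^ i))) *
            (m * thO θ Q M k c' (Quotient.mk (orbSetoid K Q) x)) := by
          intro i
          have h4 : (x ^ (Q ^ i)) ^ (Q ^ k) = x ^ (Q ^ i) := by
            rw [← dOrb_dvd_iff hM hQ, hmkpow]
            exact h
          have h5 := sum_periodic hM hQ (ch c') (k := k) (x := x ^ (Q ^ i)) (by rw [hmkpow]; exact h)
          rw [hf]
          simp only
          rw [if_pos h4, h5, hmkpow, hkd, nsmul_eq_mul]
          congr 2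
          have h6 := thO_mk (θ := θ) hM hQ k c' (x ^ (Q ^ i))
          rw [hmkpow] at h6
          exact h6.symm
        simp only [h3]
        rw [hkd, hkap, ← Finset.sum_mul, ← map_sum]
        have h7 : ∑ i ∈ Finset.range (dOrb K Q (Quotient.mk (orbSetoid K Q) x)), ch c (x ^ (Q ^ i)) =
            thO θ Q M k c (Quotient.mk (orbSetoid K Q) x) := (thO_mk hM hQ k c x).symm
        rw [h7]
        ring
      · symm
        rw [Finset.sum_eq_zero, mul_zero]
        intro i _
        rw [hf]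
        simp only
        rw [if_neg]
        rw [← dOrb_dvd_iff hM hQ, hmkpow]
        exact h
  rw [Finset.sum_congr rfl fun o _ => h1 o, ← Finset.mul_sum, Finset.sum_comm]
  have h2 : ∀ x : Kˣ, ∑ o : Orb K Q, (if Quotient.mk (orbSetoid K Q) x = o then f x else 0) = f x := by
    intro x
    rw [Finset.sum_ite_eq]
    simp
  simp only [h2]
  -- the sum over the torus
  have h3 : ∑ x : Kˣ, f x = ∑ i ∈ Finset.range k, if (Q : ZMod M) ^ i * c' = c then ((Q ^ k - 1).natAbs : ℂ) else 0 := by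
    have h4 : ∀ x : Kˣ, f x = ∑ i ∈ Finset.range k, (if x ^ (Q ^ k) = x then
        conj (θ ((x ^ expoZ Q M k c : Kˣ) : K)) * θ ((x ^ expoZ Q M k ((Q : ZMod M) ^ i * c') : Kˣ) : K) else 0) := by
      intro x
      rw [hf]
      simp only
      split_ifs with h
      · rw [Finset.mul_sum]
        refine Finset.sum_congr rfl fun i _ => ?_
        rw [pow_expoZ_mul h hc']
      · rw [Finset.sum_const_zero]
    simp only [h4]
    rw [Finset.sum_comm]
    exact Finset.sum_congr rfl fun i _ => sum_level ctx.inj hM hkM hc (H614.GLn.RSt.torZ_mul k hc' i)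
  rw [h3, ← Finset.sum_filter, Finset.sum_const, nsmul_eq_mul]
  have h5 : (((Q ^ k - 1).natAbs : ℕ) : ℂ) = (Q.sign : ℂ) ^ k * ((Q : ℂ) ^ k - 1) := by
    rw [← Int.cast_natCast (R := ℂ) (Q ^ k - 1).natAbs, hsgn]
    push_cast
    rfl
  rw [h5]
  field_simp

end

end Cfsg.Agent.H421.GU
end

-- part: H531/GU/R2
section
/-!
# S4537, R2: final form (helper531)
-/

set_option autoImplicit false

open Cfsg Cfsg.Agent.H615.GU Cfsg.Agent.H577.GLB.Std

universe u

namespace Cfsg.Agent.H531.GU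

variable {K : Type*} [Field K] {θ : K →*₀ ℂ} {Q : ℤ} {M N : ℕ}

theorem orthS_all [Finite K] (ctx : CtxQ θ Q M N) : OrthS θ Q M N := by
  classical
  intro k c c' hk hN hc hc'
  have := CtxQ.neM ctx
  have h := H421.GU.orth_sum ctx hk hN hc hc'
  unfold orthS
  convert h using 2

/-- **R2**: the evaluation of the standard model is an isometry. -/
theorem R2 (ctx : CtxQ θ Q M N) {n : ℕ} (hn : n ≤ N) {G : Type u} [Group G]
    [Finite G] [Fintype G] (T : TypeData (dOrb K Q) Q G n) {x y : RS M}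
    (hx : x ∈ Hom Q M n) (hy : y ∈ Hom Q M n) :
    classInner (fun g => evR θ Q M x (T.typ g)) (fun g => evR θ Q M y (T.typ g)) = form Q M x y := by
  have := ctx.finK
  exact classInner_evR ctx (orthS_all ctx) hn T hx hy

end Cfsg.Agent.H531.GU
end

-- part: H531/GU/Eig
section
/-!
# S4537 (T2): the elementary symmetric functions of the lifted eigenvalues (helper531)

* `size_mcol` : the size of the columns at `y` is the multiplicity of the eigenvalue `y`;
* `coeff_Wt` : the coefficients of `Wt (gx x) (sz lam)` are the elementary symmetric functions of the `θ(y)^x`,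
  `y` an eigenvalue of a matrix of type `lam`;
* `eInt_of` : `EInt θ T` if `T` is given by the columns of matrices.
-/

set_option autoImplicit false
set_option linter.unusedSectionVars false

open scoped ComplexConjugate
open Cfsg Cfsg.Agent.H615.GU Cfsg.Agent.H315.GU Cfsg.Agent.H577.GLB.Std
open Cfsg.Agent.OddOrderCharacters.VChar

universe u w

namespace Cfsg.Agent.H531.GU

open Polynomial Module

section mult

variable {F : Type u} [Field F] {K : Type w} [Field K] [Algebra F K] {n : ℕ}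

theorem sum_colOf {V : Type*} [AddCommGroup V] [Module K V] [Module.Finite K V] (T : V →ₗ[K] V) (j : ℕ) :
    ∑ i ∈ Finset.range j, colOf T i = finrank K (LinearMap.ker (T ^ j)) := by
  induction j with
  | zero =>
    rw [Finset.sum_range_zero, pow_zero]
    have h : LinearMap.ker (1 : End K V) = ⊥ := LinearMap.ker_id
    rw [h, finrank_bot]
  | succ j ih => rw [Finset.sum_range_succ, ih, add_comm, colOf_add]

/-- the multiplicity of an eigenvalue -/
theorem size_mcol (A : Matrix (Fin n) (Fin n) F) (y : K) :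
    (mcol A y).size = (A.charpoly.map (algebraMap F K)).rootMultiplicity y := by
  have h1 : (Matrix.toLin' (A.map (algebraMap F K) - Matrix.scalar (Fin n) y)) =
      Matrix.toLin' (A.map (algebraMap F K)) - y • 1 := by
    rw [map_sub]
    congr 1
    refine LinearMap.ext fun v => ?_
    rw [Matrix.toLin'_apply, Matrix.scalar_apply, ← Matrix.smul_one_eq_diagonal, Matrix.smul_mulVec,
      Matrix.one_mulVec]
    rfl
  set b := max (mcol A y).size n with hb
  have h2 : (mcol A y).size = ∑ i ∈ Finset.range b, mcol A y i := Col.size_eq_sum_range (le_max_left _ _)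
  have h3 : finrank K (Fin n → K) ≤ b := by
    rw [Module.finrank_fin_fun]
    exact le_max_right _ _
  rw [h2]
  show ∑ i ∈ Finset.range b, colOf (Matrix.toLin' (A.map (algebraMap F K) - Matrix.scalar (Fin n) y)) i = _
  rw [sum_colOf, h1, ← Module.End.genEigenspace_nat, Module.End.genEigenspace_eq_genEigenspace_finrank_of_le _ _ h3,
    ← Module.End.maxGenEigenspace_eq_genEigenspace_finrank, LinearMap.finrank_maxGenEigenspace_eq,
    Matrix.charpoly_toLin', Matrix.charpoly_map]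

end mult

section esymm

/-- the elementary symmetric functions as coefficients -/
theorem coeff_prod_esymm (s : Multiset ℂ) (k : ℕ) : ((s.map fun y => (1 + C y * X : ℂ[X])).prod).coeff k = s.esymm k := by
  induction s using Multiset.induction_on generalizing k with
  | empty =>
    rw [Multiset.map_zero, Multiset.prod_zero, coeff_one]
    cases k with
    | zero => rw [H501.GLn.esymm_zero', if_pos rfl]
    | succ k =>
      rw [if_neg (Nat.succ_ne_zero k), H501.GLn.esymm_of_card_lt]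
      rw [Multiset.card_zero]
      exact k.succ_pos
  | cons a s ih =>
    rw [Multiset.map_cons, Multiset.prod_cons, add_mul, one_mul, mul_assoc, coeff_add, coeff_C_mul]
    cases k with
    | zero => rw [coeff_X_mul_zero, mul_zero, add_zero, ih, H501.GLn.esymm_zero', H501.GLn.esymm_zero']
    | succ k => rw [coeff_X_mul, ih, ih, H501.GLn.esymm_cons]

end esymm

section wt

variable {F : Type u} [Field F] {K : Type w} [Field K] [Finite K] [Algebra F K] (θ : K →*₀ ℂ) {Q : ℤ} {n : ℕ}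

theorem Wt_eq_prod (x : ℤ) (v : Orb K Q →₀ ℕ) : Wt (gx θ Q x) v =
    ∏ᶠ y : Kˣ, (1 + C (θ (y : K) ^ x) * X) ^ v (Quotient.mk (orbSetoid K Q) y) := by
  classical
  have := Fintype.ofFinite Kˣ
  rw [finprod_eq_prod_of_fintype, Wt, Finsupp.prod_fintype _ _ (fun i => pow_zero _),
    ← Finset.prod_fiberwise_of_maps_to (s := (Finset.univ : Finset Kˣ)) (t := (Finset.univ : Finset (Orb K Q)))
      (g := fun y => Quotient.mk (orbSetoid K Q) y) (fun _ _ => Finset.mem_univ _)]
  refine Finset.prod_congr rfl fun o _ => ?_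
  have := Fintype.ofFinite {y : Kˣ // (Quotient.mk (orbSetoid K Q) y) = o}
  rw [gx, finprod_eq_prod_of_fintype, ← Finset.prod_pow]
  have h1 : ∀ y ∈ Finset.univ.filter (fun y : Kˣ => Quotient.mk (orbSetoid K Q) y = o),
      (1 + C (θ (y : K) ^ x) * X) ^ v (Quotient.mk (orbSetoid K Q) y) = (1 + C (θ (y : K) ^ x) * X : ℂ[X]) ^ v o := by
    intro y hy
    rw [(Finset.mem_filter.1 hy).2]
  rw [Finset.prod_congr rfl h1]
  symm
  exact Finset.prod_subtype _ (fun y => by rw [Finset.mem_filter]; exact ⟨fun h => h.2, fun h => ⟨Finset.mem_univ _, h⟩⟩) _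

/-- the coefficients of the weight are the elementary symmetric functions of the lifted eigenvalues -/
theorem coeff_Wt (A : Matrix (Fin n) (Fin n) F) (hA : A.charpoly.coeff 0 ≠ 0) {lam : Ty (Orb K Q)}
    (hlam : ∀ y : Kˣ, lam (Quotient.mk (orbSetoid K Q) y) = mcol A (y : K)) (x : ℤ) (k : ℕ) :
    (Wt (gx θ Q x) (sz lam)).coeff k =
      ((A.charpoly.map (algebraMap F K)).roots.map fun y => θ y ^ x).esymm k := by
  classical
  have := Fintype.ofFinite Kˣ
  set P := A.charpoly.map (algebraMap F K) with hP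
  have hP0 : P ≠ 0 := ((Matrix.charpoly_monic A).map _).ne_zero
  have h0 : (0 : K) ∉ P.roots := by
    intro h
    rw [mem_roots hP0, IsRoot.def, ← coeff_zero_eq_eval_zero, hP, coeff_map, map_eq_zero] at h
    exact hA h
  rw [← coeff_prod_esymm, Multiset.map_map]
  congr 1
  rw [Wt_eq_prod, finprod_eq_prod_of_fintype, Finset.prod_multiset_map_count]
  have h1 : ∀ y : Kˣ, (1 + C (θ (y : K) ^ x) * X) ^ (sz lam (Quotient.mk (orbSetoid K Q) y)) =
      (fun z : K => ((1 + C (θ z ^ x) * X : ℂ[X])) ^ P.roots.count z) (y : K) := by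
    intro y
    simp only []
    rw [sz_apply, hlam, size_mcol, count_roots]
  rw [Finset.prod_congr rfl fun y _ => h1 y]
  rw [← Finset.prod_image (s := (Finset.univ : Finset Kˣ)) (g := fun y : Kˣ => (y : K))
    (f := fun z : K => ((1 + C (θ z ^ x) * X : ℂ[X])) ^ P.roots.count z) (fun a _ b _ h => Units.ext h)]
  symm
  refine Finset.prod_subset ?_ ?_
  · intro z hz
    rw [Multiset.mem_toFinset] at hz
    rw [Finset.mem_image]
    have hz0 : z ≠ 0 := fun h => h0 (h ▸ hz)
    exact ⟨Units.mk0 z hz0, Finset.mem_univ _, rfl⟩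
  · intro z _ hz
    rw [Multiset.mem_toFinset] at hz
    rw [Multiset.count_eq_zero_of_notMem hz, pow_zero]

end wt

section main

variable {F : Type u} [Field F] {K : Type w} [Field K] [Algebra F K] {θ : K →*₀ ℂ} {Q : ℤ} {M N M' : ℕ}
variable {G : ℕ → Type u} [∀ n, Group (G n)] [∀ n, Finite (G n)]
  {T : ∀ n, n ≤ N → TypeData (dOrb K Q) Q (G n) n}

/-- **T2**: the elementary symmetric functions of the lifted eigenvalues are generalized characters. -/
theorem eInt_of (C : H614.GLn.Ctx F θ N M') (ρ : ∀ n, G n →* GL (Fin n) F)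
    (hT : ∀ n (hn : n ≤ N) (g : G n) (y : Kˣ),
      (T n hn).typ g (Quotient.mk (orbSetoid K Q) y) = mcol ((ρ n g : Matrix (Fin n) (Fin n) F)) (y : K)) :
    EInt θ T := by
  intro x n k hn
  have := C.finK
  have := C.finF
  -- a natural exponent
  obtain ⟨x', hx'⟩ : ∃ x' : ℕ, ∀ y : K, y ≠ 0 → θ y ^ x = θ y ^ x' := by
    set m : ℕ := Nat.card Kˣ with hm
    have hm0 : 0 < m := Nat.card_pos
    refine ⟨(x % m).toNat, fun y hy => ?_⟩
    have h1 : θ y ^ (m : ℤ) = 1 := by
      have h2 : (Units.mk0 y hy) ^ m = 1 := pow_card_eq_one'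
      have h3 : y ^ m = 1 := by
        have := congrArg Units.val h2
        rwa [Units.val_pow_eq_pow_val, Units.val_mk0, Units.val_one] at this
      rw [zpow_natCast, ← map_pow, h3, map_one]
    have h2 : ((x % m).toNat : ℤ) = x % m := Int.toNat_of_nonneg (Int.emod_nonneg _ (by omega))
    have h3 : x = x % m + m * (x / m) := (Int.emod_add_mul_ediv x m).symm
    have hne : θ y ≠ 0 := by
      rw [Ne, map_eq_zero]
      exact hy
    conv_lhs => rw [h3]
    rw [zpow_add₀ hne, zpow_mul, h1, one_zpow, mul_one, ← h2, zpow_natCast]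
    simp only [Int.toNat_natCast]
  have h1 := H501.GLn.eB_generalized θ C x' k (Fin n → F) (by rw [Module.finrank_fin_fun]; exact hn)
  let f : G n →* ((Fin n → F) →ₗ[F] (Fin n → F))ˣ :=
    (Matrix.GeneralLinearGroup.toLin (n := Fin n) (R := F)).toMonoidHom.comp (ρ n)
  have h2 := gen_comp f h1
  convert h2 using 1
  funext g
  have h3 : LinearMap.charpoly ((f g : ((Fin n → F) →ₗ[F] (Fin n → F))ˣ) : (Fin n → F) →ₗ[F] (Fin n → F)) =
      (ρ n g : Matrix (Fin n) (Fin n) F).charpoly := by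
    rw [← Matrix.charpoly_toLin']
    rfl
  have h4 : (ρ n g : Matrix (Fin n) (Fin n) F).charpoly.coeff 0 ≠ 0 := by
    intro h
    have h5 := Matrix.det_eq_sign_charpoly_coeff (ρ n g : Matrix (Fin n) (Fin n) F)
    rw [h, mul_zero] at h5
    exact ((Matrix.isUnit_iff_isUnit_det _).1 (ρ n g).isUnit).ne_zero h5
  show _ = H501.GLn.eB θ x' k (LinearMap.charpoly ((f g : ((Fin n → F) →ₗ[F] (Fin n → F))ˣ) : (Fin n → F) →ₗ[F] (Fin n → F)))
  rw [h3, H501.GLn.eB, if_neg h4]
  show (Wt (gx θ Q x) (sz ((T n hn).typ g))).coeff k = _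
  rw [coeff_Wt θ _ h4 (hT n hn g) x k, H501.GLn.tm]
  congr 1
  refine Multiset.map_congr rfl fun y hy => hx' y ?_
  rintro rfl
  rw [mem_roots ((Matrix.charpoly_monic _).map _).ne_zero, IsRoot.def, ← coeff_zero_eq_eval_zero, coeff_map,
    map_eq_zero] at hy
  exact h4 hy

end main

end Cfsg.Agent.H531.GU
end

-- part: H603/Weil/Gauss
section
/-!
# Gauss sums of hermitian forms over `𝔽_{q²}` (helper603)

`F` a finite field with `q ^ 2` elements, `σ x = x ^ q`, `ψ` an additive character of `F` which is not trivial on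
the elements of trace zero.

* `sum_norm` : `∑ c, ψ (c * σ c * t) = - q` for `t ≠ 0` of trace zero;
* `gauss` : the sum of `ψ (Φ x x)` over a finite `F`-space, `Φ` skew-hermitian, is `(-q) ^ m` for some `m`.
-/

set_option autoImplicit false
set_option linter.unusedSectionVars false

namespace Cfsg.Agent.H603.Weil

universe u v

/-- `F` has `q ^ 2` elements and `σ` is the `q`-th power map. -/
structure UF (F : Type u) [Field F] (q : ℕ) (σ : F →+* F) : Prop where
  card : Nat.card F = q ^ 2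
  frob : ∀ x, σ x = x ^ q

variable {F : Type u} [Field F] {q : ℕ} {σ : F →+* F}

namespace UF

theorem finite (h : UF F q σ) : Finite F := by
  by_contra hf
  rw [not_finite_iff_infinite] at hf
  have h1 := h.card
  rw [Nat.card_eq_zero_of_infinite] at h1
  have h2 : q = 0 := by
    rcases Nat.eq_zero_or_pos q with h2 | h2
    · exact h2
    · have := Nat.pow_pos (n := 2) h2
      omega
  have h3 := h.frob 0
  rw [h2, pow_zero, map_zero] at h3
  exact zero_ne_one h3

theorem two_le (h : UF F q σ) : 2 ≤ q := by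
  have hf := h.finite
  have h1 : 1 < Nat.card F := Finite.one_lt_card
  rw [h.card] at h1
  by_contra h2
  have h3 : q ≤ 1 := by omega
  have : q ^ 2 ≤ 1 ^ 2 := Nat.pow_le_pow_left h3 2
  omega

theorem invol (h : UF F q σ) (x : F) : σ (σ x) = x := by
  have hf := h.finite
  have := Fintype.ofFinite F
  rw [h.frob (σ x), h.frob x, ← pow_mul, ← sq, ← h.card, Nat.card_eq_fintype_card, FiniteField.pow_card]

theorem norm_fix (h : UF F q σ) (x : F) : σ (x * σ x) = x * σ x := by
  rw [map_mul, h.invol, mul_comm]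

open Polynomial in
theorem card_fix_le (h : UF F q σ) : Nat.card {y : F // y ≠ 0 ∧ σ y = y} ≤ q - 1 := by
  classical
  have hf := h.finite
  have := Fintype.ofFinite F
  have h2 := h.two_le
  have hp : (X ^ (q - 1) - C 1 : F[X]) ≠ 0 := X_pow_sub_C_ne_zero (by omega) 1
  rw [Nat.card_eq_fintype_card, Fintype.card_subtype]
  refine le_trans (Finset.card_le_card (t := (X ^ (q - 1) - C 1 : F[X]).roots.toFinset) ?_) ?_
  · intro y hy
    rw [Finset.mem_filter] at hy
    rw [Multiset.mem_toFinset, mem_roots hp, IsRoot, eval_sub, eval_pow, eval_X, eval_C, sub_eq_zero]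
    have h3 := hy.2.2
    rw [h.frob] at h3
    apply mul_right_cancel₀ hy.2.1
    rw [← pow_succ, one_mul]
    convert h3 using 2
    omega
  · refine le_trans (Multiset.toFinset_card_le _) ?_
    refine le_trans (card_roots' _) ?_
    rw [natDegree_X_pow_sub_C]

open Polynomial in
theorem card_fiber_le (h : UF F q σ) (y : F) : Nat.card {c : F // c * σ c = y} ≤ q + 1 := by
  classical
  have hf := h.finite
  have := Fintype.ofFinite F
  have h2 := h.two_le
  have hp : (X ^ (q + 1) - C y : F[X]) ≠ 0 := X_pow_sub_C_ne_zero (by omega) y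
  rw [Nat.card_eq_fintype_card, Fintype.card_subtype]
  refine le_trans (Finset.card_le_card (t := (X ^ (q + 1) - C y : F[X]).roots.toFinset) ?_) ?_
  · intro c hc
    rw [Finset.mem_filter] at hc
    rw [Multiset.mem_toFinset, mem_roots hp, IsRoot, eval_sub, eval_pow, eval_X, eval_C, sub_eq_zero]
    have h3 := hc.2
    rw [h.frob] at h3
    rw [pow_succ, mul_comm]
    exact h3
  · refine le_trans (Multiset.toFinset_card_le _) ?_
    refine le_trans (card_roots' _) ?_
    rw [natDegree_X_pow_sub_C]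

/-- The fibres of the norm have `q + 1` elements. -/
theorem card_fiber (h : UF F q σ) {y : F} (hy : y ≠ 0) (hy' : σ y = y) : Nat.card {c : F // c * σ c = y} = q + 1 := by
  classical
  have hf := h.finite
  have := Fintype.ofFinite F
  have h2 := h.two_le
  let A : Finset F := Finset.univ.filter fun y => y ≠ 0 ∧ σ y = y
  let S : Finset F := Finset.univ.filter fun c => c ≠ 0
  have hmap : ∀ c ∈ S, c * σ c ∈ A := by
    intro c hc
    rw [Finset.mem_filter] at hc ⊢
    refine ⟨Finset.mem_univ _, mul_ne_zero hc.2 ?_, h.norm_fix c⟩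
    rw [Ne, map_eq_zero]
    exact hc.2
  have h3 := Finset.card_eq_sum_card_fiberwise hmap
  have hS : S.card = q ^ 2 - 1 := by
    have : S = Finset.univ.erase 0 := by
      ext c
      simp [S]
    rw [this, Finset.card_erase_of_mem (Finset.mem_univ _), Finset.card_univ, ← Nat.card_eq_fintype_card, h.card]
  have hA : A.card ≤ q - 1 := by
    have := h.card_fix_le
    rwa [Nat.card_eq_fintype_card, Fintype.card_subtype] at this
  have hfib : ∀ y : F, y ≠ 0 → (S.filter fun c => c * σ c = y).card = Nat.card {c : F // c * σ c = y} := by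
    intro y hy
    rw [Nat.card_eq_fintype_card, Fintype.card_subtype]
    congr 1
    ext c
    simp only [S, Finset.mem_filter, Finset.mem_univ, true_and, and_iff_right_iff_imp]
    rintro rfl rfl
    exact hy (zero_mul _)
  have hle : ∀ y ∈ A, (S.filter fun c => c * σ c = y).card ≤ q + 1 := by
    intro y hy
    rw [Finset.mem_filter] at hy
    rw [hfib y hy.2.1]
    exact h.card_fiber_le y
  have h4 : ∑ y ∈ A, (S.filter fun c => c * σ c = y).card = ∑ y ∈ A, (q + 1) := by
    apply le_antisymm (Finset.sum_le_sum hle)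
    rw [← h3, hS, Finset.sum_const, smul_eq_mul]
    calc A.card * (q + 1) ≤ (q - 1) * (q + 1) := Nat.mul_le_mul_right _ hA
      _ = q ^ 2 - 1 := by
        obtain ⟨r, rfl⟩ : ∃ r, q = r + 2 := ⟨q - 2, by omega⟩
        have h5 : (r + 2) ^ 2 = (r + 2 - 1) * (r + 2 + 1) + 1 := by
          have : r + 2 - 1 = r + 1 := by omega
          rw [this]; ring
        omega
  have h5 := (Finset.sum_eq_sum_iff_of_le hle).1 h4 y (by
    rw [Finset.mem_filter]
    exact ⟨Finset.mem_univ _, hy, hy'⟩)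
  rw [← hfib y hy, h5]

theorem exists_ne (h : UF F q σ) : ∃ c : F, σ c ≠ c := by
  classical
  have hf := h.finite
  have := Fintype.ofFinite F
  by_contra hh
  push Not at hh
  have h1 := h.card_fix_le
  have h2 : Nat.card {y : F // y ≠ 0 ∧ σ y = y} = q ^ 2 - 1 := by
    rw [Nat.card_eq_fintype_card, Fintype.card_subtype]
    have : (Finset.univ.filter fun y : F => y ≠ 0 ∧ σ y = y) = Finset.univ.erase 0 := by
      ext c
      simp only [hh c, _root_.ne_eq, _root_.Finset.mem_filter, _root_.Finset.mem_univ, _root_.and_true, _root_.true_and, _root_.Finset.mem_erase]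
    rw [this, Finset.card_erase_of_mem (Finset.mem_univ _), Finset.card_univ, ← Nat.card_eq_fintype_card, h.card]
  have h3 := h.two_le
  rw [h2] at h1
  have h4 : q * 2 ≤ q ^ 2 := by
    rw [sq]
    exact Nat.mul_le_mul_left q h3
  omega

/-- `c ↦ c - σ c` is onto the elements of trace zero. -/
theorem exists_sub (h : UF F q σ) {s : F} (hs : σ s = -s) : ∃ c : F, c - σ c = s := by
  obtain ⟨c, hc⟩ := h.exists_ne
  have h1 : c - σ c ≠ 0 := fun h0 => hc (sub_eq_zero.1 h0).symm
  have h2 : σ (c - σ c) = -(c - σ c) := by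
    rw [map_sub, h.invol, neg_sub]
  refine ⟨s / (c - σ c) * c, ?_⟩
  rw [map_mul, map_div₀, hs, h2, neg_div_neg_eq, ← mul_sub, div_mul_cancel₀ _ h1]

/-- There is an additive character which is nontrivial on the elements of trace zero. -/
theorem exists_char (h : UF F q σ) : ∃ ψ : AddChar F ℂ, ∃ s, σ s = -s ∧ ψ s ≠ 1 := by
  classical
  have hf := h.finite
  have := Fintype.ofFinite F
  obtain ⟨c, hc⟩ := h.exists_ne
  have h1 : c - σ c ≠ 0 := fun h0 => hc (sub_eq_zero.1 h0).symm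
  obtain ⟨ψ, hψ⟩ := (AddChar.exists_apply_ne_zero (α := F) (a := c - σ c)).2 h1
  exact ⟨ψ, c - σ c, by rw [map_sub, h.invol, neg_sub], hψ⟩

/-- The sum of a character of the form `y ↦ ψ (y t)` over the fixed field. -/
theorem sum_fix (_h : UF F q σ) [Fintype F] [DecidableEq F] (ψ : AddChar F ℂ) (hψ : ∃ s, σ s = -s ∧ ψ s ≠ 1) {t : F} (ht : σ t = -t)
    (ht0 : t ≠ 0) : ∑ y : F with σ y = y, ψ (y * t) = 0 := by
  obtain ⟨s, hs, hs1⟩ := hψ
  set y₀ : F := s / t with hy₀
  have hfix : σ y₀ = y₀ := by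
    rw [hy₀, map_div₀, hs, ht, neg_div_neg_eq]
  have h1 : y₀ * t = s := div_mul_cancel₀ s ht0
  have h2 : ∑ y : F with σ y = y, ψ (y * t) = ψ s * ∑ y : F with σ y = y, ψ (y * t) := by
    rw [Finset.mul_sum]
    refine Finset.sum_bij' (fun y _ => y - y₀) (fun y _ => y + y₀) ?_ ?_ ?_ ?_ ?_
    · intro y hy
      rw [Finset.mem_filter] at hy ⊢
      exact ⟨Finset.mem_univ _, by rw [map_sub, hy.2, hfix]⟩
    · intro y hy
      rw [Finset.mem_filter] at hy ⊢
      exact ⟨Finset.mem_univ _, by rw [map_add, hy.2, hfix]⟩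
    · intro y _
      exact sub_add_cancel _ _
    · intro y _
      exact add_sub_cancel_right _ _
    · intro y _
      rw [← AddChar.map_add_eq_mul, ← h1]
      congr 1
      ring
  have h3 : (1 - ψ s) * ∑ y : F with σ y = y, ψ (y * t) = 0 := by
    rw [sub_mul, one_mul, ← h2, sub_self]
  rcases mul_eq_zero.1 h3 with h4 | h4
  · exact absurd (sub_eq_zero.1 h4).symm hs1
  · exact h4

/-- **The one dimensional Gauss sum.** -/
theorem sum_norm (h : UF F q σ) [Fintype F] (ψ : AddChar F ℂ) (hψ : ∃ s, σ s = -s ∧ ψ s ≠ 1) {t : F} (ht : σ t = -t)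
    (ht0 : t ≠ 0) : ∑ c : F, ψ (c * σ c * t) = -(q : ℂ) := by
  classical
  have h1 : ∑ c : F, ψ (c * σ c * t) = ∑ y : F with σ y = y, ∑ c : F with c * σ c = y, ψ (c * σ c * t) := by
    symm
    refine Finset.sum_fiberwise_of_maps_to (g := fun c => c * σ c) ?_ _
    intro c _
    rw [Finset.mem_filter]
    exact ⟨Finset.mem_univ _, h.norm_fix c⟩
  have h2 : ∀ y ∈ (Finset.univ.filter fun y : F => σ y = y),
      ∑ c : F with c * σ c = y, ψ (c * σ c * t) = (if y = 0 then 1 else (q + 1 : ℂ)) * ψ (y * t) := by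
    intro y hy
    rw [Finset.mem_filter] at hy
    have h3 : ∑ c : F with c * σ c = y, ψ (c * σ c * t) = ∑ c : F with c * σ c = y, ψ (y * t) := by
      refine Finset.sum_congr rfl fun c hc => ?_
      rw [Finset.mem_filter] at hc
      rw [hc.2]
    rw [h3, Finset.sum_const, nsmul_eq_mul]
    congr 1
    by_cases hy0 : y = 0
    · rw [if_pos hy0, hy0]
      have : (Finset.univ.filter fun c : F => c * σ c = 0) = {0} := by
        ext c
        simp
      rw [this, Finset.card_singleton, Nat.cast_one]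
    · rw [if_neg hy0]
      have h4 := h.card_fiber hy0 hy.2
      rw [Nat.card_eq_fintype_card, Fintype.card_subtype] at h4
      rw [h4]
      push_cast
      ring
  rw [h1, Finset.sum_congr rfl h2]
  have h0 : (0 : F) ∈ (Finset.univ.filter fun y : F => σ y = y) := by
    rw [Finset.mem_filter]
    exact ⟨Finset.mem_univ _, map_zero σ⟩
  have h5 := h.sum_fix ψ hψ ht ht0
  rw [← Finset.add_sum_erase _ _ h0] at h5 ⊢
  rw [zero_mul, AddChar.map_zero_eq_one] at h5 ⊢
  rw [if_pos rfl, mul_one]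
  have h6 : ∑ y ∈ (Finset.univ.filter fun y : F => σ y = y).erase 0, (if y = 0 then 1 else (q + 1 : ℂ)) * ψ (y * t) =
      (q + 1) * ∑ y ∈ (Finset.univ.filter fun y : F => σ y = y).erase 0, ψ (y * t) := by
    rw [Finset.mul_sum]
    refine Finset.sum_congr rfl fun y hy => ?_
    rw [if_neg (Finset.ne_of_mem_erase hy)]
  rw [h6]
  have h7 : ∑ y ∈ (Finset.univ.filter fun y : F => σ y = y).erase 0, ψ (y * t) = -1 := by
    linear_combination h5
  rw [h7]
  ring

end UF

/-- **Gauss sums of skew-hermitian forms.** -/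
theorem gauss (h : UF F q σ) (ψ : AddChar F ℂ) (hψ : ∃ s, σ s = -s ∧ ψ s ≠ 1) (N : ℕ) :
    ∀ (K : Type v) [AddCommGroup K] [Module F K] [Fintype K] (Φ : K → K → F), Fintype.card K = N →
      (∀ x y z, Φ (x + y) z = Φ x z + Φ y z) → (∀ (a : F) x y, Φ (a • x) y = a * Φ x y) →
      (∀ x y, σ (Φ x y) = -Φ y x) → ∃ m : ℕ, ∑ x, ψ (Φ x x) = (-(q : ℂ)) ^ m := by
  classical
  have hf := h.finite
  have := Fintype.ofFinite F
  induction N using Nat.strong_induction_on with
  | _ N ih =>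
    intro K _ _ _ Φ hN hadd hsm hsk
    have haddr : ∀ x y z, Φ x (y + z) = Φ x y + Φ x z := by
      intro x y z
      have h1 : ∀ a b : K, Φ a b = -σ (Φ b a) := fun a b => by rw [hsk, neg_neg]
      rw [h1, hadd, map_add, neg_add, ← h1, ← h1]
    have hsmr : ∀ (a : F) x y, Φ x (a • y) = σ a * Φ x y := by
      intro a x y
      have h1 : ∀ a b : K, Φ a b = -σ (Φ b a) := fun a b => by rw [hsk, neg_neg]
      rw [h1, hsm, map_mul, h1 x y, mul_neg]
    by_cases hz : ∀ x, Φ x x = 0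
    · have h1 : ∑ x : K, ψ (Φ x x) = (Fintype.card K : ℂ) := by
        rw [Finset.sum_congr rfl (fun x _ => by rw [hz x, AddChar.map_zero_eq_one]), Finset.sum_const,
          Finset.card_univ, nsmul_eq_mul, mul_one]
      have h2 : Fintype.card K = Fintype.card F ^ (Module.finrank F K) := Module.card_eq_pow_finrank
      refine ⟨2 * Module.finrank F K, ?_⟩
      rw [h1, h2, ← Nat.card_eq_fintype_card, h.card, pow_mul, neg_sq]
      push_cast
      rfl
    · push Not at hz
      obtain ⟨a, ha⟩ := hz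
      let L : K →ₗ[F] F :=
        { toFun := fun z => Φ z a
          map_add' := fun x y => hadd x y a
          map_smul' := fun c x => by rw [hsm, smul_eq_mul, RingHom.id_apply] }
      let S : Submodule F K := LinearMap.ker L
      have hS : ∀ z : S, Φ (z : K) a = 0 := fun z => z.2
      have hS' : ∀ z : S, Φ a (z : K) = 0 := fun z => by
        have h1 := hsk (z : K) a
        rw [hS, map_zero] at h1
        rw [← neg_eq_zero]
        exact h1.symm
      let e : F × S ≃ K :=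
        { toFun := fun p => p.1 • a + (p.2 : K)
          invFun := fun z => (Φ z a / Φ a a, ⟨z - (Φ z a / Φ a a) • a, by
            show Φ (z - (Φ z a / Φ a a) • a) a = 0
            rw [sub_eq_add_neg, ← neg_smul, hadd, hsm, neg_mul, div_mul_cancel₀ _ ha, add_neg_cancel]⟩)
          left_inv := fun p => by
            have h1 : Φ (p.1 • a + (p.2 : K)) a / Φ a a = p.1 := by
              rw [hadd, hsm, hS, add_zero, mul_div_cancel_right₀ _ ha]
            apply Prod.ext
            · exact h1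
            · apply Subtype.ext
              show p.1 • a + (p.2 : K) - (Φ (p.1 • a + (p.2 : K)) a / Φ a a) • a = (p.2 : K)
              rw [h1, add_sub_cancel_left]
          right_inv := fun z => by
            show (Φ z a / Φ a a) • a + (z - (Φ z a / Φ a a) • a) = z
            abel }
      have hcard : Fintype.card S < N := by
        rw [← hN]
        refine Fintype.card_lt_of_injective_of_notMem (fun z : S => (z : K)) Subtype.val_injective (b := a) ?_
        rintro ⟨z, hz⟩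
        have h1 := hS z
        have h2 : (z : K) = a := hz
        rw [h2] at h1
        exact ha h1
      obtain ⟨m, hm⟩ := ih (Fintype.card S) hcard S (fun x y => Φ (x : K) (y : K)) rfl
        (fun x y z => hadd _ _ _) (fun c x y => hsm _ _ _) (fun x y => hsk _ _)
      refine ⟨m + 1, ?_⟩
      rw [← Equiv.sum_comp e, Fintype.sum_prod_type]
      have h3 : ∀ (c : F) (z : S), ψ (Φ (e (c, z)) (e (c, z))) = ψ (c * σ c * Φ a a) * ψ (Φ (z : K) (z : K)) := by
        intro c z
        rw [← AddChar.map_add_eq_mul]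
        congr 1
        show Φ (c • a + (z : K)) (c • a + (z : K)) = _
        rw [hadd, haddr, haddr, hsm, hsm, hsmr, hsmr, hS, hS']
        ring
      have h4 : ∀ c : F, ∑ z : S, ψ (Φ (e (c, z)) (e (c, z))) = ψ (c * σ c * Φ a a) * (-(q : ℂ)) ^ m := by
        intro c
        rw [← hm, Finset.mul_sum]
        exact Finset.sum_congr rfl fun z _ => h3 c z
      rw [Finset.sum_congr rfl (fun c _ => h4 c), ← Finset.sum_mul, h.sum_norm ψ hψ (hsk a a) ha, pow_succ, mul_comm]

end Cfsg.Agent.H603.Weil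
end

-- part: H603/Weil/Main
section
/-!
# The Weil character of a finite unitary group (helper603)

`weil_isCharacter` : `G` acting by isometries on a nondegenerate hermitian space `V` over `𝔽_{q²}`, the function
`(-1) ^ dim V * (-q) ^ dim ker (g - 1)` is a character of `G`.
-/

set_option autoImplicit false
set_option linter.unusedSectionVars false

namespace Cfsg.Agent.H603.Weil

open Cfsg Representation Hs

universe u v

variable {F : Type u} [Field F] {V : Type v} [AddCommGroup V] [Module F V] {q : ℕ} {σ : F →+* F}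

/-- A nondegenerate hermitian form (linear in the first variable). -/
structure Herm (σ : F →+* F) (B : V →+ V →+ F) : Prop where
  smul_left : ∀ (a : F) x y, B (a • x) y = a * B x y
  symm : ∀ x y, σ (B x y) = B y x
  nondeg : ∀ x, (∀ y, B x y = 0) → x = 0

/-- isometry -/
def IsoM (B : V →+ V →+ F) (a : V ≃ₗ[F] V) : Prop := ∀ x y, B (a x) (a y) = B x y

theorem IsoM.mul {B : V →+ V →+ F} {a b : V ≃ₗ[F] V} (ha : IsoM B a) (hb : IsoM B b) : IsoM B (a * b) := fun x y => by
  rw [LinearEquiv.mul_apply, LinearEquiv.mul_apply, ha, hb]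

theorem IsoM.inv {B : V →+ V →+ F} {a : V ≃ₗ[F] V} (ha : IsoM B a) : IsoM B a⁻¹ := fun x y => by
  have h1 := ha (a⁻¹ x) (a⁻¹ y)
  rw [← LinearEquiv.mul_apply, ← LinearEquiv.mul_apply, mul_inv_cancel] at h1
  exact h1.symm

/-- the fixed space -/
def fixS (a : V ≃ₗ[F] V) : Submodule F V := LinearMap.ker ((a : V →ₗ[F] V) - 1)

theorem mem_fixS {a : V ≃ₗ[F] V} {x : V} : x ∈ fixS a ↔ a x = x := by
  unfold fixS
  rw [LinearMap.mem_ker, LinearMap.sub_apply, sub_eq_zero]
  rfl

theorem fixS_inv (a : V ≃ₗ[F] V) : fixS a⁻¹ = fixS a := by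
  ext x
  rw [mem_fixS, mem_fixS]
  constructor
  · intro h
    conv_lhs => rw [← h]
    rw [← LinearEquiv.mul_apply, mul_inv_cancel]
    rfl
  · intro h
    conv_lhs => rw [← h]
    rw [← LinearEquiv.mul_apply, inv_mul_cancel]
    rfl

theorem Herm.smul_right {B : V →+ V →+ F} (hB : Herm σ B) (a : F) (x y : V) :
    B x (a • y) = σ a * B x y := by
  have h1 : ∀ x y, B x y = σ (B y x) := fun x y => (hB.symm y x).symm
  rw [h1, hB.smul_left, map_mul, ← h1]

variable {B : V →+ V →+ F} {ψ : AddChar F ℂ} {W : Type v} [AddCommGroup W] [Module ℂ W] [FiniteDimensional ℂ W]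

/-- the intertwiner -/
noncomputable def E [Fintype V] (R : Representation ℂ (Hs B) W) (a : V ≃ₗ[F] V) : Module.End ℂ W :=
  ∑ v : V, R (d B (a v) * (d B v)⁻¹)

/-- action on the Heisenberg group -/
def am (a : V ≃ₗ[F] V) (x : Hs B) : Hs B := ⟨a x.v, x.t⟩

theorem E_mul_rep [Fintype V] (R : Representation ℂ (Hs B) W) {a : V ≃ₗ[F] V} (ha : IsoM B a) (x : Hs B) :
    E R a * R x = R (am a x) * E R a := by
  unfold E
  rw [Finset.sum_mul, Finset.mul_sum, ← Equiv.sum_comp (Equiv.addLeft x.v)]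
  refine Finset.sum_congr rfl fun v _ => ?_
  rw [← map_mul, ← map_mul]
  congr 1
  ext
  · simp only [Equiv.coe_addLeft, mul_v, d_v, inv_v, map_add, am]
    abel
  · have h1 := ha x.v v
    simp only [Equiv.coe_addLeft, mul_v, mul_t, d_v, d_t, inv_v, inv_t, map_add, map_neg, AddMonoidHom.add_apply,
      AddMonoidHom.neg_apply, am, neg_add]
    rw [h1]
    ring

theorem E_inv [Fintype V] (R : Representation ℂ (Hs B) W) (a : V ≃ₗ[F] V) :
    E R a⁻¹ = ∑ v : V, R (d B (a v) * (d B v)⁻¹)⁻¹ := by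
  unfold E
  rw [← Equiv.sum_comp a.toEquiv]
  refine Finset.sum_congr rfl fun v _ => ?_
  congr 1
  rw [mul_inv_rev, inv_inv]
  congr 2
  show a⁻¹ (a v) = v
  rw [← LinearEquiv.mul_apply, inv_mul_cancel]
  rfl

theorem E_one [Fintype V] (R : Representation ℂ (Hs B) W) : E R 1 = (Fintype.card V : ℂ) • (1 : Module.End ℂ W) := by
  unfold E
  have h1 : ∀ v : V, R (d B ((1 : V ≃ₗ[F] V) v) * (d B v)⁻¹) = 1 := by
    intro v
    have : (1 : V ≃ₗ[F] V) v = v := rfl
    rw [this, mul_inv_cancel, map_one]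
  rw [Finset.sum_congr rfl (fun v _ => h1 v), Finset.sum_const, Finset.card_univ, ← Nat.cast_smul_eq_nsmul ℂ]

/-- the pairs with `(a - 1) v + (b - 1) w = 0` -/
def KK (a b : V ≃ₗ[F] V) : Submodule F (V × V) :=
  LinearMap.ker ((((a : V →ₗ[F] V) - 1).comp (LinearMap.fst F V V)) + (((b : V →ₗ[F] V) - 1).comp (LinearMap.snd F V V)))

theorem mem_KK {a b : V ≃ₗ[F] V} {z : V × V} : z ∈ KK a b ↔ (a z.1 - z.1) + (b z.2 - z.2) = 0 := Iff.rfl

/-- the form on `KK a b` -/
def Ph (B : V →+ V →+ F) (a b : V ≃ₗ[F] V) (z z' : KK a b) : F := B (a z.1.1 - z.1.1) (z'.1.2 - a z'.1.1)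

theorem Ph_skew (hB : Herm σ B) {a b : V ≃ₗ[F] V} (ha : IsoM B a) (hb : IsoM B b) (z z' : KK a b) :
    σ (Ph B a b z z') = -Ph B a b z' z := by
  obtain ⟨⟨v, w⟩, hz⟩ := z
  obtain ⟨⟨v', w'⟩, hz'⟩ := z'
  rw [mem_KK] at hz hz'
  unfold Ph
  rw [hB.symm]
  simp only at hz hz' ⊢
  have e1 : a v - v = w - b w := by
    rw [← sub_eq_zero]
    rw [← hz]
    abel
  have e2 : a v' - v' = w' - b w' := by
    rw [← sub_eq_zero]
    rw [← hz']
    abel
  have f1 : B (a v) (a v') = B v v' := ha v v'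
  have f2 : B (b w) (b w') = B w w' := hb w w'
  -- goal : B (w' - a v') (a v - v) = - B (a v' - v') (w - a v)
  have g1 : B w' (a v - v) = B w' w - B w' (b w) := by rw [e1, map_sub]
  have g2 : B (a v' - v') w = B w' w - B (b w') w := by rw [e2, map_sub, AddMonoidHom.sub_apply]
  have g3 : B (a v' - v') (a v - v) = B (w' - b w') (w - b w) := by rw [e1, e2]
  have f3 : B (a v') (a v) = B v' v := ha v' v
  have f4 : B (b w') (b w) = B w' w := hb w' w
  simp only [map_sub, AddMonoidHom.sub_apply] at g1 g2 g3 ⊢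
  rw [f3, f4] at g3
  rw [f3]
  linear_combination g1 + g2 - g3

section Tr

variable [Fintype V] {R : Representation ℂ (Hs B) W}

theorem elt_v (a b : V ≃ₗ[F] V) (v w : V) :
    (d B (a v) * (d B v)⁻¹ * (d B (b w) * (d B w)⁻¹)).v = (a v - v) + (b w - w) := by
  simp only [mul_v, d_v, inv_v]
  abel

theorem elt_t {a b : V ≃ₗ[F] V} {v w : V} (h : (a v - v) + (b w - w) = 0) :
    (d B (a v) * (d B v)⁻¹ * (d B (b w) * (d B w)⁻¹)).t = B (a v - v) (w - a v) := by
  have e1 : b w = w - (a v - v) := by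
    rw [← sub_eq_zero]
    rw [← h]
    abel
  simp only [mul_v, mul_t, d_v, d_t, inv_v, inv_t]
  rw [e1]
  simp only [map_add, map_sub, map_neg, AddMonoidHom.add_apply, AddMonoidHom.sub_apply, AddMonoidHom.neg_apply]
  ring

open scoped Classical in
theorem trace_E_mul_E (h : SV ψ R) (hnd : ∀ v : V, v ≠ 0 → ∃ w, ψ (B w v - B v w) ≠ 1) (a b : V ≃ₗ[F] V) :
    LinearMap.trace ℂ W (E R a * E R b) = Module.finrank ℂ W * ∑ z : KK a b, ψ (Ph B a b z z) := by
  unfold E
  rw [Finset.sum_mul_sum, map_sum]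
  have h1 : ∀ v : V, LinearMap.trace ℂ W (∑ w : V, R (d B (a v) * (d B v)⁻¹) * R (d B (b w) * (d B w)⁻¹)) =
      ∑ w : V, (if (v, w) ∈ KK a b then (Module.finrank ℂ W : ℂ) * ψ (B (a v - v) (w - a v)) else 0) := by
    intro v
    rw [map_sum]
    refine Finset.sum_congr rfl fun w _ => ?_
    rw [← map_mul]
    by_cases hz : (a v - v) + (b w - w) = 0
    · rw [if_pos (mem_KK.2 hz), h.trace_z (by rw [elt_v]; exact hz), elt_t hz]
    · rw [if_neg (fun hh => hz (mem_KK.1 hh)), h.trace_eq_zero hnd (by rw [elt_v]; exact hz)]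
  rw [Finset.sum_congr rfl (fun v _ => h1 v), ← Fintype.sum_prod_type', ← Finset.sum_filter, Finset.mul_sum]
  symm
  refine Finset.sum_bij (fun z _ => (z : V × V)) (fun z _ => ?_) (fun z _ z' _ hh => Subtype.ext hh) (fun p hp => ?_)
    (fun z _ => rfl)
  · rw [Finset.mem_filter]
    exact ⟨Finset.mem_univ _, z.2⟩
  · rw [Finset.mem_filter] at hp
    exact ⟨⟨p, hp.2⟩, Finset.mem_univ _, rfl⟩

theorem trace_E (h : SV ψ R) (hnd : ∀ v : V, v ≠ 0 → ∃ w, ψ (B w v - B v w) ≠ 1) (a : V ≃ₗ[F] V) :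
    LinearMap.trace ℂ W (E R a) = Module.finrank ℂ W * Nat.card (fixS a) := by
  classical
  unfold E
  rw [map_sum]
  have h1 : ∀ v : V, LinearMap.trace ℂ W (R (d B (a v) * (d B v)⁻¹)) =
      if v ∈ fixS a then (Module.finrank ℂ W : ℂ) else 0 := by
    intro v
    by_cases hv : a v = v
    · rw [if_pos (mem_fixS.2 hv), hv, mul_inv_cancel, map_one, LinearMap.trace_one]
    · rw [if_neg (fun hh => hv (mem_fixS.1 hh)), h.trace_eq_zero hnd]
      simp only [mul_v, d_v, inv_v]
      rw [← sub_eq_add_neg, Ne, sub_eq_zero]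
      exact hv
  rw [Finset.sum_congr rfl (fun v _ => h1 v), ← Finset.sum_filter, Finset.sum_const, nsmul_eq_mul, mul_comm,
    Nat.card_eq_fintype_card, Fintype.card_subtype]

theorem trace_E_conj [Finite F] (a b : V ≃ₗ[F] V) :
    LinearMap.trace ℂ W (E R b⁻¹ * E R a⁻¹) = starRingEnd ℂ (LinearMap.trace ℂ W (E R a * E R b)) := by
  rw [E_inv, E_inv, Finset.sum_mul_sum]
  unfold E
  rw [Finset.sum_mul_sum, map_sum, map_sum, map_sum]
  have h1 : ∀ v w : V, LinearMap.trace ℂ W (R (d B (b w) * (d B w)⁻¹)⁻¹ * R (d B (a v) * (d B v)⁻¹)⁻¹) =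
      starRingEnd ℂ (LinearMap.trace ℂ W (R (d B (a v) * (d B v)⁻¹) * R (d B (b w) * (d B w)⁻¹))) := by
    intro v w
    rw [← map_mul, ← map_mul, ← mul_inv_rev]
    exact Characters.Core.isCharacter_apply_inv (Characters.Core.isCharacter_of_rep R) _
  simp only [map_sum]
  rw [Finset.sum_comm]
  refine Finset.sum_congr rfl fun v _ => Finset.sum_congr rfl fun w _ => ?_
  exact h1 v w

end Tr

section Sc

variable [Fintype V] {R : Representation ℂ (Hs B) W}

theorem E_mul_comm_of (h : SV ψ R) {X : Module.End ℂ W} (hX : ∀ x, X * R x = R x * X) :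
    ∃ c : ℂ, X = c • (1 : Module.End ℂ W) := Characters.Central.exists_smul_of_comm R h.irr X hX

theorem finrank_ne (h : SV ψ R) : (Module.finrank ℂ W : ℂ) ≠ 0 := by
  exact_mod_cast (Characters.Central.finrank_pos_of_irr R h.irr).ne'

theorem Ph_self_inv {a : V ≃ₗ[F] V} (ha : IsoM B a) (z : KK a⁻¹ a) : Ph B a⁻¹ a z z = 0 := by
  obtain ⟨⟨v, w⟩, hz⟩ := z
  rw [mem_KK] at hz
  unfold Ph
  simp only at hz ⊢
  have e0 : a (a⁻¹ v) = v := by
    rw [← LinearEquiv.mul_apply, mul_inv_cancel]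
    rfl
  have e1 : a (w - a⁻¹ v) = w - a⁻¹ v := by
    rw [map_sub, e0, ← sub_eq_zero, ← hz]
    abel
  have e2 := ha (a⁻¹ v) (w - a⁻¹ v)
  rw [e0, e1] at e2
  rw [map_sub B, AddMonoidHom.sub_apply, e2, sub_self]

theorem card_KK_inv (a : V ≃ₗ[F] V) : Nat.card (KK a⁻¹ a) = Nat.card V * Nat.card (fixS a) := by
  rw [← Nat.card_prod]
  refine Nat.card_congr
    { toFun := fun z => (z.1.1, ⟨z.1.2 - a⁻¹ z.1.1, ?_⟩)
      invFun := fun p => ⟨(p.1, (p.2 : V) + a⁻¹ p.1), ?_⟩
      left_inv := fun z => ?_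
      right_inv := fun p => ?_ }
  · have hz := mem_KK.1 z.2
    have e0 : a (a⁻¹ z.1.1) = z.1.1 := by
      rw [← LinearEquiv.mul_apply, mul_inv_cancel]
      rfl
    rw [mem_fixS, map_sub, e0, ← sub_eq_zero, ← hz]
    abel
  · rw [mem_KK]
    have e0 : a (a⁻¹ p.1) = p.1 := by
      rw [← LinearEquiv.mul_apply, mul_inv_cancel]
      rfl
    have e1 := mem_fixS.1 p.2.2
    show (a⁻¹ p.1 - p.1) + (a ((p.2 : V) + a⁻¹ p.1) - ((p.2 : V) + a⁻¹ p.1)) = 0
    rw [map_add, e0, e1]
    abel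
  · apply Subtype.ext
    apply Prod.ext
    · rfl
    · show z.1.2 - a⁻¹ z.1.1 + a⁻¹ z.1.1 = z.1.2
      abel
  · apply Prod.ext
    · rfl
    · apply Subtype.ext
      show (p.2 : V) + a⁻¹ p.1 - a⁻¹ p.1 = p.2
      abel

theorem E_inv_mul (h : SV ψ R) (hnd : ∀ v : V, v ≠ 0 → ∃ w, ψ (B w v - B v w) ≠ 1) {a : V ≃ₗ[F] V} (ha : IsoM B a) :
    E R a⁻¹ * E R a = ((Nat.card V * Nat.card (fixS a) : ℕ) : ℂ) • (1 : Module.End ℂ W) := by
  classical
  obtain ⟨c, hc⟩ := E_mul_comm_of h (X := E R a⁻¹ * E R a) fun x => by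
    rw [mul_assoc, E_mul_rep R ha, ← mul_assoc, E_mul_rep R ha.inv, mul_assoc]
    congr 2
    show (⟨a⁻¹ (a x.v), x.t⟩ : Hs B) = x
    have e0 : a⁻¹ (a x.v) = x.v := by
      rw [← LinearEquiv.mul_apply, inv_mul_cancel]
      rfl
    rw [e0]
  have h1 := trace_E_mul_E h hnd a⁻¹ a
  rw [Finset.sum_congr rfl (fun z _ => by rw [Ph_self_inv ha z, AddChar.map_zero_eq_one]), Finset.sum_const,
    Finset.card_univ, nsmul_eq_mul, mul_one, ← Nat.card_eq_fintype_card, card_KK_inv, hc, map_smul,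
    LinearMap.trace_one, smul_eq_mul, mul_comm] at h1
  have h2 := mul_left_cancel₀ (finrank_ne h) h1
  rw [hc, h2]

theorem exists_E_mul (h : SV ψ R) (hnd : ∀ v : V, v ≠ 0 → ∃ w, ψ (B w v - B v w) ≠ 1) {a b : V ≃ₗ[F] V}
    (ha : IsoM B a) (hb : IsoM B b) : ∃ c : ℂ, E R a * E R b = c • E R (a * b) := by
  obtain ⟨c, hc⟩ := E_mul_comm_of h (X := E R (a * b)⁻¹ * (E R a * E R b)) fun x => by
    rw [mul_assoc, mul_assoc, E_mul_rep R hb, ← mul_assoc (E R a), E_mul_rep R ha, ← mul_assoc, ← mul_assoc,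
      E_mul_rep R (ha.mul hb).inv, mul_assoc, mul_assoc]
    congr 2
    show (⟨(a * b)⁻¹ (a (b x.v)), x.t⟩ : Hs B) = x
    have e0 : (a * b)⁻¹ (a (b x.v)) = x.v := by
      rw [← LinearEquiv.mul_apply a, ← LinearEquiv.mul_apply, inv_mul_cancel]
      rfl
    rw [e0]
  have h1 := E_inv_mul h hnd (ha.mul hb).inv
  rw [inv_inv] at h1
  have h2 : (((Nat.card V * Nat.card (fixS (a * b)⁻¹) : ℕ) : ℂ)) ≠ 0 := by
    have : Nonempty V := ⟨0⟩
    exact_mod_cast (Nat.mul_pos Nat.card_pos Nat.card_pos).ne'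
  refine ⟨(((Nat.card V * Nat.card (fixS (a * b)⁻¹) : ℕ) : ℂ))⁻¹ * c, ?_⟩
  have h3 : E R (a * b) * (E R (a * b)⁻¹ * (E R a * E R b)) = E R (a * b) * (c • 1) := by rw [hc]
  rw [← mul_assoc, h1, smul_mul_assoc, one_mul, mul_smul_comm, mul_one] at h3
  rw [mul_smul, ← h3, smul_smul, inv_mul_cancel₀ h2, one_smul]

end Sc

/-- the nondegeneracy of the commutator form -/
theorem nd_of (hq : UF F q σ) (hB : Herm σ B) (hψ : ∃ s, σ s = -s ∧ ψ s ≠ 1) : ∀ v : V, v ≠ 0 → ∃ w, ψ (B w v - B v w) ≠ 1 := by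
  intro v hv
  obtain ⟨s, hs, hs1⟩ := hψ
  obtain ⟨y, hy⟩ : ∃ y, B v y ≠ 0 := by
    by_contra hh
    push Not at hh
    exact hv (hB.nondeg v hh)
  have hy' : B y v ≠ 0 := by
    rw [← hB.symm v y, Ne, map_eq_zero]
    exact hy
  obtain ⟨c, hc⟩ := hq.exists_sub hs
  refine ⟨(c / B y v) • y, ?_⟩
  rw [← hB.symm ((c / B y v) • y) v, hB.smul_left, div_mul_cancel₀ _ hy', hc]
  exact hs1

section Fin

variable [Fintype V] {R : Representation ℂ (Hs B) W}

theorem card_sub (hq : UF F q σ) (S : Submodule F V) : Nat.card S = q ^ (2 * Module.finrank F S) := by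
  have hf := hq.finite
  rw [Module.natCard_eq_pow_finrank (K := F), hq.card, pow_mul]

/-- **The multiplication rule.** -/
theorem E_mul (hq : UF F q σ) (hB : Herm σ B) (hψ : ∃ s, σ s = -s ∧ ψ s ≠ 1) (h : SV ψ R) {a b : V ≃ₗ[F] V}
    (ha : IsoM B a) (hb : IsoM B b) :
    (-(q : ℂ)) ^ Module.finrank F (fixS (a * b)) • (E R a * E R b) =
      (-(q : ℂ)) ^ (Module.finrank F V + Module.finrank F (fixS a) + Module.finrank F (fixS b)) • E R (a * b) := by
  classical
  have hf := hq.finite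
  have hnd := nd_of hq hB hψ
  have h2 := hq.two_le
  have hq0 : (q : ℂ) ≠ 0 := by
    have : q ≠ 0 := by omega
    exact_mod_cast this
  have hn := finrank_ne h
  obtain ⟨c, hc⟩ := exists_E_mul h hnd ha hb
  obtain ⟨c', hc'⟩ := exists_E_mul h hnd hb.inv ha.inv
  rw [← mul_inv_rev] at hc'
  obtain ⟨m, hm⟩ := gauss (K := KK a b) hq ψ hψ (Fintype.card (KK a b)) (Ph B a b) rfl
    (fun x y z => by
      unfold Ph
      rw [← AddMonoidHom.add_apply, ← map_add]
      congr 2
      show a ((x : V × V).1 + (y : V × V).1) - ((x : V × V).1 + (y : V × V).1) = _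
      rw [map_add]
      abel)
    (fun t x y => by
      unfold Ph
      rw [← hB.smul_left]
      congr 2
      show a (t • (x : V × V).1) - t • (x : V × V).1 = _
      rw [map_smul, smul_sub])
    (fun x y => Ph_skew hB ha hb x y)
  have hT := trace_E_mul_E h hnd a b
  rw [hm] at hT
  have hT' := trace_E_conj (R := R) a b
  have hconj : starRingEnd ℂ ((Module.finrank ℂ W : ℂ) * (-(q : ℂ)) ^ m) = (Module.finrank ℂ W : ℂ) * (-(q : ℂ)) ^ m := by
    simp only [_root_.map_mul, _root_.map_natCast, _root_.map_pow, _root_.map_neg]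
  rw [hT, hconj] at hT'
  rw [hc, map_smul, trace_E h hnd, smul_eq_mul] at hT
  rw [hc', map_smul, trace_E h hnd, smul_eq_mul, fixS_inv] at hT'
  have hcc : c' = c := by
    have h3 : c' * ((Module.finrank ℂ W : ℂ) * (Nat.card (fixS (a * b)) : ℂ)) =
        c * ((Module.finrank ℂ W : ℂ) * (Nat.card (fixS (a * b)) : ℂ)) := by rw [hT, hT']
    refine mul_right_cancel₀ (mul_ne_zero hn ?_) h3
    exact_mod_cast Nat.card_pos.ne'
  have hsab := E_inv_mul h hnd (ha.mul hb)
  have hsa := E_inv_mul h hnd ha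
  have hsb := E_inv_mul h hnd hb
  have h4 : (E R b⁻¹ * E R a⁻¹) * (E R a * E R b) = E R b⁻¹ * (E R a⁻¹ * E R a) * E R b := by
    simp only [mul_assoc]
  rw [hc, hc', hcc, hsa, smul_mul_smul_comm, hsab, mul_smul_comm, mul_one, smul_mul_assoc, hsb, smul_smul, smul_smul] at h4
  have h5 : Nontrivial W := by
    have := Characters.Central.finrank_pos_of_irr R h.irr
    exact Module.finrank_pos_iff.1 this
  obtain ⟨w, hw⟩ := exists_ne (0 : W)
  have h6 := congrArg (fun X : Module.End ℂ W => X w) h4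
  simp only [LinearMap.smul_apply, Module.End.one_apply] at h6
  have h7 := smul_left_injective ℂ hw h6
  -- numbers
  have hV : Nat.card V = q ^ (2 * Module.finrank F V) := by
    rw [Module.natCard_eq_pow_finrank (K := F), hq.card, pow_mul]
  rw [hV, card_sub hq, card_sub hq, card_sub hq] at h7
  rw [card_sub hq, mul_left_comm] at hT
  have h8 := mul_left_cancel₀ hn hT
  -- exponents
  have h9 : 2 * m + (2 * Module.finrank F V + 2 * Module.finrank F (fixS (a * b))) =
      4 * Module.finrank F (fixS (a * b)) + (2 * Module.finrank F V + 2 * Module.finrank F (fixS a)) +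
        (2 * Module.finrank F V + 2 * Module.finrank F (fixS b)) := by
    have h10 : ((q : ℂ)) ^ (2 * m + (2 * Module.finrank F V + 2 * Module.finrank F (fixS (a * b)))) =
      (q : ℂ) ^ (4 * Module.finrank F (fixS (a * b)) + (2 * Module.finrank F V + 2 * Module.finrank F (fixS a)) +
        (2 * Module.finrank F V + 2 * Module.finrank F (fixS b))) := by
      have h11 : (q : ℂ) ^ (2 * m) = (c * (q : ℂ) ^ (2 * Module.finrank F (fixS (a * b)))) ^ 2 := by
        push_cast at h8
        rw [h8, ← pow_mul, mul_comm m 2, pow_mul (-(q : ℂ)), neg_sq, ← pow_mul]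
      push_cast at h7
      rw [pow_add, pow_add _ (2 * Module.finrank F V), h11, pow_add _ _ (2 * Module.finrank F V + 2 * Module.finrank F (fixS b)),
        pow_add _ (4 * _), pow_add _ (2 * Module.finrank F V) (2 * Module.finrank F (fixS a)),
        pow_add _ (2 * Module.finrank F V) (2 * Module.finrank F (fixS b))]
      have h12 : (q : ℂ) ^ (4 * Module.finrank F (fixS (a * b))) = ((q : ℂ) ^ (2 * Module.finrank F (fixS (a * b)))) ^ 2 := by
        rw [← pow_mul]
        congr 1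
        ring
      rw [h12]
      linear_combination ((q : ℂ) ^ (2 * Module.finrank F (fixS (a * b)))) ^ 2 * h7
    have h13 : q ^ (2 * m + (2 * Module.finrank F V + 2 * Module.finrank F (fixS (a * b)))) =
      q ^ (4 * Module.finrank F (fixS (a * b)) + (2 * Module.finrank F V + 2 * Module.finrank F (fixS a)) +
        (2 * Module.finrank F V + 2 * Module.finrank F (fixS b))) := by exact_mod_cast h10
    exact Nat.pow_right_injective h2 h13
  have h14 : m = Module.finrank F (fixS (a * b)) + (Module.finrank F V + Module.finrank F (fixS a) +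
    Module.finrank F (fixS b)) := by omega
  rw [h14, pow_add] at h8
  push_cast at h8
  have h15 : c * (-(q : ℂ)) ^ Module.finrank F (fixS (a * b)) =
      (-(q : ℂ)) ^ (Module.finrank F V + Module.finrank F (fixS a) + Module.finrank F (fixS b)) := by
    have h16 : (q : ℂ) ^ (2 * Module.finrank F (fixS (a * b))) =
        (-(q : ℂ)) ^ Module.finrank F (fixS (a * b)) * (-(q : ℂ)) ^ Module.finrank F (fixS (a * b)) := by
      rw [← pow_add, ← two_mul, pow_mul, pow_mul, neg_sq]
    rw [h16, ← mul_assoc, mul_comm _ ((-(q : ℂ)) ^ Module.finrank F (fixS (a * b)))] at h8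
    exact mul_left_cancel₀ (pow_ne_zero _ (neg_ne_zero.2 hq0)) h8
  rw [hc, smul_smul, mul_comm, h15]

theorem finrank_eq (hq : UF F q σ) (hB : Herm σ B) (hψ : ∃ s, σ s = -s ∧ ψ s ≠ 1) (h : SV ψ R) :
    Module.finrank ℂ W = q ^ Module.finrank F V := by
  have hf := hq.finite
  have h1 := h.finrank_sq (nd_of hq hB hψ)
  rw [Module.natCard_eq_pow_finrank (K := F), hq.card, ← pow_mul, mul_comm, pow_mul] at h1
  exact Nat.pow_left_injective (n := 2) two_ne_zero h1

end Fin

/-- **The Weil character of a unitary group**, for a group acting by isometries on a nondegenerate hermitian space. -/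
theorem weil_isCharacter [Finite V] (hq : UF F q σ) (hB : Herm σ B) {G : Type*} [Group G] (ρ : G →* (V ≃ₗ[F] V))
    (hρ : ∀ g, IsoM B (ρ g)) :
    IsCharacter G (fun g => (-1 : ℂ) ^ Module.finrank F V * (-(q : ℂ)) ^ Module.finrank F (fixS (ρ g))) := by
  classical
  have : Fintype V := Fintype.ofFinite V
  have hf := hq.finite
  have h2 := hq.two_le
  have hq0 : (-(q : ℂ)) ≠ 0 := by
    have : q ≠ 0 := by omega
    exact neg_ne_zero.2 (by exact_mod_cast this)
  obtain ⟨ψ, hψ⟩ := hq.exists_char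
  obtain ⟨U, R, h⟩ := exists_sv B ψ
  have hfix1 : Module.finrank F (fixS (1 : V ≃ₗ[F] V)) = Module.finrank F V := by
    have : fixS (1 : V ≃ₗ[F] V) = ⊤ := by
      rw [eq_top_iff]
      intro x _
      rw [mem_fixS]
      rfl
    rw [this, finrank_top]
  let T : G →* Module.End ℂ U :=
    { toFun := fun g => ((-(q : ℂ)) ^ (Module.finrank F V + Module.finrank F (fixS (ρ g))))⁻¹ • E R (ρ g)
      map_one' := by
        rw [map_one, E_one, hfix1, ← Nat.card_eq_fintype_card, Module.natCard_eq_pow_finrank (K := F), hq.card, ← two_mul,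
          pow_mul, neg_sq, smul_smul]
        push_cast
        rw [inv_mul_cancel₀, one_smul]
        exact pow_ne_zero _ (pow_ne_zero _ (neg_ne_zero.1 hq0))
      map_mul' := fun a b => by
        have h3 := E_mul hq hB hψ h (hρ a) (hρ b)
        rw [← map_mul] at h3
        rw [smul_mul_smul_comm]
        have h4 : E R (ρ (a * b)) = ((-(q : ℂ)) ^ (Module.finrank F V + Module.finrank F (fixS (ρ a)) +
            Module.finrank F (fixS (ρ b))))⁻¹ • (-(q : ℂ)) ^ Module.finrank F (fixS (ρ (a * b))) • (E R (ρ a) * E R (ρ b)) := by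
          rw [h3, smul_smul, inv_mul_cancel₀ (pow_ne_zero _ hq0), one_smul]
        rw [h4, smul_smul, smul_smul]
        congr 1
        simp only [pow_add]
        field_simp }
  have hT : IsCharacter G (Representation.character (show Representation ℂ G U from T)) :=
    Characters.Core.isCharacter_of_rep _
  convert hT using 1
  funext g
  show _ = LinearMap.trace ℂ U (((-(q : ℂ)) ^ (Module.finrank F V + Module.finrank F (fixS (ρ g))))⁻¹ • E R (ρ g))
  rw [map_smul, trace_E h (nd_of hq hB hψ), finrank_eq hq hB hψ h, card_sub hq, smul_eq_mul]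
  push_cast
  rw [eq_inv_mul_iff_mul_eq₀ (pow_ne_zero _ hq0)]
  have h5 : (q : ℂ) ^ Module.finrank F V = (-1) ^ Module.finrank F V * (-(q : ℂ)) ^ Module.finrank F V := by
    rw [← mul_pow]
    congr 1
    ring
  have h6 : (q : ℂ) ^ (2 * Module.finrank F (fixS (ρ g))) =
      (-(q : ℂ)) ^ Module.finrank F (fixS (ρ g)) * (-(q : ℂ)) ^ Module.finrank F (fixS (ρ g)) := by
    rw [← pow_add, ← two_mul, pow_mul, pow_mul, neg_sq]
  rw [h5, h6, pow_add]
  ring

end Cfsg.Agent.H603.Weil
end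

-- part: H603/Weil/GU
section
/-!
# The Weil character on `GU_n(q) × GU_m(q)` (helper603)

* `mem_GU_iff` : `M ∈ GU n F q ↔ Mᵀ * M ^ σ = 1`;
* `weil_hom` : `(g, h) ↦ (-1) ^ (n m) (-q) ^ dim {X | g X = X h}` is a character of `GU_n × GU_m`;
* `weil_hom_inv` : the same with `h⁻¹`;

-/

set_option autoImplicit false
set_option linter.unusedSectionVars false

namespace Cfsg.Agent.H603.Weil

open Cfsg Matrix

universe u

variable {F : Type u} [Field F] {q : ℕ}

/-- the involution exists -/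
theorem exists_frob (hF : Nat.card F = q ^ 2) (hq : q ≠ 0) : ∃ σ : F →+* F, UF F q σ := by
  have hf : Finite F := by
    by_contra hf
    rw [not_finite_iff_infinite] at hf
    rw [Nat.card_eq_zero_of_infinite] at hF
    exact hq (by
      rcases Nat.eq_zero_or_pos q with h2 | h2
      · exact h2
      · have := Nat.pow_pos (n := 2) h2
        omega)
  have := Fintype.ofFinite F
  obtain ⟨p, hp⟩ := CharP.exists F
  obtain ⟨f, hpp, hcard⟩ := FiniteField.card F p
  have : Fact p.Prime := ⟨hpp⟩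
  rw [← Nat.card_eq_fintype_card, hF] at hcard
  obtain ⟨k, _, hk⟩ := (Nat.dvd_prime_pow hpp).1 (show q ∣ p ^ (f : ℕ) from hcard ▸ Dvd.intro q (sq q).symm)
  exact ⟨iterateFrobenius F p k, hF, fun x => by rw [iterateFrobenius_def, hk]⟩

variable {σ : F →+* F}

theorem hermForm_eq (hq : UF F q σ) {n : ℕ} (u v : Fin n → F) : hermForm n F q u v = u ⬝ᵥ fun i => σ (v i) := by
  unfold hermForm dotProduct
  exact Finset.sum_congr rfl fun i _ => by simp only [hq.frob]

theorem map_mulVec (σ : F →+* F) {n : ℕ} (M : Matrix (Fin n) (Fin n) F) (v : Fin n → F) :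
    (fun i => σ ((M *ᵥ v) i)) = M.map σ *ᵥ fun i => σ (v i) := by
  funext i
  simp only [mulVec, dotProduct, map_sum, map_mul, Matrix.map_apply]

theorem mem_GU_iff (hq : UF F q σ) {n : ℕ} (M : Matrix.GeneralLinearGroup (Fin n) F) :
    M ∈ GU n F q ↔ (M : Matrix (Fin n) (Fin n) F)ᵀ * (M : Matrix (Fin n) (Fin n) F).map σ = 1 := by
  have key : ∀ u v : Fin n → F, hermForm n F q ((M : Matrix (Fin n) (Fin n) F) *ᵥ u) ((M : Matrix (Fin n) (Fin n) F) *ᵥ v) =
      u ⬝ᵥ (((M : Matrix (Fin n) (Fin n) F)ᵀ * (M : Matrix (Fin n) (Fin n) F).map σ) *ᵥ fun i => σ (v i)) := by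
    intro u v
    rw [hermForm_eq hq, map_mulVec, ← mulVec_mulVec, dotProduct_mulVec u, vecMul_transpose]
  constructor
  · intro h
    ext i j
    have h1 : hermForm n F q ((M : Matrix (Fin n) (Fin n) F) *ᵥ Pi.single i 1) ((M : Matrix (Fin n) (Fin n) F) *ᵥ Pi.single j 1) =
      hermForm n F q (Pi.single i 1) (Pi.single j 1) := h _ _
    rw [key, hermForm_eq hq] at h1
    have h2 : (fun k => σ ((Pi.single j 1 : Fin n → F) k)) = Pi.single j 1 := by
      funext k
      by_cases hk : k = j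
      · subst hk
        simp
      · simp [hk]
    rw [h2, mulVec_single_one, single_one_dotProduct, single_one_dotProduct] at h1
    rw [Matrix.one_apply]
    rw [Matrix.col_apply] at h1
    rw [h1, Pi.single_apply]
  · intro h u v
    show hermForm n F q ((M : Matrix (Fin n) (Fin n) F) *ᵥ u) ((M : Matrix (Fin n) (Fin n) F) *ᵥ v) = _
    rw [key, h, one_mulVec, hermForm_eq hq]

/-- the space of homomorphisms -/
def homSp {n m : ℕ} (A : Matrix (Fin n) (Fin n) F) (C : Matrix (Fin m) (Fin m) F) : Submodule F (Matrix (Fin n) (Fin m) F) where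
  carrier := {X | A * X = X * C}
  add_mem' {X Y} hX hY := by
    simp only [Set.mem_ofPred_eq] at hX hY ⊢
    rw [Matrix.mul_add, Matrix.add_mul, hX, hY]
  zero_mem' := by simp
  smul_mem' c X hX := by
    simp only [Set.mem_ofPred_eq] at hX ⊢
    rw [Matrix.mul_smul, Matrix.smul_mul, hX]

theorem mem_homSp {n m : ℕ} {A : Matrix (Fin n) (Fin n) F} {C : Matrix (Fin m) (Fin m) F} {X : Matrix (Fin n) (Fin m) F} :
    X ∈ homSp A C ↔ A * X = X * C := Iff.rfl

/-- the hermitian form on matrices -/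
def mform (σ : F →+* F) (n m : ℕ) : Matrix (Fin n) (Fin m) F →+ Matrix (Fin n) (Fin m) F →+ F :=
  AddMonoidHom.mk' (fun X => AddMonoidHom.mk' (fun Y => (X * (Y.map σ)ᵀ).trace) fun Y Z => by
    rw [Matrix.map_add σ (map_add σ), transpose_add, Matrix.mul_add, trace_add]) fun X Y => by
    ext Z
    show ((X + Y) * (Z.map σ)ᵀ).trace = (X * (Z.map σ)ᵀ).trace + (Y * (Z.map σ)ᵀ).trace
    rw [Matrix.add_mul, trace_add]

theorem mform_apply (n m : ℕ) (X Y : Matrix (Fin n) (Fin m) F) : mform σ n m X Y = (X * (Y.map σ)ᵀ).trace := rfl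

theorem mform_herm (hq : UF F q σ) (n m : ℕ) : Herm σ (mform σ n m) where
  smul_left a X Y := by
    rw [mform_apply, mform_apply, Matrix.smul_mul, trace_smul, smul_eq_mul]
  symm X Y := by
    rw [mform_apply, mform_apply, ← trace_transpose (Y * _), transpose_mul, transpose_transpose, AddMonoidHom.map_trace σ]
    congr 1
    rw [Matrix.map_mul]
    congr 1
    ext i j
    simp [hq.invol]
  nondeg X hX := by
    ext i j
    have h1 := hX (Matrix.single i j 1)
    rw [mform_apply] at h1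
    have h2 : (Matrix.single i j (1 : F)).map σ = Matrix.single i j 1 := by
      ext a b
      simp only [Matrix.map_apply, Matrix.single_apply]
      split_ifs <;> simp
    rw [h2, transpose_single, trace_mul_single] at h1
    rw [Matrix.zero_apply]
    simpa using h1

/-- the action on matrices -/
def act {n m : ℕ} : Matrix.GeneralLinearGroup (Fin n) F × Matrix.GeneralLinearGroup (Fin m) F →*
    (Matrix (Fin n) (Fin m) F ≃ₗ[F] Matrix (Fin n) (Fin m) F) where
  toFun g :=
    { toFun := fun X => (g.1 : Matrix (Fin n) (Fin n) F) * X * ((g.2⁻¹ : Matrix.GeneralLinearGroup (Fin m) F) : Matrix (Fin m) (Fin m) F)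
      invFun := fun X => ((g.1⁻¹ : Matrix.GeneralLinearGroup (Fin n) F) : Matrix (Fin n) (Fin n) F) * X * (g.2 : Matrix (Fin m) (Fin m) F)
      map_add' := fun X Y => by rw [Matrix.mul_add, Matrix.add_mul]
      map_smul' := fun c X => by rw [Matrix.mul_smul, Matrix.smul_mul, RingHom.id_apply]
      left_inv := fun X => by
        simp only [Matrix.mul_assoc]
        rw [← Matrix.mul_assoc (((g.1⁻¹ : Matrix.GeneralLinearGroup (Fin n) F) : Matrix (Fin n) (Fin n) F)), Units.inv_mul,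
          Units.inv_mul, Matrix.mul_one, Matrix.one_mul]
      right_inv := fun X => by
        simp only [Matrix.mul_assoc]
        rw [← Matrix.mul_assoc (g.1 : Matrix (Fin n) (Fin n) F), Units.mul_inv, Units.mul_inv, Matrix.mul_one,
          Matrix.one_mul] }
  map_one' := by
    refine LinearEquiv.ext fun X => ?_
    show ((1 : Matrix.GeneralLinearGroup (Fin n) F) : Matrix (Fin n) (Fin n) F) * X *
      (((1 : Matrix.GeneralLinearGroup (Fin m) F)⁻¹ : Matrix.GeneralLinearGroup (Fin m) F) : Matrix (Fin m) (Fin m) F) = X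
    rw [inv_one, Units.val_one, Units.val_one, Matrix.mul_one, Matrix.one_mul]
  map_mul' g h := by
    refine LinearEquiv.ext fun X => ?_
    show ((g.1 * h.1 : Matrix.GeneralLinearGroup (Fin n) F) : Matrix (Fin n) (Fin n) F) * X *
      (((g.2 * h.2)⁻¹ : Matrix.GeneralLinearGroup (Fin m) F) : Matrix (Fin m) (Fin m) F) =
      (g.1 : Matrix (Fin n) (Fin n) F) * ((h.1 : Matrix (Fin n) (Fin n) F) * X *
        ((h.2⁻¹ : Matrix.GeneralLinearGroup (Fin m) F) : Matrix (Fin m) (Fin m) F)) *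
        ((g.2⁻¹ : Matrix.GeneralLinearGroup (Fin m) F) : Matrix (Fin m) (Fin m) F)
    rw [_root_.mul_inv_rev, Units.val_mul, Units.val_mul]
    simp only [Matrix.mul_assoc]

theorem act_apply {n m : ℕ} (g : Matrix.GeneralLinearGroup (Fin n) F × Matrix.GeneralLinearGroup (Fin m) F)
    (X : Matrix (Fin n) (Fin m) F) : act g X = (g.1 : Matrix (Fin n) (Fin n) F) * X *
      ((g.2⁻¹ : Matrix.GeneralLinearGroup (Fin m) F) : Matrix (Fin m) (Fin m) F) := rfl

theorem GU_conj_mul (hq : UF F q σ) {n : ℕ} {M : Matrix.GeneralLinearGroup (Fin n) F} (hM : M ∈ GU n F q) :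
    ((M : Matrix (Fin n) (Fin n) F).map σ)ᵀ * (M : Matrix (Fin n) (Fin n) F) = 1 := by
  have h1 := congrArg transpose ((mem_GU_iff hq M).1 hM)
  rwa [transpose_mul, transpose_transpose, transpose_one] at h1

theorem act_iso (hq : UF F q σ) {n m : ℕ} (g : Matrix.GeneralLinearGroup (Fin n) F × Matrix.GeneralLinearGroup (Fin m) F)
    (h1 : g.1 ∈ GU n F q) (h2 : g.2 ∈ GU m F q) : IsoM (mform σ n m) (act g) := by
  intro X Y
  have e1 := GU_conj_mul hq h1
  have e2 := GU_conj_mul hq ((GU m F q).inv_mem h2)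
  rw [mul_eq_one_comm] at e2
  rw [mform_apply, mform_apply, act_apply, act_apply, Matrix.map_mul, Matrix.map_mul, transpose_mul, transpose_mul]
  set A := (g.1 : Matrix (Fin n) (Fin n) F)
  set C := ((g.2⁻¹ : Matrix.GeneralLinearGroup (Fin m) F) : Matrix (Fin m) (Fin m) F)
  have e3 : A * X * C * ((C.map σ)ᵀ * ((Y.map σ)ᵀ * (A.map σ)ᵀ)) = (A * (X * (Y.map σ)ᵀ)) * (A.map σ)ᵀ := by
    have e4 : A * X * C * ((C.map σ)ᵀ * ((Y.map σ)ᵀ * (A.map σ)ᵀ)) = A * X * (C * (C.map σ)ᵀ) * ((Y.map σ)ᵀ * (A.map σ)ᵀ) := by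
      simp only [Matrix.mul_assoc]
    rw [e4, e2, Matrix.mul_one]
    simp only [Matrix.mul_assoc]
  rw [e3, trace_mul_comm, ← Matrix.mul_assoc, e1, Matrix.one_mul]

theorem fixS_act {n m : ℕ} (g : Matrix.GeneralLinearGroup (Fin n) F × Matrix.GeneralLinearGroup (Fin m) F) :
    fixS (act g) = homSp (g.1 : Matrix (Fin n) (Fin n) F) (g.2 : Matrix (Fin m) (Fin m) F) := by
  ext X
  rw [mem_fixS, mem_homSp, act_apply]
  constructor
  · intro h
    conv_rhs => rw [← h]
    rw [Matrix.mul_assoc, Units.inv_mul, Matrix.mul_one]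
  · intro h
    rw [h, Matrix.mul_assoc, Units.mul_inv, Matrix.mul_one]

/-- **The Weil character of `GU_n × GU_m`**, Hom version. -/
theorem weil_hom (hF : Nat.card F = q ^ 2) (hq0 : q ≠ 0) (n m : ℕ) :
    IsCharacter (GU n F q × GU m F q) (fun g => (-1 : ℂ) ^ (n * m) *
      (-(q : ℂ)) ^ Module.finrank F (homSp ((g.1 : Matrix.GeneralLinearGroup (Fin n) F) : Matrix (Fin n) (Fin n) F)
        ((g.2 : Matrix.GeneralLinearGroup (Fin m) F) : Matrix (Fin m) (Fin m) F))) := by
  obtain ⟨σ, hq⟩ := exists_frob hF hq0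
  have hf := hq.finite
  have h1 := weil_isCharacter hq (mform_herm hq n m)
    ((act (F := F) (n := n) (m := m)).comp (MonoidHom.prodMap (GU n F q).subtype (GU m F q).subtype))
    (fun g => act_iso hq _ g.1.2 g.2.2)
  convert h1 using 2 with g
  have e1 : Module.finrank F (Matrix (Fin n) (Fin m) F) = n * m := by
    rw [Module.finrank_matrix, Fintype.card_fin, Fintype.card_fin, Module.finrank_self, mul_one]
  rw [e1]
  congr 2
  show _ = Module.finrank F (fixS (act ((g.1 : Matrix.GeneralLinearGroup (Fin n) F), (g.2 : Matrix.GeneralLinearGroup (Fin m) F))))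
  rw [fixS_act]

/-- entrywise `σ` on `GU` -/
def conjG (hq : UF F q σ) (m : ℕ) : GU m F q →* GU m F q :=
  ((Matrix.GeneralLinearGroup.map σ).comp (GU m F q).subtype).codRestrict (GU m F q) (fun g => by
    rw [mem_GU_iff hq]
    have h1 := congrArg (fun M : Matrix (Fin m) (Fin m) F => M.map σ) ((mem_GU_iff hq _).1 g.2)
    simp only [Matrix.map_mul, transpose_map] at h1
    have h2 : (1 : Matrix (Fin m) (Fin m) F).map σ = 1 := Matrix.map_one σ (map_zero σ) (map_one σ)
    rw [h2] at h1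
    exact h1)

theorem conjG_eq (hq : UF F q σ) {m : ℕ} (g : GU m F q) :
    (((conjG hq m g : GU m F q) : Matrix.GeneralLinearGroup (Fin m) F) : Matrix (Fin m) (Fin m) F) =
      (((g : Matrix.GeneralLinearGroup (Fin m) F)⁻¹ : Matrix.GeneralLinearGroup (Fin m) F) : Matrix (Fin m) (Fin m) F)ᵀ := by
  have h1 := (mem_GU_iff hq _).1 g.2
  have h2 : ((g : Matrix.GeneralLinearGroup (Fin m) F) : Matrix (Fin m) (Fin m) F)ᵀ *
      (((g : Matrix.GeneralLinearGroup (Fin m) F)⁻¹ : Matrix.GeneralLinearGroup (Fin m) F) : Matrix (Fin m) (Fin m) F)ᵀ = 1 := by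
    rw [← transpose_mul, Units.inv_mul, transpose_one]
  have h3 : (((g : Matrix.GeneralLinearGroup (Fin m) F)⁻¹ : Matrix.GeneralLinearGroup (Fin m) F) : Matrix (Fin m) (Fin m) F)ᵀ *
      ((g : Matrix.GeneralLinearGroup (Fin m) F) : Matrix (Fin m) (Fin m) F)ᵀ = 1 := by
    rw [← transpose_mul, Units.mul_inv, transpose_one]
  show ((g : Matrix.GeneralLinearGroup (Fin m) F) : Matrix (Fin m) (Fin m) F).map σ = _
  calc _ = ((((g : Matrix.GeneralLinearGroup (Fin m) F)⁻¹ : Matrix.GeneralLinearGroup (Fin m) F) : Matrix (Fin m) (Fin m) F)ᵀ *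
      ((g : Matrix.GeneralLinearGroup (Fin m) F) : Matrix (Fin m) (Fin m) F)ᵀ) *
        ((g : Matrix.GeneralLinearGroup (Fin m) F) : Matrix (Fin m) (Fin m) F).map σ := by rw [h3, Matrix.one_mul]
    _ = _ := by rw [Matrix.mul_assoc, h1, Matrix.mul_one]

theorem finrank_homSp_transpose [Finite F] {n m : ℕ} (A : Matrix (Fin n) (Fin n) F) (C : Matrix (Fin m) (Fin m) F) :
    Module.finrank F (homSp A Cᵀ) = Module.finrank F (homSp A C) := by
  obtain ⟨P, hP⟩ := Cfsg.Agent.S2580.result C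
  -- `P * C = Cᵀ * P`
  have h1 : (P : Matrix (Fin m) (Fin m) F) * C = Cᵀ * (P : Matrix (Fin m) (Fin m) F) := hP
  have h2 : C * ((P⁻¹ : (Matrix (Fin m) (Fin m) F)ˣ) : Matrix (Fin m) (Fin m) F) =
      ((P⁻¹ : (Matrix (Fin m) (Fin m) F)ˣ) : Matrix (Fin m) (Fin m) F) * Cᵀ := by
    calc C * ((P⁻¹ : (Matrix (Fin m) (Fin m) F)ˣ) : Matrix (Fin m) (Fin m) F) =
        (((P⁻¹ : (Matrix (Fin m) (Fin m) F)ˣ) : Matrix (Fin m) (Fin m) F) * (P : Matrix (Fin m) (Fin m) F)) * C *
          ((P⁻¹ : (Matrix (Fin m) (Fin m) F)ˣ) : Matrix (Fin m) (Fin m) F) := by rw [Units.inv_mul, Matrix.one_mul]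
      _ = ((P⁻¹ : (Matrix (Fin m) (Fin m) F)ˣ) : Matrix (Fin m) (Fin m) F) * ((P : Matrix (Fin m) (Fin m) F) * C) *
          ((P⁻¹ : (Matrix (Fin m) (Fin m) F)ˣ) : Matrix (Fin m) (Fin m) F) := by simp only [Matrix.mul_assoc]
      _ = _ := by rw [h1, Matrix.mul_assoc, Matrix.mul_assoc, Units.mul_inv, Matrix.mul_one]
  refine LinearEquiv.finrank_eq
    { toFun := fun X => ⟨(X : Matrix (Fin n) (Fin m) F) * (P : Matrix (Fin m) (Fin m) F), ?_⟩
      invFun := fun X => ⟨(X : Matrix (Fin n) (Fin m) F) * ((P⁻¹ : (Matrix (Fin m) (Fin m) F)ˣ) : Matrix (Fin m) (Fin m) F), ?_⟩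
      map_add' := fun X Y => Subtype.ext ?_
      map_smul' := fun c X => Subtype.ext ?_
      left_inv := fun X => Subtype.ext ?_
      right_inv := fun X => Subtype.ext ?_ }
  · rw [mem_homSp, ← Matrix.mul_assoc, mem_homSp.1 X.2, Matrix.mul_assoc, Matrix.mul_assoc, h1]
  · exact Matrix.add_mul _ _ _
  · exact Matrix.smul_mul _ _ _
  · rw [mem_homSp, ← Matrix.mul_assoc, mem_homSp.1 X.2, Matrix.mul_assoc, Matrix.mul_assoc, h2]
  · show (X : Matrix (Fin n) (Fin m) F) * (P : Matrix (Fin m) (Fin m) F) * _ = _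
    rw [Matrix.mul_assoc, Units.mul_inv, Matrix.mul_one]
  · show (X : Matrix (Fin n) (Fin m) F) * ((P⁻¹ : (Matrix (Fin m) (Fin m) F)ˣ) : Matrix (Fin m) (Fin m) F) * _ = _
    rw [Matrix.mul_assoc, Units.inv_mul, Matrix.mul_one]

/-- **The Weil character of `GU_n × GU_m`**, Hom version with the inverse. -/
theorem weil_hom_inv (hF : Nat.card F = q ^ 2) (hq0 : q ≠ 0) (n m : ℕ) :
    IsCharacter (GU n F q × GU m F q) (fun g => (-1 : ℂ) ^ (n * m) *
      (-(q : ℂ)) ^ Module.finrank F (homSp ((g.1 : Matrix.GeneralLinearGroup (Fin n) F) : Matrix (Fin n) (Fin n) F)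
        (((g.2 : Matrix.GeneralLinearGroup (Fin m) F)⁻¹ : Matrix.GeneralLinearGroup (Fin m) F) : Matrix (Fin m) (Fin m) F))) := by
  obtain ⟨σ, hq⟩ := exists_frob hF hq0
  have hf := hq.finite
  have h1 := Characters.Core.isCharacter_comp (MonoidHom.prodMap (MonoidHom.id (GU n F q)) (conjG hq m)) (weil_hom hF hq0 n m)
  convert h1 using 2 with g
  show _ = (-1 : ℂ) ^ (n * m) * (-(q : ℂ)) ^ Module.finrank F (homSp ((g.1 : Matrix.GeneralLinearGroup (Fin n) F) :
    Matrix (Fin n) (Fin n) F) (((conjG hq m g.2 : GU m F q) : Matrix.GeneralLinearGroup (Fin m) F) : Matrix (Fin m) (Fin m) F))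
  rw [conjG_eq, finrank_homSp_transpose]

end Cfsg.Agent.H603.Weil
end

-- part: H794/GUT/Fin
section
/-!
# The class data of `GU_n(q)` over a finite field; the Weil kernel (S4537, helper794)

* `TDcomap` : restriction of type data to a set of indices containing all indices of degree at most `n`;
* `typeDataK hF hK n hn : TypeData (dOrb K (-q)) (-q) (GU n F q) n` for a finite field `K` over `F` with
  `(-q) ^ k - 1 ∣ |Kˣ|` for `0 < k ≤ N` and `n ≤ N`; `typeDataK_typ : typ g [y] = mcol g y`;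
* `finrank_homSpK`, `weilK` : the Weil kernel of `GU_n × GU_m` as a function of the types.
-/

set_option autoImplicit false

open Module Polynomial

namespace Cfsg.Agent.H794.GUT

open Cfsg Cfsg.Agent.H186 Cfsg.Agent.H152 Cfsg.Agent.H615.GU Cfsg.Agent.H174 Cfsg.Agent.ClassicalGeometry.GUBasic

universe u v w x

/-! ### restriction of type data -/

section comap

variable {I : Type u} {I' : Type v} {d : I → ℕ} {d' : I' → ℕ} {Q : ℤ} (e : I' ↪ I) (hd : ∀ i, d (e i) = d' i)

/-- extension of types by zero -/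
noncomputable def emb (lam : Ty I') : Ty I := Finsupp.embDomain e lam

/-- restriction of types -/
noncomputable def res (lam : Ty I) : Ty I' := Finsupp.comapDomain e lam e.injective.injOn

theorem emb_apply (lam : Ty I') (i : I') : emb e lam (e i) = lam i := Finsupp.embDomain_apply_self _ _ _

theorem emb_notin (lam : Ty I') {i : I} (h : i ∉ Set.range e) : emb e lam i = 0 := Finsupp.embDomain_of_notMem_range _ _ _ h

theorem res_apply (lam : Ty I) (i : I') : res e lam i = lam (e i) := rfl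

theorem emb_res {lam : Ty I} (h : ∀ i, lam i ≠ 0 → i ∈ Set.range e) : emb e (res e lam) = lam := by
  refine Finsupp.ext fun i => ?_
  by_cases hi : i ∈ Set.range e
  · obtain ⟨j, rfl⟩ := hi
    rw [emb_apply, res_apply]
  · rw [emb_notin e _ hi]
    by_contra hcon
    exact hi (h i (Ne.symm hcon))

theorem res_emb (lam : Ty I') : res e (emb e lam) = lam := by
  refine Finsupp.ext fun i => ?_
  rw [res_apply, emb_apply]

theorem emb_support (lam : Ty I') : (emb e lam).support = lam.support.map e := Finsupp.support_embDomain _ _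

include hd in
theorem tdeg_emb (lam : Ty I') : tdeg d (emb e lam) = tdeg d' lam := by
  rw [tdeg, tdeg, Finsupp.sum, Finsupp.sum, emb_support, Finset.sum_map]
  exact Finset.sum_congr rfl fun i _ => by rw [emb_apply, hd]

include hd in
theorem tip_emb (lam mu : Ty I') : tip d (emb e lam) (emb e mu) = tip d' lam mu := by
  rw [tip, tip, Finsupp.sum, Finsupp.sum, emb_support, Finset.sum_map]
  exact Finset.sum_congr rfl fun i _ => by rw [emb_apply, emb_apply, hd]

include hd in
theorem Ag_emb (lam : Ty I') : Ag d Q (emb e lam) = Ag d' Q lam := by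
  rw [Ag, Ag, emb_support, Finset.prod_map]
  exact Finset.prod_congr rfl fun i _ => by rw [emb_apply, hd]

theorem size_pos {l : Col} (h : l ≠ 0) : 0 < l.size := by
  by_contra hcon
  apply h
  refine Col.ext fun i => ?_
  rw [Col.zero_apply, Col.apply_of_size_le (by omega)]

theorem mem_range_of_deg {n : ℕ} {lam : Ty I} (hlam : tdeg d lam = n) (hr : ∀ i, d i ≤ n → i ∈ Set.range e) (i : I)
    (hi : lam i ≠ 0) : i ∈ Set.range e := by
  apply hr
  have h1 : d i * (lam i).size ≤ n := by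
    rw [← hlam, tdeg, Finsupp.sum]
    exact Finset.single_le_sum (f := fun i => d i * (lam i).size) (fun _ _ => Nat.zero_le _)
      (Finsupp.mem_support_iff.2 hi)
  exact (Nat.le_mul_of_pos_right _ (size_pos hi)).trans h1

/-- restriction of type data -/
noncomputable def TDcomap {G : Type w} [Group G] {n : ℕ} (D : TypeData d Q G n) (hr : ∀ i, d i ≤ n → i ∈ Set.range e) :
    TypeData d' Q G n where
  typ g := res e (D.typ g)
  conj g h := by rw [D.conj]
  deg g := by rw [← tdeg_emb e hd, emb_res e (mem_range_of_deg e (D.deg g) hr), D.deg]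
  sep g g' h := D.sep g g' (by
    rw [← emb_res e (mem_range_of_deg e (D.deg g) hr), h, emb_res e (mem_range_of_deg e (D.deg g') hr)])
  card lam hlam := by
    have h1 := D.card (emb e lam) (by rw [tdeg_emb e hd, hlam])
    rw [Ag_emb e hd] at h1
    rw [← h1]
    congr 2
    refine Nat.card_congr (Equiv.subtypeEquivRight fun g => ?_)
    constructor
    · rintro rfl
      exact (emb_res e (mem_range_of_deg e (D.deg g) hr)).symm
    · intro h
      rw [h, res_emb]

end comap

/-! ### the orbits over a finite field -/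

section orbits

variable {F : Type u} [Field F] [Fintype F] {K : Type v} [Field K] [Finite K] [Algebra F K] {q N : ℕ}

instance algIsAlg : Algebra.IsAlgebraic F (AlgebraicClosure K) := Algebra.IsAlgebraic.trans F K (AlgebraicClosure K)

/-- the units of the closure -/
noncomputable def iu (K : Type v) [Field K] : Kˣ →* (AlgebraicClosure K)ˣ :=
  Units.map (algebraMap K (AlgebraicClosure K)).toMonoidHom

omit [Finite K] in
theorem iu_val (x : Kˣ) : ((iu K x : (AlgebraicClosure K)ˣ) : AlgebraicClosure K) = algebraMap K _ (x : K) := rfl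

theorem iu_injective (K : Type v) [Field K] : Function.Injective (iu K) :=
  Units.map_injective (algebraMap K (AlgebraicClosure K)).injective

/-- the map on orbits -/
noncomputable def oe (K : Type v) [Field K] (Q : ℤ) : Orb K Q ↪ Orb (AlgebraicClosure K) Q where
  toFun := Quotient.map (iu K) (fun x y => by
    rintro ⟨i, j, h⟩
    exact ⟨i, j, by rw [← map_zpow, ← map_zpow, h]⟩)
  inj' := by
    intro a b
    induction a using Quotient.inductionOn with | _ x => ?_
    induction b using Quotient.inductionOn with | _ y => ?_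
    intro h
    obtain ⟨i, j, h1⟩ := Quotient.exact h
    rw [← map_zpow, ← map_zpow] at h1
    exact Quotient.sound ⟨i, j, iu_injective K h1⟩

omit [Finite K] in
theorem oe_mk (Q : ℤ) (x : Kˣ) : oe K Q (Quotient.mk (orbSetoid K Q) x) = Quotient.mk (orbSetoid _ Q) (iu K x) := rfl

theorem mem_range_iu {y : (AlgebraicClosure K)ˣ} (h : y ^ Nat.card Kˣ = 1) : y ∈ Set.range (iu K) := by
  classical
  have hfu := Fintype.ofFinite Kˣ
  have hpos : 0 < Nat.card Kˣ := Nat.card_pos
  set S : Finset (AlgebraicClosure K) := Finset.univ.image fun x : Kˣ => ((iu K x : (AlgebraicClosure K)ˣ) : AlgebraicClosure K)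
  have hS : S.card = Nat.card Kˣ := by
    have h1 := Finset.card_image_of_injective (Finset.univ : Finset Kˣ) (Units.val_injective.comp (iu_injective K))
    rw [Finset.card_univ, ← Nat.card_eq_fintype_card] at h1
    exact h1
  have hsub : S ⊆ nthRootsFinset (Nat.card Kˣ) (1 : AlgebraicClosure K) := by
    intro z hz
    obtain ⟨x, -, rfl⟩ := Finset.mem_image.1 hz
    rw [Polynomial.mem_nthRootsFinset hpos, ← Units.val_pow_eq_pow_val, ← map_pow, pow_card_eq_one', map_one, Units.val_one]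
  have hle : (nthRootsFinset (Nat.card Kˣ) (1 : AlgebraicClosure K)).card ≤ S.card := by
    rw [hS, nthRootsFinset_def]
    exact (Multiset.toFinset_card_le _).trans (Polynomial.card_nthRoots _ _)
  have heq := Finset.eq_of_subset_of_card_le hsub hle
  have hy : (y : AlgebraicClosure K) ∈ S := by
    rw [heq, Polynomial.mem_nthRootsFinset hpos, ← Units.val_pow_eq_pow_val, h, Units.val_one]
  obtain ⟨x, -, hx⟩ := Finset.mem_image.1 hy
  exact ⟨x, Units.ext hx⟩

theorem dOrb_oe (hF : Fintype.card F = q ^ 2) (o : Orb K (-(q : ℤ))) :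
    dOrb (AlgebraicClosure K) (-(q : ℤ)) (oe K (-(q : ℤ)) o) = dOrb K (-(q : ℤ)) o := by
  induction o using Quotient.inductionOn with | _ x => ?_
  rw [dOrb, dOrb]
  let f : {y : Kˣ // (Quotient.mk (orbSetoid K (-(q : ℤ))) y) = Quotient.mk _ x} →
      {y : (AlgebraicClosure K)ˣ // (Quotient.mk (orbSetoid (AlgebraicClosure K) (-(q : ℤ))) y) =
        oe K (-(q : ℤ)) (Quotient.mk _ x)} :=
    fun y => ⟨iu K y.1, (oe_mk _ _).symm.trans (congrArg (oe K (-(q : ℤ))) y.2)⟩
  refine (Nat.card_congr (Equiv.ofBijective f ⟨?_, ?_⟩)).symm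
  · intro y z h
    exact Subtype.ext (iu_injective K (congrArg Subtype.val h))
  · rintro ⟨z, hz⟩
    have h1 : Quotient.mk (orbSetoid (AlgebraicClosure K) (-(q : ℤ))) z = Quotient.mk _ (iu K x) := hz
    rw [← orbEquiv_mk hF, ← orbEquiv_mk hF, (orbEquiv hF).injective.eq_iff] at h1
    obtain ⟨k, hk⟩ := OI.mk_eq_iff.1 h1.symm
    rw [Phi_zpow, ← map_zpow] at hk
    refine ⟨⟨x ^ (-(q : ℤ)) ^ k, (oe K (-(q : ℤ))).injective ?_⟩, Subtype.ext hk⟩
    change oe K _ (Quotient.mk (orbSetoid K (-(q : ℤ))) (x ^ (-(q : ℤ)) ^ k)) = _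
    rw [oe_mk, hk]
    exact hz

theorem mem_range_oe (hF : Fintype.card F = q ^ 2) (hK : ∀ k, 0 < k → k ≤ N → ((-(q : ℤ)) ^ k - 1) ∣ (Nat.card Kˣ : ℤ))
    {o : Orb (AlgebraicClosure K) (-(q : ℤ))} (ho : dOrb (AlgebraicClosure K) (-(q : ℤ)) o ≤ N) :
    o ∈ Set.range (oe K (-(q : ℤ))) := by
  obtain ⟨i, rfl⟩ := (orbEquiv (E := AlgebraicClosure K) hF).surjective o
  rw [dOrb_eq] at ho
  have h1 : (Phi q)^[i.d] i.rep = i.rep := Function.iterate_minimalPeriod
  rw [Phi_zpow] at h1
  have h2 : i.rep ^ ((-(q : ℤ)) ^ i.d - 1) = 1 := by rw [zpow_sub_one, h1, mul_inv_cancel]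
  obtain ⟨c, hc⟩ := hK i.d (dd_pos hF _) ho
  have h3 : i.rep ^ Nat.card Kˣ = 1 := by
    rw [← zpow_natCast, hc, zpow_mul, h2, one_zpow]
  obtain ⟨x, hx⟩ := mem_range_iu h3
  refine ⟨Quotient.mk (orbSetoid K (-(q : ℤ))) x, ?_⟩
  rw [oe_mk, hx, ← orbEquiv_mk hF, i.mk_rep]

end orbits

/-! ### the data -/

section data

variable {F : Type u} [Field F] [Fintype F] {K : Type v} [Field K] [Finite K] [Algebra F K] {q N n m : ℕ}

/-- the class data of `GU_n(q)` over a finite field -/
noncomputable def typeDataK (hF : Fintype.card F = q ^ 2)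
    (hK : ∀ k, 0 < k → k ≤ N → ((-(q : ℤ)) ^ k - 1) ∣ (Nat.card Kˣ : ℤ)) (n : ℕ) (hn : n ≤ N) :
    TypeData (dOrb K (-(q : ℤ))) (-(q : ℤ)) (GU n F q) n :=
  TDcomap (oe K (-(q : ℤ))) (dOrb_oe hF) (typeDataO (AlgebraicClosure K) hF n)
    (fun _ h => mem_range_oe hF hK (h.trans hn))

variable (hF : Fintype.card F = q ^ 2) (hK : ∀ k, 0 < k → k ≤ N → ((-(q : ℤ)) ^ k - 1) ∣ (Nat.card Kˣ : ℤ))

omit [Fintype F] [Finite K] in
theorem mp_iu [Finite F] (y : Kˣ) : mp F (iu K y) = mp F y := by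
  rw [mp, mp, iu_val]
  exact minpoly.algebraMap_eq (algebraMap K (AlgebraicClosure K)).injective _

theorem typeDataK_typ (hn : n ≤ N) (g : GU n F q) (y : Kˣ) :
    (typeDataK hF hK n hn).typ g (Quotient.mk (orbSetoid K (-(q : ℤ))) y) =
      mcol ((g : GL (Fin n) F) : Matrix (Fin n) (Fin n) F) (y : K) := by
  change (typeDataO (AlgebraicClosure K) hF n).typ g (oe K _ _) = _
  rw [oe_mk, typeDataO_typ, mcol_eq, mcol_eq, mp_iu]

/-- all indices of the large type come from `K` -/
theorem typeDataK_emb (hn : n ≤ N) (g : GU n F q) :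
    emb (oe K (-(q : ℤ))) ((typeDataK hF hK n hn).typ g) = (typeDataO (AlgebraicClosure K) hF n).typ g :=
  emb_res _ (mem_range_of_deg _ ((typeDataO (AlgebraicClosure K) hF n).deg g) (fun _ h => mem_range_oe hF hK (h.trans hn)))

theorem tip_typeDataK (hn : n ≤ N) (hm : m ≤ N) (g : GU n F q) (h : GU m F q) :
    tip (dOrb K (-(q : ℤ))) ((typeDataK hF hK n hn).typ g) ((typeDataK hF hK m hm).typ h) =
      tip OI.d (tyF hF (Matrix.toLin' (gmat g)) : Ty (OI (AlgebraicClosure K) hF)) (tyF hF (Matrix.toLin' (gmat h))) := by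
  rw [← tip_emb (oe K (-(q : ℤ))) (dOrb_oe hF), typeDataK_emb, typeDataK_emb]
  exact tip_tmap (orbEquiv hF) (dOrb_eq hF) _ _

/-- the exponent of the Weil kernel -/
theorem finrank_homSp_tyF {E : Type w} [Field E] [Algebra F E] [Algebra.IsAlgebraic F E] [IsAlgClosed E]
    (g : GU n F q) (h : GU m F q) :
    finrank F (H603.Weil.homSp (gmat g) (gmat h)) =
      tip OI.d (tyF hF (Matrix.toLin' (gmat g)) : Ty (OI E hF)) (tyF hF (Matrix.toLin' (gmat h))) := by
  rw [tip_comm, ← finrank_Hm hF (hf_std (q := q) hF m) (gmat_isom hF h) (hf_std (q := q) hF n) (gmat_isom hF g)]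
  refine LinearEquiv.finrank_eq
    { toFun := fun X => ⟨Matrix.toLin' (X : Matrix (Fin n) (Fin m) F), fun y => ?_⟩
      invFun := fun Y => ⟨LinearMap.toMatrix' (Y : (Fin m → F) →ₗ[F] (Fin n → F)), ?_⟩
      map_add' := fun X Y => Subtype.ext (map_add Matrix.toLin' (X : Matrix (Fin n) (Fin m) F) (Y : Matrix (Fin n) (Fin m) F))
      map_smul' := fun c X => Subtype.ext (map_smul Matrix.toLin' c (X : Matrix (Fin n) (Fin m) F))
      left_inv := fun X => Subtype.ext (LinearMap.toMatrix'_toLin' _)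
      right_inv := fun Y => Subtype.ext (Matrix.toLin'_toMatrix' _) }
  · rw [← Matrix.toLin'_mul_apply, ← Matrix.toLin'_mul_apply, H603.Weil.mem_homSp.1 X.2]
  · rw [H603.Weil.mem_homSp]
    have h6 : (Y : (Fin m → F) →ₗ[F] (Fin n → F)) ∘ₗ Matrix.toLin' (gmat h) = Matrix.toLin' (gmat g) ∘ₗ Y :=
      LinearMap.ext Y.2
    have h7 := congrArg LinearMap.toMatrix' h6
    rw [LinearMap.toMatrix'_comp, LinearMap.toMatrix'_comp, LinearMap.toMatrix'_toLin', LinearMap.toMatrix'_toLin'] at h7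
    exact h7.symm

theorem finrank_homSpK (hn : n ≤ N) (hm : m ≤ N) (g : GU n F q) (h : GU m F q) :
    finrank F (H603.Weil.homSp ((g : GL (Fin n) F) : Matrix (Fin n) (Fin n) F) ((h : GL (Fin m) F) : Matrix (Fin m) (Fin m) F)) =
      tip (dOrb K (-(q : ℤ))) ((typeDataK hF hK n hn).typ g) ((typeDataK hF hK m hm).typ h) := by
  rw [tip_typeDataK]
  exact finrank_homSp_tyF hF g h

/-- **The Weil kernel**: the hypothesis `hW` of the theta lift. -/
theorem weilK (hq : q ≠ 0) (n m : ℕ) (hn : n ≤ N) (hm : m ≤ N) :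
    IsCharacter (GU n F q × GU m F q) fun x =>
      (((-(q : ℤ)).sign : ℤ) : ℂ) ^ (n * m) * ((-(q : ℤ) : ℤ) : ℂ) ^
        tip (dOrb K (-(q : ℤ))) ((typeDataK hF hK n hn).typ x.1) ((typeDataK hF hK m hm).typ x.2⁻¹) := by
  have hF' : Nat.card F = q ^ 2 := by rw [Nat.card_eq_fintype_card, hF]
  convert H603.Weil.weil_hom_inv hF' hq n m using 2 with x
  rw [← finrank_homSpK hF hK]
  have hs : (-(q : ℤ)).sign = -1 := by
    rw [Int.sign_neg, Int.sign_natCast_of_ne_zero hq]
  rw [hs]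
  push_cast
  rfl

end data

end Cfsg.Agent.H794.GUT
end

-- part: H501/GU/Tau
section
/-!
# S4537, R4: truncation to the `p`-regular types (helper501)

* `tauU Q M p u` : average over the `p`-characters multiplied by `u` (`tauP` for `u = 1`, `tau1` for `u = p`);
* `PT Q p u lam` : `x ^ u` is `p`-regular for all eigenvalues `x` of the type `lam`;
* `evR_tauU` : `evR (tauU x) lam = evR x lam` if `PT Q p u lam`, `0` otherwise.
-/

set_option autoImplicit false
set_option linter.unusedSectionVars false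

namespace Cfsg.Agent.H501.GU

open Cfsg.Agent.H615.GU Cfsg.Agent.H577.GLB.Std Cfsg.Agent.H421.GU
open Cfsg.Agent.H614.GLn.RSt (mem_Eta zero_mem_Eta Eta_card_pos Eta_add Eta_neg torZ_add)
open Cfsg.Agent.H531.GU (uu uu_apply pp nwt nwt_zero nwt_succ)

/-! ### local operators are local -/

section loc

/-- `(A f) l` depends only on the values of `f` at the partitions of size `l.size - m` -/
def Lcl (m : ℕ) (A : Module.End ℂ (Col → ℂ)) : Prop :=
  ∀ (f : Col → ℂ) (l : Col), (∀ k : Col, k.size + m = l.size → f k = 0) → A f l = 0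

theorem Lcl_uu (t : ℂ) (j : ℕ) : Lcl j (uu t j) := by
  classical
  intro f l h
  rw [uu_apply]
  refine Finset.sum_eq_zero fun c hc => ?_
  rw [h c (Finset.mem_filter.1 hc).2, mul_zero]

theorem Lcl.mul {a b : ℕ} {A B : Module.End ℂ (Col → ℂ)} (hA : Lcl a A) (hB : Lcl b B) : Lcl (a + b) (A * B) := by
  intro f l h
  rw [Module.End.mul_apply]
  refine hA _ _ fun k hk => hB _ _ fun k' hk' => h k' (by omega)

theorem Lcl_nwt {u : ℕ → Module.End ℂ (Col → ℂ)} (hu : ∀ j, Lcl j (u j)) (m : ℕ) : Lcl m (nwt u m) := by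
  induction m using Nat.strong_induction_on with
  | _ m ih =>
    cases m with
    | zero =>
      intro f l _
      rw [nwt_zero, LinearMap.zero_apply]
      rfl
    | succ m =>
      intro f l h
      rw [nwt_succ, LinearMap.sub_apply, Pi.sub_apply, LinearMap.smul_apply, Pi.smul_apply, hu (m + 1) f l h,
        smul_zero, LinearMap.sum_apply, Finset.sum_apply, Finset.sum_eq_zero, sub_zero]
      intro r hr
      have hr' := Finset.mem_range.1 hr
      have h1 := (ih r hr').mul (hu (m + 1 - r))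
      rw [Nat.add_sub_cancel' hr'.le] at h1
      exact h1 f l h

theorem Lcl_pp (t : ℂ) (m : ℕ) : Lcl m (pp t m) := Lcl_nwt (Lcl_uu t) m

theorem Lcl.congr {m : ℕ} {A : Module.End ℂ (Col → ℂ)} (hA : Lcl m A) {f g : Col → ℂ} {l : Col}
    (h : ∀ k : Col, k.size + m = l.size → f k = g k) : A f l = A g l := by
  have h1 := hA (f - g) l fun k hk => by rw [Pi.sub_apply, h k hk, sub_self]
  rw [map_sub, Pi.sub_apply, sub_eq_zero] at h1
  exact h1

end loc

/-! ### averages over the `p`-characters -/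

section avg

variable {K : Type*} [Field K] {θ : K →*₀ ℂ} {Q : ℤ} {M : ℕ} [NeZero M] {k p : ℕ}

theorem expoZ_zero (k : ℕ) : expoZ Q M k (0 : ZMod M) = 0 := by
  rw [expoZ, ZMod.val_zero, Nat.cast_zero, zero_mul, Int.zero_ediv]

theorem torZ_nat (u : ℕ) {c : ZMod M} (h : TorZ Q M k c) : TorZ Q M k ((u : ZMod M) * c) := by
  rw [TorZ] at h ⊢
  rw [mul_left_comm, h, mul_zero]

theorem pow_expoZ_nat {w : Kˣ} (hw : w ^ (Q ^ k) = w) {c : ZMod M} (h : TorZ Q M k c) (u : ℕ) :
    w ^ expoZ Q M k ((u : ZMod M) * c) = (w ^ expoZ Q M k c) ^ u := by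
  induction u with
  | zero => rw [Nat.cast_zero, zero_mul, expoZ_zero, zpow_zero, pow_zero]
  | succ u ih => rw [Nat.cast_succ, add_mul, one_mul, pow_expoZ_add hw (torZ_nat u h) h, ih, pow_succ]

/-- the characters of `T_k` given by the `p`-characters separate the `p`-parts -/
theorem exists_eta (hp : p.Prime) (hk : (Q ^ k - 1 : ℤ) ∣ (M : ℤ)) {w : Kˣ} (hw : w ^ (Q ^ k) = w)
    (hn : ¬ (orderOf w).Coprime p) : ∃ η ∈ Eta Q M p k, w ^ expoZ Q M k η ≠ 1 := by
  set c : ZMod M := (((1 * ((M : ℤ) / (Q ^ k - 1)) : ℤ)) : ZMod M) with hc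
  have h0 : (Q ^ k - 1) * ((M : ℤ) / (Q ^ k - 1)) = M := Int.mul_ediv_cancel' hk
  have hT : TorZ Q M k c := by
    rw [TorZ, hc]
    have h1 : ((Q : ZMod M) ^ k - 1) * (((1 * ((M : ℤ) / (Q ^ k - 1)) : ℤ)) : ZMod M) =
        (((Q ^ k - 1) * (1 * ((M : ℤ) / (Q ^ k - 1))) : ℤ) : ZMod M) := by push_cast; ring
    rw [h1, ZMod.intCast_zmod_eq_zero_iff_dvd]
    exact ⟨1, by linear_combination h0⟩
  have hwc : w ^ expoZ Q M k c = w := by
    have h1 := pow_of_level hw (H531.GU.expoZ_intCast (Q := Q) hk 1)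
    rwa [zpow_one] at h1
  obtain ⟨a, r, hr, hord⟩ := Nat.exists_eq_pow_mul_and_not_dvd (addOrderOf_pos c).ne' p hp.ne_one
  refine ⟨(r : ZMod M) * c, mem_Eta.2 ⟨torZ_nat r hT, a, ?_⟩, ?_⟩
  · have h1 := addOrderOf_nsmul_eq_zero c
    rw [hord, nsmul_eq_mul, Nat.cast_mul, Nat.cast_pow, mul_assoc] at h1
    exact h1
  · rw [pow_expoZ_nat hw hT, hwc]
    intro h
    have h1 : orderOf w ∣ r := orderOf_dvd_of_pow_eq_one h
    apply hn
    exact Nat.Coprime.coprime_dvd_left h1 ((Nat.Prime.coprime_iff_not_dvd hp).2 hr).symm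

theorem theta_ne_one (hθ : Function.Injective θ) {y : Kˣ} (hy : y ≠ 1) : θ (y : K) ≠ 1 := by
  intro h
  apply hy
  apply Units.ext
  apply hθ
  rw [h, Units.val_one, map_one]

/-- the sum over the `p`-characters -/
theorem sum_eta (hθ : Function.Injective θ) (hp : p.Prime) (hk : (Q ^ k - 1 : ℤ) ∣ (M : ℤ)) {w : Kˣ}
    (hw : w ^ (Q ^ k) = w) : ∑ η ∈ Eta Q M p k, θ ((w ^ expoZ Q M k η : Kˣ) : K) =
      open Classical in if (orderOf w).Coprime p then ((Eta Q M p k).card : ℂ) else 0 := by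
  classical
  split_ifs with hreg
  · have h1 : ∀ η ∈ Eta Q M p k, θ ((w ^ expoZ Q M k η : Kˣ) : K) = 1 := by
      intro η hη
      obtain ⟨hT, j, hj⟩ := mem_Eta.1 hη
      have h2 : (w ^ expoZ Q M k η) ^ (p ^ j) = 1 := by
        rw [← pow_expoZ_nat hw hT, Nat.cast_pow, hj, expoZ_zero, zpow_zero]
      have h3 : orderOf (w ^ expoZ Q M k η) ∣ orderOf w :=
        orderOf_dvd_of_mem_zpowers (Subgroup.mem_zpowers_iff.2 ⟨_, rfl⟩)
      have h4 : orderOf (w ^ expoZ Q M k η) = 1 :=
        Nat.Coprime.eq_one_of_dvd ((Nat.Coprime.coprime_dvd_left h3 hreg).pow_right j)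
          (orderOf_dvd_of_pow_eq_one h2)
      rw [orderOf_eq_one_iff.1 h4, Units.val_one, map_one]
    rw [Finset.sum_congr rfl h1, Finset.sum_const, nsmul_eq_mul, mul_one]
  · obtain ⟨η₀, hη₀, hne⟩ := exists_eta hp hk hw hreg
    have h1 : ∑ η ∈ Eta Q M p k, θ ((w ^ expoZ Q M k (η + η₀) : Kˣ) : K) =
        ∑ η ∈ Eta Q M p k, θ ((w ^ expoZ Q M k η : Kˣ) : K) := by
      refine Finset.sum_equiv (Equiv.addRight η₀) (fun η => ⟨fun h => Eta_add h hη₀, fun h => ?_⟩) fun η _ => rfl
      have h2 := Eta_add h (Eta_neg hη₀)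
      rwa [Equiv.coe_addRight, add_neg_cancel_right] at h2
    have h2 : ∑ η ∈ Eta Q M p k, θ ((w ^ expoZ Q M k (η + η₀) : Kˣ) : K) =
        (∑ η ∈ Eta Q M p k, θ ((w ^ expoZ Q M k η : Kˣ) : K)) * θ ((w ^ expoZ Q M k η₀ : Kˣ) : K) := by
      rw [Finset.sum_mul]
      refine Finset.sum_congr rfl fun η hη => ?_
      rw [pow_expoZ_add hw (mem_Eta.1 hη).1 (mem_Eta.1 hη₀).1, Units.val_mul, map_mul]
    rw [h2] at h1
    by_contra h3
    exact theta_ne_one hθ hne (mul_left_cancel₀ h3 (by rw [h1, mul_one]))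

theorem zpow_pow_comm {G : Type*} [Group G] (a : G) (e : ℤ) (u : ℕ) : (a ^ e) ^ u = (a ^ u) ^ e := by
  rw [← zpow_natCast, ← zpow_mul, mul_comm, zpow_mul, zpow_natCast]

theorem orderOf_pow_Q {y : Kˣ} (hy : y ^ (Q ^ k) = y) {i : ℕ} (hi : i ≤ k) : orderOf (y ^ (Q ^ i)) = orderOf y := by
  apply Nat.dvd_antisymm
  · exact orderOf_dvd_of_mem_zpowers (Subgroup.mem_zpowers_iff.2 ⟨_, rfl⟩)
  · refine orderOf_dvd_of_mem_zpowers (Subgroup.mem_zpowers_iff.2 ⟨Q ^ (k - i), ?_⟩)
    rw [← zpow_mul, ← pow_add, Nat.add_sub_cancel' hi, hy]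

/-- the sum over the `p`-characters of the orbit sums -/
theorem sum_thO [Finite K] (hM : Nat.card Kˣ = M) (hQ : IsUnit (Q : ZMod M)) (hθ : Function.Injective θ)
    (hp : p.Prime) (hk0 : 0 < k) (hk : (Q ^ k - 1 : ℤ) ∣ (M : ℤ)) {c : ZMod M} (hc : TorZ Q M k c) (u : ℕ) {x : Kˣ}
    (hx : dOrb K Q (Quotient.mk (orbSetoid K Q) x) ∣ k) :
    ∑ η ∈ Eta Q M p k, thO θ Q M k (c + (u : ZMod M) * η) (Quotient.mk (orbSetoid K Q) x) =
      open Classical in if (orderOf (x ^ u)).Coprime p then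
        ((Eta Q M p k).card : ℂ) * thO θ Q M k c (Quotient.mk (orbSetoid K Q) x) else 0 := by
  classical
  have hxk : x ^ (Q ^ k) = x := (dOrb_dvd_iff hM hQ x k).1 hx
  have hlev : ∀ i, (x ^ (Q ^ i)) ^ (Q ^ k) = x ^ (Q ^ i) := by
    intro i
    rw [← zpow_mul, mul_comm, zpow_mul, hxk]
  have hle : ∀ i ∈ Finset.range (dOrb K Q (Quotient.mk (orbSetoid K Q) x)), i ≤ k := by
    intro i hi
    have h1 := Finset.mem_range.1 hi
    have h2 := Nat.le_of_dvd hk0 hx
    omega
  simp only [thO_mk hM hQ]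
  rw [Finset.sum_comm]
  have h1 : ∀ i ∈ Finset.range (dOrb K Q (Quotient.mk (orbSetoid K Q) x)),
      ∑ η ∈ Eta Q M p k, θ (((x ^ (Q ^ i)) ^ expoZ Q M k (c + (u : ZMod M) * η) : Kˣ) : K) =
        θ (((x ^ (Q ^ i)) ^ expoZ Q M k c : Kˣ) : K) *
          if (orderOf (x ^ u)).Coprime p then ((Eta Q M p k).card : ℂ) else 0 := by
    intro i hi
    have hu : (x ^ (Q ^ i)) ^ u = (x ^ u) ^ (Q ^ i) := by
      rw [← zpow_natCast, ← zpow_natCast, ← zpow_mul, ← zpow_mul, mul_comm]
    have hw : ((x ^ (Q ^ i)) ^ u) ^ (Q ^ k) = (x ^ (Q ^ i)) ^ u := by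
      rw [← zpow_natCast, ← zpow_mul, mul_comm, zpow_mul, hlev]
    have hxu : (x ^ u) ^ (Q ^ k) = x ^ u := by
      rw [← zpow_natCast, ← zpow_mul, mul_comm, zpow_mul, hxk]
    have h2 := sum_eta (Q := Q) (M := M) (k := k) hθ hp hk hw
    rw [hu, orderOf_pow_Q hxu (hle i hi), ← hu] at h2
    rw [← h2, Finset.mul_sum]
    refine Finset.sum_congr rfl fun η hη => ?_
    rw [pow_expoZ_add (hlev i) hc (torZ_nat u (mem_Eta.1 hη).1), pow_expoZ_nat (hlev i) (mem_Eta.1 hη).1,
      Units.val_mul, map_mul]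
    rw [zpow_pow_comm]
  rw [Finset.sum_congr rfl h1, ← Finset.sum_mul]
  split_ifs
  · rw [mul_comm]
  · rw [mul_zero]

end avg

/-! ### the theorem -/

section main

variable {K : Type*} [Field K] {θ : K →*₀ ℂ} {Q : ℤ} {M : ℕ} {p : ℕ}

/-- `x ^ u` is `p`-regular for all eigenvalues `x` of `lam` -/
def PT (Q : ℤ) (p u : ℕ) (lam : Ty (Orb K Q)) : Prop :=
  ∀ x : Kˣ, lam (Quotient.mk (orbSetoid K Q) x) ≠ 0 → (orderOf (x ^ u)).Coprime p

theorem pt_one {lam : Ty (Orb K Q)} : PT Q p 1 lam ↔ PregT Q p lam := by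
  unfold PT PregT
  simp only [pow_one]

theorem coprime_pow_iff {G : Type*} [Group G] [Finite G] (hp : p.Prime) (x : G) :
    (orderOf (x ^ p)).Coprime p ↔ ¬ p ^ 2 ∣ orderOf x := by
  have hpos := orderOf_pos x
  by_cases h : p ∣ orderOf x
  · obtain ⟨r, hr⟩ := h
    have h1 : orderOf (x ^ p) = r := by
      rw [orderOf_pow_of_dvd hp.ne_zero ⟨r, hr⟩, hr, Nat.mul_div_cancel_left _ hp.pos]
    rw [h1, hr, sq, Nat.mul_dvd_mul_iff_left hp.pos, Nat.coprime_comm, Nat.Prime.coprime_iff_not_dvd hp]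
  · have h1 : (orderOf x).Coprime p := ((Nat.Prime.coprime_iff_not_dvd hp).2 h).symm
    refine ⟨fun _ h2 => h ((dvd_pow_self p two_ne_zero).trans h2), fun _ => ?_⟩
    rw [h1.orderOf_pow]
    exact h1

theorem pt_prime [Finite K] (hp : p.Prime) {lam : Ty (Orb K Q)} : PT Q p p lam ↔
    ∀ x : Kˣ, lam (Quotient.mk (orbSetoid K Q) x) ≠ 0 → ¬ p ^ 2 ∣ orderOf x := by
  unfold PT
  exact forall_congr' fun x => imp_congr_right fun _ => coprime_pow_iff hp x

/-- average over the `p`-characters multiplied by `u` -/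
noncomputable def tauU (Q : ℤ) (M p u : ℕ) [NeZero M] : RS M →ₐ[ℂ] RS M :=
  MvPolynomial.aeval fun v : Var M => ((Eta Q M p v.1).card : ℂ)⁻¹ •
    ∑ η ∈ Eta Q M p v.1, rv Q M v.1 (v.2 + (u : ZMod M) * η)

variable [NeZero M]

theorem tauU_one : tauU Q M p 1 = tauP Q M p := by
  unfold tauU tauP
  simp only [Nat.cast_one, one_mul]

theorem deg_le (d : Orb K Q → ℕ) (lam : Ty (Orb K Q)) (o : Orb K Q) : d o * (lam o).size ≤ tdeg d lam := by
  by_cases h : o ∈ lam.support
  · exact Finset.single_le_sum (f := fun i => d i * (lam i).size) (fun _ _ => Nat.zero_le _) h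
  · have h1 : lam o = 0 := Finsupp.notMem_support_iff.1 h
    rw [h1, Col.size_zero, mul_zero]
    exact Nat.zero_le _

theorem deg_update_le (d : Orb K Q → ℕ) (lam : Ty (Orb K Q)) (o : Orb K Q) {c : Col} (hc : c.size ≤ (lam o).size) :
    tdeg d (lam.update o c) ≤ tdeg d lam := by
  classical
  have h1 : (lam.update o c).support ⊆ insert o lam.support := by
    intro i hi
    rw [Finset.mem_insert]
    by_contra h
    push Not at h
    rw [Finsupp.mem_support_iff, H531.GU.update_ne lam h.1.symm] at hi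
    exact h.2 (Finsupp.mem_support_iff.2 hi)
  rw [H315.GU.tdeg_eq_sum d h1, H315.GU.tdeg_eq_sum d (Finset.subset_insert o lam.support)]
  refine Finset.sum_le_sum fun i _ => Nat.mul_le_mul_left _ ?_
  by_cases hi : i = o
  · rw [hi, H531.GU.update_same]
    exact hc
  · rw [H531.GU.update_ne lam (Ne.symm hi)]

theorem Pop_apply [Finite K] (k : ℕ) (hk : 0 < k) (c : ZMod M) (f : Ty (Orb K Q) → ℂ) (lam : Ty (Orb K Q)) :
    Pop θ Q M k c f lam = ∑ o : Orb K Q, open Classical in if dOrb K Q o ∣ k then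
      thO θ Q M k c o * pp ((Q : ℂ) ^ dOrb K Q o) (k / dOrb K Q o) (fun c' => f (lam.update o c')) (lam o) else 0 := by
  classical
  rw [H531.GU.Pop_eq, LinearMap.sum_apply, Finset.sum_apply]
  refine Finset.sum_congr rfl fun o _ => ?_
  by_cases h : dOrb K Q o ∣ k
  · rw [if_pos ⟨hk, h⟩, if_pos h, LinearMap.smul_apply, Pi.smul_apply, smul_eq_mul, H531.GU.lft_apply]
  · rw [if_neg fun h' => h h'.2, if_neg h]
    rfl

theorem cop_of_mk [Finite K] (hM : Nat.card Kˣ = M) (hQ : IsUnit (Q : ZMod M)) {x y : Kˣ}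
    (h : Quotient.mk (orbSetoid K Q) y = Quotient.mk (orbSetoid K Q) x) {u : ℕ} (hx : (orderOf (x ^ u)).Coprime p) :
    (orderOf (y ^ u)).Coprime p := by
  obtain ⟨i, rfl⟩ := (mk_eq_iff hM hQ).1 h
  refine Nat.Coprime.coprime_dvd_left (orderOf_dvd_of_mem_zpowers (Subgroup.mem_zpowers_iff.2 ⟨Q ^ i, ?_⟩)) hx
  rw [zpow_pow_comm]

/-- the average of the cuspidal operators over the `p`-characters -/
theorem step [Finite K] (hM : Nat.card Kˣ = M) (hQ : IsUnit (Q : ZMod M)) (hθ : Function.Injective θ)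
    (hp : p.Prime) {N : ℕ} (hdvd : ∀ k, 0 < k → k ≤ N → (Q ^ k - 1 : ℤ) ∣ (M : ℤ)) (u : ℕ) {k : ℕ} (hk : 0 < k)
    {c : ZMod M} (hc : TorZ Q M k c) {f g : Ty (Orb K Q) → ℂ}
    (hfg : ∀ lam, tdeg (dOrb K Q) lam ≤ N → f lam = open Classical in if PT Q p u lam then g lam else 0)
    (lam : Ty (Orb K Q)) (hl : tdeg (dOrb K Q) lam ≤ N) :
    ((Eta Q M p k).card : ℂ)⁻¹ * ∑ η ∈ Eta Q M p k, Pop θ Q M k (c + (u : ZMod M) * η) f lam =
      open Classical in if PT Q p u lam then Pop θ Q M k c g lam else 0 := by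
  classical
  have hne : ((Eta Q M p k).card : ℂ) ≠ 0 := Nat.cast_ne_zero.2 (Eta_card_pos k).ne'
  simp only [Pop_apply (θ := θ) (Q := Q) (M := M) k hk]
  rw [Finset.sum_comm, Finset.mul_sum]
  -- the terms with `k` too large vanish
  have hvan : ∀ (o : Orb K Q) (h : Ty (Orb K Q) → ℂ), dOrb K Q o ∣ k → (lam o).size < k / dOrb K Q o →
      pp ((Q : ℂ) ^ dOrb K Q o) (k / dOrb K Q o) (fun c' => h (lam.update o c')) (lam o) = 0 := by
    intro o h _ hlt
    exact Lcl_pp _ _ _ _ fun k' hk' => by omega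
  have hbig : ∀ o : Orb K Q, dOrb K Q o ∣ k → ¬ (lam o).size < k / dOrb K Q o → k ≤ N := by
    intro o ho hlt
    have h1 := deg_le (dOrb K Q) lam o
    have h2 : dOrb K Q o * (k / dOrb K Q o) = k := Nat.mul_div_cancel' ho
    have h3 : dOrb K Q o * (k / dOrb K Q o) ≤ dOrb K Q o * (lam o).size := Nat.mul_le_mul_left _ (not_lt.1 hlt)
    omega
  have hterm : ∀ o : Orb K Q, ((Eta Q M p k).card : ℂ)⁻¹ * ∑ η ∈ Eta Q M p k, (if dOrb K Q o ∣ k then
      thO θ Q M k (c + (u : ZMod M) * η) o *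
        pp ((Q : ℂ) ^ dOrb K Q o) (k / dOrb K Q o) (fun c' => f (lam.update o c')) (lam o) else 0) =
      if PT Q p u lam then (if dOrb K Q o ∣ k then thO θ Q M k c o *
        pp ((Q : ℂ) ^ dOrb K Q o) (k / dOrb K Q o) (fun c' => g (lam.update o c')) (lam o) else 0) else 0 := by
    intro o
    by_cases ho : dOrb K Q o ∣ k
    swap
    · simp only [if_neg ho, Finset.sum_const_zero, mul_zero, ite_self]
    simp only [if_pos ho]
    by_cases hlt : (lam o).size < k / dOrb K Q o
    · simp only [hvan o _ ho hlt, mul_zero, Finset.sum_const_zero, ite_self]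
    have hkN := hbig o ho hlt
    rw [← Finset.sum_mul]
    induction o using Quotient.inductionOn with
    | _ x =>
      rw [sum_thO hM hQ hθ hp hk (hdvd k hk hkN) hc u ho]
      set o : Orb K Q := Quotient.mk (orbSetoid K Q) x with hodef
      have hpos : 0 < k / dOrb K Q o := Nat.div_pos (Nat.le_of_dvd hk ho) (dOrb_pos hM hQ o)
      -- the function `f` near `lam`
      have hf : pp ((Q : ℂ) ^ dOrb K Q o) (k / dOrb K Q o) (fun c' => f (lam.update o c')) (lam o) =
          pp ((Q : ℂ) ^ dOrb K Q o) (k / dOrb K Q o)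
            (fun c' => if PT Q p u (lam.update o c') then g (lam.update o c') else 0) (lam o) :=
        (Lcl_pp _ _).congr fun c' hc' => hfg _ ((deg_update_le _ lam o (by omega)).trans hl)
      by_cases hreg : (orderOf (x ^ u)).Coprime p
      · rw [if_pos hreg, hf]
        by_cases hPT : PT Q p u lam
        · have h1 : ∀ c' : Col, PT Q p u (lam.update o c') := by
            intro c' y hy
            by_cases hyo : Quotient.mk (orbSetoid K Q) y = o
            · exact cop_of_mk hM hQ hyo hreg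
            · rw [H531.GU.update_ne lam (Ne.symm hyo)] at hy
              exact hPT y hy
          simp only [if_pos (h1 _), if_pos hPT]
          rw [← mul_assoc, ← mul_assoc, inv_mul_cancel₀ hne, one_mul]
        · have h1 : ∀ c' : Col, ¬ PT Q p u (lam.update o c') := by
            intro c' h
            apply hPT
            intro y hy
            by_cases hyo : Quotient.mk (orbSetoid K Q) y = o
            · exact cop_of_mk hM hQ hyo hreg
            · exact h y (by rwa [H531.GU.update_ne lam (Ne.symm hyo)])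
          simp only [if_neg (h1 _), if_neg hPT]
          have h2 : pp ((Q : ℂ) ^ dOrb K Q o) (k / dOrb K Q o) (fun _ => 0) (lam o) = 0 :=
            Lcl_pp _ _ _ _ fun _ _ => rfl
          rw [h2, mul_zero, mul_zero]
      · rw [if_neg hreg, zero_mul, mul_zero]
        by_cases hPT : PT Q p u lam
        · have h1 : lam o = 0 := by
            by_contra h
            exact hreg (hPT x h)
          exfalso
          apply hlt
          rw [h1, Col.size_zero]
          exact hpos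
        · rw [if_neg hPT]
  rw [Finset.sum_congr rfl fun o _ => hterm o]
  split_ifs
  · rfl
  · rw [Finset.sum_const_zero]

theorem evR_rv_mul [Finite K] (hM : Nat.card Kˣ = M) (hQ : IsUnit (Q : ZMod M))
    (hmul : ∀ (v : Var M) (x : RS M), evR θ Q M (MvPolynomial.X v * x) = Pop θ Q M v.1 v.2 (evR θ Q M x)) {k : ℕ}
    (hk : 0 < k) {c : ZMod M} (hc : TorZ Q M k c) (x : RS M) :
    evR θ Q M (rv Q M k c * x) = Pop θ Q M k c (evR θ Q M x) := by
  rw [rv, if_pos ⟨hk, hc⟩, hmul, Pop_canon hM hQ hc]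

/-- **R4**, general form. -/
theorem evR_tauU [Finite K] (hM : Nat.card Kˣ = M) (hQ : IsUnit (Q : ZMod M)) (hθ : Function.Injective θ)
    (hp : p.Prime) {N : ℕ} (hdvd : ∀ k, 0 < k → k ≤ N → (Q ^ k - 1 : ℤ) ∣ (M : ℤ))
    (hmul : ∀ (v : Var M) (x : RS M), evR θ Q M (MvPolynomial.X v * x) = Pop θ Q M v.1 v.2 (evR θ Q M x)) (u : ℕ)
    {x : RS M} (hx : x ∈ GenR Q M) (lam : Ty (Orb K Q)) (hl : tdeg (dOrb K Q) lam ≤ N) :
    evR θ Q M (tauU Q M p u x) lam = open Classical in if PT Q p u lam then evR θ Q M x lam else 0 := by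
  classical
  rw [GenR, ← Subalgebra.mem_toSubmodule, Algebra.adjoin_eq_span] at hx
  induction hx using Submodule.span_induction generalizing lam with
  | zero => simp
  | add x y _ _ hx hy =>
    rw [map_add, map_add, map_add, Pi.add_apply, Pi.add_apply, hx lam hl, hy lam hl]
    split_ifs
    · rfl
    · rw [add_zero]
  | smul c x _ hx =>
    rw [map_smul, map_smul, map_smul, Pi.smul_apply, Pi.smul_apply, hx lam hl]
    split_ifs
    · rfl
    · rw [smul_zero]
  | mem x hx =>
    induction hx using Submonoid.closure_induction_left generalizing lam with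
    | one =>
      rw [map_one, evR_one]
      split_ifs with h
      · rfl
      · rw [vac, if_neg]
        rintro rfl
        exact h fun y hy => absurd rfl hy
    | mul_left y hy x _ ih =>
      obtain ⟨⟨k, c⟩, rfl⟩ := hy
      show evR θ Q M (tauU Q M p u (rv Q M k c * x)) lam = if PT Q p u lam then evR θ Q M (rv Q M k c * x) lam else 0
      rw [map_mul]
      by_cases h : 0 < k ∧ TorZ Q M k c
      · have hcan : TorZ Q M k (canon Q M c) := by
          obtain ⟨j, hj⟩ := H614.GLn.RSt.sameZ_canon (Q := Q) c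
          rw [hj]
          exact H614.GLn.RSt.torZ_mul k h.2 j
        have h1 : rv Q M k c = MvPolynomial.X (k, canon Q M c) := by rw [rv, if_pos h]
        have h2 : tauU Q M p u (rv Q M k c) = ((Eta Q M p k).card : ℂ)⁻¹ •
            ∑ η ∈ Eta Q M p k, rv Q M k (canon Q M c + (u : ZMod M) * η) := by
          rw [h1, tauU, MvPolynomial.aeval_X]
        have h3 : evR θ Q M (tauU Q M p u (rv Q M k c) * tauU Q M p u x) lam =
            ((Eta Q M p k).card : ℂ)⁻¹ * ∑ η ∈ Eta Q M p k, Pop θ Q M k (canon Q M c + (u : ZMod M) * η)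
              (evR θ Q M (tauU Q M p u x)) lam := by
          rw [h2, smul_mul_assoc, Finset.sum_mul, map_smul, map_sum, Pi.smul_apply, Finset.sum_apply, smul_eq_mul]
          congr 1
          refine Finset.sum_congr rfl fun η hη => ?_
          rw [evR_rv_mul hM hQ hmul h.1 (torZ_add k hcan (torZ_nat u (mem_Eta.1 hη).1))]
        rw [h3, step hM hQ hθ hp hdvd u h.1 hcan ih lam hl, h1, hmul]
      · have h1 : rv Q M k c = 0 := by rw [rv, if_neg h]
        rw [h1, map_zero, zero_mul, zero_mul, map_zero, Pi.zero_apply, ite_self]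

/-- **R4** -/
theorem evR_tauP [Finite K] (hM : Nat.card Kˣ = M) (hQ : IsUnit (Q : ZMod M)) (hθ : Function.Injective θ)
    (hp : p.Prime) {N : ℕ} (hdvd : ∀ k, 0 < k → k ≤ N → (Q ^ k - 1 : ℤ) ∣ (M : ℤ))
    (hmul : ∀ (v : Var M) (x : RS M), evR θ Q M (MvPolynomial.X v * x) = Pop θ Q M v.1 v.2 (evR θ Q M x))
    {x : RS M} (hx : x ∈ GenR Q M) (lam : Ty (Orb K Q)) (hl : tdeg (dOrb K Q) lam ≤ N) :
    evR θ Q M (tauP Q M p x) lam = open Classical in if PregT Q p lam then evR θ Q M x lam else 0 := by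
  classical
  rw [← tauU_one, evR_tauU hM hQ hθ hp hdvd hmul 1 hx lam hl]
  simp only [pt_one]

/-- the version for the elements whose order is not divisible by `p ^ 2` -/
theorem evR_tau1 [Finite K] (hM : Nat.card Kˣ = M) (hQ : IsUnit (Q : ZMod M)) (hθ : Function.Injective θ)
    (hp : p.Prime) {N : ℕ} (hdvd : ∀ k, 0 < k → k ≤ N → (Q ^ k - 1 : ℤ) ∣ (M : ℤ))
    (hmul : ∀ (v : Var M) (x : RS M), evR θ Q M (MvPolynomial.X v * x) = Pop θ Q M v.1 v.2 (evR θ Q M x))
    {x : RS M} (hx : x ∈ GenR Q M) (lam : Ty (Orb K Q)) (hl : tdeg (dOrb K Q) lam ≤ N) :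
    evR θ Q M (H941.GLn.FamOne.tau1 Q M p x) lam = open Classical in
      if (∀ y : Kˣ, lam (Quotient.mk (orbSetoid K Q) y) ≠ 0 → ¬ p ^ 2 ∣ orderOf y) then evR θ Q M x lam else 0 := by
  classical
  have h1 : H941.GLn.FamOne.tau1 Q M p = tauU Q M p p := rfl
  rw [h1, evR_tauU hM hQ hθ hp hdvd hmul p hx lam hl]
  simp only [pt_prime hp]

end main

end Cfsg.Agent.H501.GU
end

private theorem dce_50a8cf6150c8 : _root_.True := by
  try have : _root_.True := by simp only [_root_.Cfsg.Agent.H603.Weil.am.eq_1]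
  try have : _root_.True := by simp only [_root_.Cfsg.Agent.H531.GU.PSop.eq_1]
  try have : _root_.True := by simp only [_root_.Cfsg.Agent.H501.GU.tauU.congr_simp]
  try have : _root_.True := by simp only [_root_.Cfsg.Agent.H531.GU.orthS.congr_simp]
  try have : _root_.True := by simp only [_root_.Cfsg.Agent.H531.GU.ipt.eq_1]
  try have : _root_.True := by simp only [_root_.Cfsg.Agent.H501.GU.tauU.eq_1]
  try have : _root_.True := by simp only [_root_.Cfsg.Agent.H531.GU.PSop.congr_simp]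
  try have : _root_.True := by simp only [_root_.Cfsg.Agent.H941.GU.dl.eq_1]
  try have : _root_.True := by simp only [_root_.Cfsg.Agent.H615.GU.expoZ.eq_1]
  exact _root_.True.intro
end

-- part: H941/GU/Tow
section
prune_inst 0x4100051003700020000000500f0205e52fe000002004b8808a0020a040e802c4389430e20b230011210a000c4003c8048101000a00000000000000400011901a0888000002040000406001900010001000000000002000000000080000000000000c010000
set_option linter.all false
open scoped Cfsg.Agent.FastGrp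

-- part: H623/GU/Mcol
section
/-!
# S4537: the columns at an eigenvalue of an extension field and at an irreducible polynomial

`mcol A x` (dimensions over `K` of the kernels of `(A - x) ^ j`) is the same as `col A φ` (dimensions over `F` of the
kernels of `φ(A) ^ j`, divided by the degree) for `φ` the minimal polynomial of `x`.
-/

set_option autoImplicit false

open Module Polynomial

namespace Cfsg.Agent.H623.GU

open Cfsg.Agent.H615.GU Cfsg.Agent.H794.GUT Cfsg.Agent.H166.GUC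

universe u v

/-- the kernel of a product of pairwise coprime polynomials -/
theorem finrank_ker_prod_coprime {K : Type u} [Field K] {V : Type v} [AddCommGroup V] [Module K V]
    [FiniteDimensional K V] (T : End K V) {ι : Type*} (s : Finset ι) (g : ι → K[X])
    (hg : (s : Set ι).Pairwise fun i j => IsCoprime (g i) (g j)) :
    finrank K (LinearMap.ker (aeval T (∏ i ∈ s, g i))) = ∑ i ∈ s, finrank K (LinearMap.ker (aeval T (g i))) := by
  classical
  induction s using Finset.induction_on with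
  | empty =>
    rw [Finset.prod_empty, Finset.sum_empty, map_one]
    have h : LinearMap.ker (1 : End K V) = ⊥ := LinearMap.ker_id
    rw [h, finrank_bot]
  | insert a s ha ih =>
    rw [Finset.prod_insert ha, Finset.sum_insert ha]
    have hc : IsCoprime (g a) (∏ i ∈ s, g i) := by
      refine IsCoprime.prod_right fun i hi => hg (by simp) (by simp [hi]) ?_
      rintro rfl
      exact ha hi
    rw [← Polynomial.sup_ker_aeval_eq_ker_aeval_mul_of_coprime T hc,
      ← ih (hg.mono (by rw [Finset.coe_insert]; exact Set.subset_insert _ _))]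
    have h1 := Submodule.finrank_sup_add_finrank_inf_eq (LinearMap.ker (aeval T (g a)))
      (LinearMap.ker (aeval T (∏ i ∈ s, g i)))
    rw [(Polynomial.disjoint_ker_aeval_of_isCoprime T hc).eq_bot, finrank_bot, add_zero] at h1
    exact h1

section ext

variable {F : Type u} [Field F] {K : Type v} [Field K] [Algebra F K] {n : ℕ}

theorem finrank_ker_toLin (A : Matrix (Fin n) (Fin n) K) :
    A.rank + finrank K (LinearMap.ker (Matrix.toLin' A)) = n := by
  have h := rank_pow_add A 1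
  rw [pow_one, pow_one] at h
  exact h

theorem aeval_toLin (A : Matrix (Fin n) (Fin n) K) (f : K[X]) :
    aeval (Matrix.toLin' A) f = Matrix.toLin' (aeval A f) := by
  have h1 := Polynomial.aeval_algHom_apply (Matrix.toLinAlgEquiv' : Matrix (Fin n) (Fin n) K ≃ₐ[K] _).toAlgHom A f
  exact h1

/-- the dimension of the kernel of a polynomial over the small field -/
theorem kd_map (A : Matrix (Fin n) (Fin n) F) (f : F[X]) :
    finrank F (LinearMap.ker (aeval (Matrix.toLin' A) f)) =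
      finrank K (LinearMap.ker (aeval (Matrix.toLin' (A.map (algebraMap F K))) (f.map (algebraMap F K)))) := by
  rw [aeval_toLin, aeval_toLin]
  have h1 := finrank_ker_toLin (aeval A f)
  have h2 := finrank_ker_toLin (aeval (A.map (algebraMap F K)) (f.map (algebraMap F K)))
  have h3 : aeval (A.map (algebraMap F K)) (f.map (algebraMap F K)) = (aeval A f).map (algebraMap F K) := by
    rw [Polynomial.aeval_map_algebraMap]
    have h4 := Polynomial.aeval_algHom_apply ((Algebra.ofId F K).mapMatrix (m := Fin n)) A f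
    exact h4
  rw [h3, rank_map] at h2
  rw [h3]
  omega

/-- the kernels over the large field -/
theorem sum_mcol (A : Matrix (Fin n) (Fin n) F) (x : K) (j : ℕ) :
    ∑ i ∈ Finset.range j, mcol A x i =
      finrank K (LinearMap.ker (aeval (Matrix.toLin' (A.map (algebraMap F K))) ((X - C x) ^ j))) := by
  have h1 : aeval (Matrix.toLin' (A.map (algebraMap F K))) (X - C x : K[X]) =
      Matrix.toLin' (A.map (algebraMap F K) - Matrix.scalar (Fin n) x) := by
    rw [map_sub, aeval_X, aeval_C, map_sub]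
    congr 1
    refine LinearMap.ext fun v => ?_
    rw [Module.algebraMap_end_apply, Matrix.toLin'_apply, Matrix.scalar_apply, ← Matrix.smul_one_eq_diagonal,
      Matrix.smul_mulVec, Matrix.one_mulVec]
  rw [map_pow, h1]
  induction j with
  | zero =>
    rw [Finset.sum_range_zero, pow_zero]
    have h : LinearMap.ker (1 : End K (Fin n → K)) = ⊥ := LinearMap.ker_id
    rw [h, finrank_bot]
  | succ j ih =>
    rw [Finset.sum_range_succ, ih, add_comm]
    exact colOf_add _ j

variable [Finite F] [Finite K]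

/-- the columns at `x` are the columns at the minimal polynomial of `x` -/
theorem mcol_eq_col (A : Matrix (Fin n) (Fin n) F) (x : K) : mcol A x = col (Matrix.toLin' A) (minpoly F x) := by
  classical
  have hfd : FiniteDimensional F K := Module.Finite.of_finite
  have := Fintype.ofFinite F
  have hint : IsIntegral F x := Algebra.IsIntegral.isIntegral x
  have hmon := minpoly.monic hint
  have hirr := minpoly.irreducible hint
  have hsp : ((minpoly F x).map (algebraMap F K)).Splits := Normal.splits' (F := F) (K := K) x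
  have hsep : (minpoly F x).Separable := Algebra.IsSeparable.isSeparable F x
  have hroots := hsp.eq_prod_roots
  rw [(hmon.map (algebraMap F K)).leadingCoeff, map_one, one_mul] at hroots
  have hnd : ((minpoly F x).map (algebraMap F K)).roots.Nodup := nodup_roots (hsep.map)
  set s := ((minpoly F x).map (algebraMap F K)).roots.toFinset with hs
  have hprod : (minpoly F x).map (algebraMap F K) = ∏ y ∈ s, (X - C y) := by
    conv_lhs => rw [hroots]
    rw [hs, Finset.prod_eq_multiset_prod, Multiset.toFinset_val, hnd.dedup]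
  have hcard : s.card = (minpoly F x).natDegree := by
    have h1 := congrArg Polynomial.natDegree hprod
    rw [natDegree_map, natDegree_prod_of_monic _ _ fun y _ => (by exact monic_X_sub_C y)] at h1
    simp only [natDegree_X_sub_C, Finset.sum_const, smul_eq_mul, mul_one] at h1
    exact h1.symm
  have key : ∀ j : ℕ, kd (Matrix.toLin' A) (minpoly F x) j =
      (minpoly F x).natDegree * ∑ i ∈ Finset.range j, mcol A x i := by
    intro j
    rw [kd, kd_map (K := K), Polynomial.map_pow, hprod, ← Finset.prod_pow, finrank_ker_prod_coprime]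
    · rw [← hcard, ← smul_eq_mul, ← Finset.sum_const]
      refine Finset.sum_congr rfl fun y hy => ?_
      rw [← sum_mcol]
      have hy' : aeval y (minpoly F x) = 0 := by
        have h2 := isRoot_of_mem_roots (Multiset.mem_toFinset.1 hy)
        rwa [IsRoot, eval_map_algebraMap] at h2
      obtain ⟨σ, hσ⟩ := minpoly.exists_algEquiv_of_root' (Algebra.IsAlgebraic.isAlgebraic (R := F) x) hy'
      rw [← hσ]
      have h3 : mcol A (σ x) = mcol A x := mcol_map (σ : K →ₐ[F] K) A x
      rw [h3]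
    · intro y _ y' _ hyy
      exact IsCoprime.pow (Polynomial.isCoprime_X_sub_C_of_isUnit_sub (sub_ne_zero.2 hyy).isUnit)
  ext j
  rw [col_apply _ hmon hirr]
  exact (cf_of_kd hirr key j).symm

end ext

end Cfsg.Agent.H623.GU
end

-- part: H623/GU/TypGL
section
/-!
# S4537: the class data of `GL_n(F)` over the orbits of a finite field `K`

`typeGL` : `TypeData (dOrb K Q) Q (GL (Fin n) F) n` for `Q = |F|` and a finite field `K` in which all polynomials of degree
at most `n` split, with `typ g [x] = mcol g x` (`typeGL_mk`).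
-/

set_option autoImplicit false

open Module Polynomial
open scoped MatrixGroups

namespace Cfsg.Agent.H623.GU

open Cfsg.Agent.H152 Cfsg.Agent.H615.GU Cfsg.Agent.H794.GUT

universe u v w x

/-! ### orbits -/

section orbits

variable {F : Type u} [Field F] [Fintype F] {K : Type w} [Field K] [Finite K] [Algebra F K]

/-- the orbit of `x` -/
abbrev omk (F : Type u) [Field F] [Fintype F] {K : Type w} [Field K] (x : Kˣ) : Orb K (Fintype.card F : ℤ) :=
  Quotient.mk (orbSetoid K (Fintype.card F : ℤ)) x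

theorem omk_eq_iff {x y : Kˣ} : omk F x = omk F y ↔ mp F x = mp F y := by
  have hz : ∀ (x : Kˣ) (i : ℕ), x ^ (((Fintype.card F : ℕ) : ℤ) ^ i) = x ^ (Fintype.card F ^ i) := by
    intro x i
    rw [← Nat.cast_pow, zpow_natCast]
  rw [Quotient.eq]
  constructor
  · rintro ⟨i, j, h⟩
    rw [hz, hz] at h
    rw [← mp_pow x i, h, mp_pow]
  · intro h
    obtain ⟨k, hk⟩ := mp_eq_iff.1 h
    exact ⟨k, 0, by rw [hz, hz, pow_zero, pow_one, hk]⟩

theorem dOrb_mk (x : Kˣ) : dOrb K (Fintype.card F : ℤ) (omk F x) = (mp F x).natDegree := by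
  rw [← ncard_mp (F := F) x, dOrb, ← Nat.card_coe_set_eq]
  exact Nat.card_congr (Equiv.subtypeEquivRight fun y => omk_eq_iff)

theorem omk_out (o : Orb K (Fintype.card F : ℤ)) : omk F o.out = o := Quotient.out_eq o

end orbits

/-! ### the type of an endomorphism -/

section types

variable {F : Type u} [Field F] [Fintype F] {V : Type v} [AddCommGroup V] [Module F V] [FiniteDimensional F V]

/-- the type of an endomorphism -/
noncomputable def tyG (K : Type w) [Field K] [Finite K] [Algebra F K] (T : End F V) : Ty (Orb K (Fintype.card F : ℤ)) :=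
  Finsupp.ofSupportFinite (fun o => col T (mp F (o.out : Kˣ))) (Set.toFinite _)

variable {K : Type w} [Field K] [Finite K] [Algebra F K]

theorem tyG_apply (T : End F V) (o : Orb K (Fintype.card F : ℤ)) : tyG K T o = col T (mp F (o.out : Kˣ)) := rfl

theorem tyG_mk (T : End F V) (x : Kˣ) : tyG K T (omk F x) = col T (mp F x) := by
  rw [tyG_apply, omk_eq_iff.1 (omk_out (omk F x))]

theorem tyG_congr {V' : Type x} [AddCommGroup V'] [Module F V'] [FiniteDimensional F V']
    {T : End F V} {T' : End F V'} (φ : V ≃ₗ[F] V') (hφ : ∀ x, φ (T x) = T' (φ x)) :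
    (tyG K T : Ty (Orb K (Fintype.card F : ℤ))) = tyG K T' := by
  ext1 o
  rw [tyG_apply, tyG_apply, col_congr φ hφ]

/-- all eigenvalues of `T` are units of `K` -/
def KSp (K : Type w) [Field K] [Algebra F K] (T : End F V) : Prop :=
  ∀ φ : F[X], φ.Monic → Irreducible φ → (∀ x : Kˣ, mp F x ≠ φ) → col T φ = 0

theorem KSp.congr {V' : Type x} [AddCommGroup V'] [Module F V'] [FiniteDimensional F V']
    {T : End F V} {T' : End F V'} (φ : V ≃ₗ[F] V') (hφ : ∀ x, φ (T x) = T' (φ x)) (h : KSp K T) : KSp K T' :=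
  fun ψ h1 h2 h3 => by rw [← col_congr φ hφ, h ψ h1 h2 h3]

theorem kSp_of_splits {n : ℕ} (hs : ∀ h : F[X], h.Monic → h.natDegree ≤ n → (h.map (algebraMap F K)).Splits)
    {T : End F V} (hn : finrank F V ≤ n) (hT : Function.Injective T) : KSp K T := by
  intro φ hφ hirr hx
  by_cases hd : φ.natDegree ≤ n
  · have hspl := hs φ hφ hd
    obtain ⟨y, hy⟩ := hspl.exists_eval_eq_zero (by
      rw [degree_map, degree_eq_natDegree hφ.ne_zero]
      exact_mod_cast hirr.natDegree_pos.ne')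
    rw [eval_map_algebraMap] at hy
    by_cases hy0 : y = 0
    · subst hy0
      have h0 : φ.coeff 0 = 0 := by
        rw [← coeff_zero_eq_aeval_zero'] at hy
        exact (algebraMap F K).injective (hy.trans (map_zero _).symm)
      rw [eq_X_of_coeff hφ hirr h0]
      exact col_X hT
    · exact absurd (mp_eq_of_root (x := Units.mk0 y hy0) hφ hirr hy) (hx _)
  · rw [kd_zero_iff T hφ hirr]
    have h1 := kd_eq T hφ hirr 1
    have h2 : kd T φ 1 ≤ finrank F V := Submodule.finrank_le _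
    rw [Finset.sum_range_one] at h1
    rcases Nat.eq_zero_or_pos (cf T φ 0) with h3 | h3
    · rw [h1, h3, mul_zero]
    · have h4 := Nat.le_mul_of_pos_right φ.natDegree h3
      omega

/-- the degree formula -/
theorem tdeg_tyG {T : End F V} (hT : KSp K T) : tdeg (dOrb K (Fintype.card F : ℤ)) (tyG K T) = finrank F V := by
  classical
  have hfK := Fintype.ofFinite K
  obtain ⟨D, p, e, v, hd⟩ := exists_dec T
  have hex : ∀ k, ∃ x : Kˣ, mp F x = p k := by
    intro k
    by_contra hcon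
    push Not at hcon
    have h1 := hT (p k) (hd.monic k) (hd.irr k) hcon
    have h2 := size_col_of_dec hd (hd.monic k) (hd.irr k)
    rw [h1, Col.size_zero] at h2
    have h3 := (Finset.sum_eq_zero_iff.1 h2.symm) k (Finset.mem_univ k)
    rw [if_pos rfl] at h3
    exact (hd.pos k).ne' h3
  choose r hr using hex
  let S : Finset Kˣ := Finset.univ.filter fun y => ∃ k, mp F y = p k
  have hS : ∀ y, y ∈ S ↔ ∃ k, mp F y = p k := fun y => by simp only [S, _root_.Finset.mem_filter, _root_.Finset.mem_univ, _root_.true_and]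
  have hsize : ∀ y : Kˣ, (tyG K T (omk F y)).size = ∑ k, if p k = mp F y then e k else 0 := by
    intro y
    rw [tyG_mk, size_col_of_dec hd (mp_monic y) (mp_irr y)]
  have hne : ∀ y : Kˣ, tyG K T (omk F y) ≠ 0 → y ∈ S := by
    intro y hy
    rw [hS]
    by_contra hcon
    push Not at hcon
    apply hy
    rw [tyG_mk]
    ext j
    rw [col_apply T (mp_monic y) (mp_irr y), cf_of_dec hd (mp_monic y) (mp_irr y), Col.zero_apply,
      Finset.card_eq_zero, Finset.filter_false_of_mem]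
    rintro k - ⟨hk, -⟩
    exact hcon k hk.symm
  have hne' : ∀ y ∈ S, tyG K T (omk F y) ≠ 0 := by
    intro y hy h0
    obtain ⟨k, hk⟩ := (hS y).1 hy
    have h1 := hsize y
    rw [h0, Col.size_zero] at h1
    have h2 := (Finset.sum_eq_zero_iff.1 h1.symm) k (Finset.mem_univ k)
    rw [if_pos hk.symm] at h2
    exact (hd.pos k).ne' h2
  -- first count
  have hA : ∑ y ∈ S, (tyG K T (omk F y)).size = finrank F V := by
    simp_rw [hsize]
    rw [Finset.sum_comm, hd.cyc.finrank_eq (fun i => pow_ne_zero _ (hd.irr i).ne_zero)]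
    refine Finset.sum_congr rfl fun k _ => ?_
    rw [← Finset.sum_filter, Finset.sum_const, smul_eq_mul, (hd.monic k).natDegree_pow, mul_comm]
    congr 1
    have h1 := ncard_mp (F := F) (r k)
    rw [hr] at h1
    rw [← h1, ← Set.ncard_coe_finset]
    congr 1
    ext y
    rw [Finset.coe_filter]
    exact ⟨fun h => h.2.symm, fun h => ⟨(hS y).2 ⟨k, h⟩, Eq.symm h⟩⟩
  -- second count
  rw [← hA, tdeg, Finsupp.sum, ← Finset.sum_fiberwise_of_maps_to (s := S) (t := (tyG K T).support)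
    (g := fun y => omk F y) (fun y hy => Finsupp.mem_support_iff.2 (hne' y hy))]
  refine Finset.sum_congr rfl fun i hi => ?_
  rw [Finset.sum_congr rfl (fun y hy => by rw [(Finset.mem_filter.1 hy).2]), Finset.sum_const, smul_eq_mul]
  congr 1
  rw [dOrb, Nat.card_eq_fintype_card, Fintype.card_subtype]
  congr 1
  ext y
  rw [Finset.mem_filter, Finset.mem_filter]
  refine ⟨fun h => ⟨hne y ?_, h.2⟩, fun h => ⟨Finset.mem_univ _, h.2⟩⟩
  have h2 : omk F y = i := h.2
  rw [h2]
  exact Finsupp.mem_support_iff.1 hi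

end types

/-! ### the number of automorphisms -/

section aut

variable {F : Type u} [Field F] {V : Type v} [AddCommGroup V] [Module F V]

/-- the number of automorphisms commuting with `T` -/
noncomputable def cU (T : End F V) : ℕ := Nat.card {b : End F V // IsUnit b ∧ b * T = T * b}

theorem cU_congr {V' : Type x} [AddCommGroup V'] [Module F V'] {T : End F V} {T' : End F V'} (φ : V ≃ₗ[F] V')
    (hφ : ∀ x, φ (T x) = T' (φ x)) : cU T = cU T' := by
  let Ψ : End F V ≃ₐ[F] End F V' := φ.conjAlgEquiv F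
  have hΨT : Ψ T = T' := by
    refine LinearMap.ext fun y => ?_
    change φ (T (φ.symm y)) = T' y
    rw [hφ, φ.apply_symm_apply]
  refine Nat.card_congr (Ψ.toEquiv.subtypeEquiv fun b => ?_)
  change _ ↔ IsUnit (Ψ b) ∧ Ψ b * T' = T' * Ψ b
  rw [← hΨT, ← map_mul, ← map_mul, Ψ.injective.eq_iff]
  exact and_congr_left fun _ => ⟨fun h => h.map Ψ, fun h => by
    have := h.map Ψ.symm
    rwa [Ψ.symm_apply_apply] at this⟩

theorem isUnit_prodMap {V' : Type x} [AddCommGroup V'] [Module F V'] {b : End F V} {b' : End F V'} :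
    IsUnit (b.prodMap b' : End F (V × V')) ↔ IsUnit b ∧ IsUnit b' := by
  rw [Module.End.isUnit_iff, Module.End.isUnit_iff, Module.End.isUnit_iff]
  exact Prod.map_bijective

/-- coprime operators -/
theorem cU_prod {V' : Type x} [AddCommGroup V'] [Module F V'] {T : End F V} {T' : End F V'}
    {P P' : F[X]} (hP : aeval T P = 0) (hP' : aeval T' P' = 0) (hc : IsCoprime P P') :
    cU (T.prodMap T' : End F (V × V')) = cU T * cU T' := by
  rw [cU, cU, cU, ← Nat.card_prod]
  have hcomm : ∀ b : {b : End F (V × V') // IsUnit b ∧ b * T.prodMap T' = T.prodMap T' * b}, ∀ x,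
      b.1 (T x.1, T' x.2) = (T (b.1 x).1, T' (b.1 x).2) := fun b x => LinearMap.congr_fun b.2.2 x
  have h12 : ∀ (b : {b : End F (V × V') // IsUnit b ∧ b * T.prodMap T' = T.prodMap T' * b}) (x : V),
      (b.1 (x, 0)).2 = 0 := by
    intro b x
    have h0 := intertwine_eq_zero hP hP' hc (LinearMap.snd F V V' ∘ₗ b.1 ∘ₗ LinearMap.inl F V V') (fun x => by
      have := congrArg Prod.snd (hcomm b (x, 0))
      simpa using this)
    exact LinearMap.congr_fun h0 x
  have h21 : ∀ (b : {b : End F (V × V') // IsUnit b ∧ b * T.prodMap T' = T.prodMap T' * b}) (x : V'),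
      (b.1 (0, x)).1 = 0 := by
    intro b x
    have h0 := intertwine_eq_zero hP' hP hc.symm (LinearMap.fst F V V' ∘ₗ b.1 ∘ₗ LinearMap.inr F V V') (fun x => by
      have := congrArg Prod.fst (hcomm b (0, x))
      simpa only [_root_.LinearMap.coe_comp, _root_.LinearMap.coe_fst, _root_.LinearMap.coe_inr, _root_.Function.comp_apply, _root_.map_zero] using this)
    exact LinearMap.congr_fun h0 x
  have hdec : ∀ b : {b : End F (V × V') // IsUnit b ∧ b * T.prodMap T' = T.prodMap T' * b},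
      (LinearMap.fst F V V' ∘ₗ b.1 ∘ₗ LinearMap.inl F V V').prodMap (LinearMap.snd F V V' ∘ₗ b.1 ∘ₗ LinearMap.inr F V V') =
        b.1 := by
    intro b
    refine LinearMap.ext fun x => ?_
    have hx : x = (x.1, 0) + (0, x.2) := by simp
    have e1 : b.1 x = b.1 (x.1, 0) + b.1 (0, x.2) := by rw [← map_add, ← hx]
    refine Prod.ext ?_ ?_
    · have := congrArg Prod.fst e1
      rw [Prod.fst_add, h21, add_zero] at this
      exact this.symm
    · have := congrArg Prod.snd e1
      rw [Prod.snd_add, h12, zero_add] at this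
      exact this.symm
  have hu : ∀ b : {b : End F (V × V') // IsUnit b ∧ b * T.prodMap T' = T.prodMap T' * b},
      IsUnit (LinearMap.fst F V V' ∘ₗ b.1 ∘ₗ LinearMap.inl F V V' : End F V) ∧
        IsUnit (LinearMap.snd F V V' ∘ₗ b.1 ∘ₗ LinearMap.inr F V V' : End F V') := by
    intro b
    rw [← isUnit_prodMap, hdec]
    exact b.2.1
  refine Nat.card_congr
    { toFun := fun b => (⟨LinearMap.fst F V V' ∘ₗ b.1 ∘ₗ LinearMap.inl F V V', (hu b).1, ?_⟩,
        ⟨LinearMap.snd F V V' ∘ₗ b.1 ∘ₗ LinearMap.inr F V V', (hu b).2, ?_⟩)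
      invFun := fun c => ⟨c.1.1.prodMap c.2.1, isUnit_prodMap.2 ⟨c.1.2.1, c.2.2.1⟩, ?_⟩
      left_inv := fun b => Subtype.ext (hdec b)
      right_inv := fun c => ?_ }
  · ext x
    have := congrArg Prod.fst (hcomm b (x, 0))
    simpa only [_root_.Module.End.mul_apply, _root_.LinearMap.coe_comp, _root_.LinearMap.coe_fst, _root_.LinearMap.coe_inl, _root_.Function.comp_apply, _root_.map_zero] using this
  · ext x
    have := congrArg Prod.snd (hcomm b (0, x))
    simpa only [_root_.Module.End.mul_apply, _root_.LinearMap.coe_comp, _root_.LinearMap.coe_snd, _root_.LinearMap.coe_inr, _root_.Function.comp_apply, _root_.map_zero] using this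
  · have e1 := c.1.2.2
    have e2 := c.2.2.2
    refine LinearMap.ext fun x => Prod.ext ?_ ?_
    · exact LinearMap.congr_fun e1 x.1
    · exact LinearMap.congr_fun e2 x.2
  · refine Prod.ext (Subtype.ext (LinearMap.ext fun x => ?_)) (Subtype.ext (LinearMap.ext fun x => ?_))
    · rfl
    · rfl

end aut

/-! ### realisation of all types -/

section real

variable {F : Type u} [Field F] [Fintype F] {K : Type w} [Field K] [Finite K] [Algebra F K]

/-- a type is realised by a matrix with centraliser of the right order -/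
def RealG (lam : Ty (Orb K (Fintype.card F : ℤ))) : Prop :=
  ∃ (n : ℕ) (A : Matrix (Fin n) (Fin n) F), KSp K (Matrix.toLin' A) ∧ tyG K (Matrix.toLin' A) = lam ∧
    (cU (Matrix.toLin' A) : ℂ) = Ag (dOrb K (Fintype.card F : ℤ)) (Fintype.card F : ℤ) lam

theorem realG_of {V : Type v} [AddCommGroup V] [Module F V] [FiniteDimensional F V] {T : End F V} (hT : KSp K T)
    {lam : Ty (Orb K (Fintype.card F : ℤ))} (hlam : tyG K T = lam)
    (hcard : (cU T : ℂ) = Ag (dOrb K (Fintype.card F : ℤ)) (Fintype.card F : ℤ) lam) : RealG lam := by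
  let φ : V ≃ₗ[F] (Fin (finrank F V) → F) := LinearEquiv.ofFinrankEq _ _ (by rw [finrank_fin_fun])
  have hφ : ∀ x, φ (T x) = Matrix.toLin' (LinearMap.toMatrix' (φ.toLinearMap ∘ₗ T ∘ₗ φ.symm.toLinearMap)) (φ x) := by
    intro x
    rw [Matrix.toLin'_toMatrix']
    change φ (T x) = φ (T (φ.symm (φ x)))
    rw [φ.symm_apply_apply]
  exact ⟨_, _, hT.congr φ hφ, by rw [← tyG_congr φ hφ, hlam], by rw [← cU_congr φ hφ, hcard]⟩

/-- realisation of the types with one orbit -/
theorem existsG_single (o : Orb K (Fintype.card F : ℤ)) {l : Col} (hl : l ≠ 0) :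
    RealG (F := F) (Finsupp.single o l) := by
  classical
  obtain ⟨x, hx⟩ : ∃ x : Kˣ, omk F x = o := ⟨_, omk_out o⟩
  have hint := mp_int (F := F) x
  have hfd : FiniteDimensional F (IntermediateField.adjoin F {(x : K)}) := IntermediateField.adjoin.finiteDimensional hint
  have hKft : Fintype (IntermediateField.adjoin F {(x : K)}) := Fintype.ofFinite _
  have hcardK : Fintype.card (IntermediateField.adjoin F {(x : K)}) = Fintype.card F ^ (mp F x).natDegree := by
    rw [Module.card_eq_pow_finrank (K := F), IntermediateField.adjoin.finrank hint]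
    rfl
  have hfinK : finrank F (IntermediateField.adjoin F {(x : K)}) = (mp F x).natDegree :=
    IntermediateField.adjoin.finrank hint
  have hmin : minpoly F (IntermediateField.AdjoinSimple.gen F (x : K)) = mp F x := IntermediateField.minpoly_gen F (x : K)
  have hgen : Algebra.adjoin F {IntermediateField.AdjoinSimple.gen F (x : K)} = ⊤ := by
    have h1 := (IntermediateField.adjoin.powerBasis hint).adjoin_gen_eq_top
    rwa [IntermediateField.adjoin.powerBasis_gen] at h1
  have hθ0 : IntermediateField.AdjoinSimple.gen F (x : K) ≠ 0 := by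
    intro h0
    have h1 := congrArg (algebraMap (IntermediateField.adjoin F {(x : K)}) K) h0
    rw [IntermediateField.AdjoinSimple.algebraMap_gen, map_zero] at h1
    exact x.ne_zero h1
  have hod : dOrb K (Fintype.card F : ℤ) o = (mp F x).natDegree := by rw [← hx, dOrb_mk]
  obtain ⟨t, b, hb, hl'⟩ := exists_blocks l
  obtain ⟨m, hm, e, bas, hbas⟩ := exists_jordan (IntermediateField.adjoin F {(x : K)}) b
  set J := Matrix.reindex e e (Cfsg.jordanTypeMatrix b (IntermediateField.adjoin F {(x : K)})) with hJ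
  have hnil : (Matrix.toLin' J - 1) ^ (Finset.univ.sup b) = 0 :=
    nilp_jb hbas (fun k => Finset.le_sup (Finset.mem_univ k))
  obtain ⟨N, hN⟩ := exists_pow_theta hnil (IntermediateField.AdjoinSimple.gen F (x : K))
  have hcol := fun φ hφ hirr => col_theta hl' hθ0 (by rw [hfinK, hmin]) hbas (φ := φ) hφ hirr
  refine realG_of (T := ((IntermediateField.AdjoinSimple.gen F (x : K) • Matrix.toLin' J :
    End (IntermediateField.adjoin F {(x : K)}) (Fin m → IntermediateField.adjoin F {(x : K)})).restrictScalars F)) ?_ ?_ ?_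
  · intro φ hφ hirr h
    rw [hcol φ hφ hirr, if_neg]
    rw [hmin]
    exact fun h1 => h x h1.symm
  · ext1 o'
    rw [tyG_apply, hcol _ (mp_monic _) (mp_irr _), hmin]
    by_cases ho : o' = o
    · subst ho
      rw [Finsupp.single_eq_same, if_pos]
      rw [← omk_eq_iff, omk_out, hx]
    · rw [Finsupp.single_eq_of_ne ho, if_neg]
      rw [← omk_eq_iff, omk_out, hx]
      exact ho
  · rw [cU, card_units_restrict hgen hN, Ag_single _ _ _ hl, hod]
    have h1 : Nat.card {B : End (IntermediateField.adjoin F {(x : K)}) (Fin m → IntermediateField.adjoin F {(x : K)}) //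
        IsUnit B ∧ B * (IntermediateField.AdjoinSimple.gen F (x : K) • Matrix.toLin' J) =
          (IntermediateField.AdjoinSimple.gen F (x : K) • Matrix.toLin' J) * B} =
        Nat.card {B : End (IntermediateField.adjoin F {(x : K)}) (Fin m → IntermediateField.adjoin F {(x : K)}) //
        IsUnit B ∧ B * Matrix.toLin' J = Matrix.toLin' J * B} := by
      refine Nat.card_congr (Equiv.subtypeEquivRight fun B => ?_)
      rw [mul_smul_comm, smul_mul_assoc]
      exact and_congr_right fun _ => ⟨fun h => smul_right_injective _ hθ0 h, fun h => by rw [h]⟩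
    rw [h1, hJ, card_gl hb hl' e, hcardK]
    push_cast
    rfl

theorem realG_zero : RealG (F := F) (0 : Ty (Orb K (Fintype.card F : ℤ))) := by
  refine realG_of (V := Fin 0 → F) (T := 0) ?_ ?_ ?_
  · intro φ hφ hirr _
    rw [kd_zero_iff _ hφ hirr, kd]
    exact finrank_zero_of_subsingleton
  · ext1 i
    rw [tyG_apply, Finsupp.coe_zero, Pi.zero_apply, kd_zero_iff _ (mp_monic _) (mp_irr _), kd]
    exact finrank_zero_of_subsingleton
  · rw [Ag, Finsupp.support_zero, Finset.prod_empty, cU]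
    have : Unique {b : End F (Fin 0 → F) // IsUnit b ∧ b * 0 = 0 * b} :=
      { default := ⟨1, isUnit_one, by simp⟩
        uniq := fun a => Subtype.ext (Subsingleton.elim _ _) }
    rw [Nat.card_unique]
    norm_num

seal _root_.Finset.sum _root_.Finset.range _root_.Finsupp.sum _root_.Finset.prod _root_.Finset.filter in
theorem realG_add {i : Orb K (Fintype.card F : ℤ)} {lam : Ty (Orb K (Fintype.card F : ℤ))} (hi : lam i ≠ 0)
    (h2 : RealG (F := F) (lam.erase i)) : RealG (F := F) lam := by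
  classical
  obtain ⟨n, A, hA, hAt, hAc⟩ := existsG_single (F := F) i hi
  obtain ⟨m, B, hB, hBt, hBc⟩ := h2
  have hcop := exists_coprime (Matrix.toLin' A) (Matrix.toLin' B) (fun φ hφ hirr => by
    by_cases h : ∀ x : Kˣ, mp F x ≠ φ
    · left
      exact hA φ hφ hirr h
    · push Not at h
      obtain ⟨x, rfl⟩ := h
      rw [← tyG_mk, ← tyG_mk, hAt, hBt]
      by_cases hx : omk F x = i
      · right
        rw [hx, Finsupp.erase_same]
      · left
        rw [Finsupp.single_eq_of_ne hx])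
  have hprod : ∀ φ : F[X], φ.Monic → Irreducible φ → ∀ k,
      col ((Matrix.toLin' A).prodMap (Matrix.toLin' B) : End F ((Fin n → F) × (Fin m → F))) φ k =
        col (Matrix.toLin' A) φ k + col (Matrix.toLin' B) φ k := by
    intro φ hφ hirr k
    rw [col_apply _ hφ hirr, cf_prod _ _ hφ hirr, ← col_apply _ hφ hirr, ← col_apply _ hφ hirr]
  refine realG_of (T := (Matrix.toLin' A).prodMap (Matrix.toLin' B)) ?_ ?_ ?_
  · intro φ hφ hirr h
    ext k
    rw [hprod φ hφ hirr, hA φ hφ hirr h, hB φ hφ hirr h]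
    rfl
  · ext1 j
    ext k
    rw [tyG_apply, hprod _ (mp_monic _) (mp_irr _), ← tyG_apply, ← tyG_apply, hAt, hBt]
    by_cases hj : j = i
    · subst hj
      rw [Finsupp.single_eq_same, Finsupp.erase_same, Col.zero_apply, add_zero]
    · rw [Finsupp.single_eq_of_ne hj, Finsupp.erase_ne hj, Col.zero_apply, zero_add]
  · rw [cU_prod (minpoly.aeval _ _) (minpoly.aeval _ _) hcop, Nat.cast_mul, hAc, hBc, Ag_single _ _ _ hi]
    rw [Ag, Ag, ← Finset.mul_prod_erase lam.support _ (Finsupp.mem_support_iff.2 hi), Finsupp.support_erase]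
    congr 1
    refine Finset.prod_congr rfl fun j hj => ?_
    rw [Finsupp.erase_ne (Finset.ne_of_mem_erase hj)]

theorem realG_all (lam : Ty (Orb K (Fintype.card F : ℤ))) : RealG (F := F) lam := by
  classical
  obtain ⟨N, hN⟩ : ∃ N, lam.support.card = N := ⟨_, rfl⟩
  induction N generalizing lam with
  | zero =>
    rw [Finset.card_eq_zero, Finsupp.support_eq_empty] at hN
    rw [hN]
    exact realG_zero
  | succ N ih =>
    obtain ⟨i, hi⟩ := Finset.card_pos.1 (by omega : 0 < lam.support.card)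
    refine realG_add (Finsupp.mem_support_iff.1 hi) (ih _ ?_)
    rw [Finsupp.support_erase, Finset.card_erase_of_mem hi, hN, Nat.add_sub_cancel]

end real

/-! ### the class data -/

section data

variable {F : Type u} [Field F] [Fintype F] {K : Type w} [Field K] [Finite K] [Algebra F K] {n : ℕ}

theorem glG_injective (g : GL (Fin n) F) : Function.Injective (Matrix.toLin' g.1) := by
  intro x y h
  have h1 := congrArg (Matrix.toLin' (g⁻¹).1) h
  rw [← Matrix.toLin'_mul_apply, ← Matrix.toLin'_mul_apply] at h1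
  have h2 : (g⁻¹).1 * g.1 = 1 := by rw [← Units.val_mul, inv_mul_cancel, Units.val_one]
  rw [h2, Matrix.toLin'_one] at h1
  exact h1

theorem kd_nonsplit {n : ℕ} {g g' : GL (Fin n) F} (hg : KSp K (Matrix.toLin' g.1)) (hg' : KSp K (Matrix.toLin' g'.1))
    (h : (tyG K (Matrix.toLin' g.1) : Ty (Orb K (Fintype.card F : ℤ))) = tyG K (Matrix.toLin' g'.1)) : IsConj g g' := by
  refine Cfsg.Agent.H987.Sl.isConj_of_kd' g g' fun φ hφ hirr j => ?_
  have h1 : col (Matrix.toLin' g.1) φ = col (Matrix.toLin' g'.1) φ := by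
    by_cases hx : ∀ x : Kˣ, mp F x ≠ φ
    · rw [hg φ hφ hirr hx, hg' φ hφ hirr hx]
    · push Not at hx
      obtain ⟨x, rfl⟩ := hx
      rw [← tyG_mk, ← tyG_mk, h]
  exact kd_eq_of_col hφ hirr h1 j

theorem tyG_conj (g h : GL (Fin n) F) :
    (tyG K (Matrix.toLin' (h * g * h⁻¹).1) : Ty (Orb K (Fintype.card F : ℤ))) = tyG K (Matrix.toLin' g.1) := by
  have h1 : h.1 * (h⁻¹).1 = 1 := by rw [← Units.val_mul, mul_inv_cancel, Units.val_one]
  have h2 : (h⁻¹).1 * h.1 = 1 := by rw [← Units.val_mul, inv_mul_cancel, Units.val_one]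
  let φ : (Fin n → F) ≃ₗ[F] (Fin n → F) := Matrix.toLin'OfInv h2 h1
  refine (tyG_congr φ fun x => ?_).symm
  change Matrix.toLin' h.1 (Matrix.toLin' g.1 x) =
    Matrix.toLin' (h.1 * g.1 * (h⁻¹).1) (Matrix.toLin' h.1 x)
  rw [← Matrix.toLin'_mul_apply, ← Matrix.toLin'_mul_apply, mul_assoc, h2, mul_one]

theorem card_cent (g : GL (Fin n) F) :
    Nat.card (Subgroup.centralizer ({g} : Set (GL (Fin n) F))) = cU (Matrix.toLin' g.1) := by
  classical
  let Ψ : Matrix (Fin n) (Fin n) F ≃ₐ[F] End F (Fin n → F) := Matrix.toLinAlgEquiv'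
  have hΨ : ∀ A, Ψ A = Matrix.toLin' A := fun A => rfl
  rw [cU]
  refine Nat.card_congr
    { toFun := fun c => ⟨Ψ c.1.1, c.1.isUnit.map Ψ, by
        rw [← hΨ, ← map_mul, ← map_mul]
        have h := Subgroup.mem_centralizer_singleton_iff.1 c.2
        exact congrArg Ψ (congrArg Units.val h)⟩
      invFun := fun B => ⟨(B.2.1.map Ψ.symm).unit, Subgroup.mem_centralizer_singleton_iff.2 (by
        apply Units.ext
        apply Ψ.injective
        change Ψ (Ψ.symm B.1 * g.1) = Ψ (g.1 * Ψ.symm B.1)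
        rw [map_mul, map_mul, Ψ.apply_symm_apply]
        exact B.2.2)⟩
      left_inv := fun c => Subtype.ext (Units.ext (Ψ.symm_apply_apply _))
      right_inv := fun B => Subtype.ext (Ψ.apply_symm_apply _) }

/-- the class data of `GL_n(F)` -/
noncomputable def typeGL (K : Type w) [Field K] [Finite K] [Algebra F K] {n : ℕ}
    (hs : ∀ h : F[X], h.Monic → h.natDegree ≤ n → (h.map (algebraMap F K)).Splits) :
    TypeData (dOrb K (Fintype.card F : ℤ)) (Fintype.card F : ℤ) (GL (Fin n) F) n where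
  typ g := tyG K (Matrix.toLin' g.1)
  conj g h := tyG_conj g h
  deg g := by
    rw [tdeg_tyG (kSp_of_splits hs (by rw [finrank_fin_fun]) (glG_injective g)), finrank_fin_fun]
  sep g g' h := kd_nonsplit (kSp_of_splits hs (by rw [finrank_fin_fun]) (glG_injective g))
    (kSp_of_splits hs (by rw [finrank_fin_fun]) (glG_injective g')) h
  card lam hlam := by
    classical
    obtain ⟨m, A, hA, hAt, hAc⟩ := realG_all (F := F) lam
    have hm : m = n := by
      rw [← hlam, ← hAt, tdeg_tyG hA, finrank_fin_fun]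
    subst hm
    have hunit : IsUnit A := by
      have h1 : LinearMap.ker (Matrix.toLin' A) = ⊥ := by
        have h2 := hA X monic_X irreducible_X (fun x hx => mp_coeff_zero (F := F) x (by rw [hx, coeff_X_zero]))
        rw [kd_zero_iff _ monic_X irreducible_X, kd, pow_one, aeval_X] at h2
        exact Submodule.finrank_eq_zero.1 h2
      have h3 : IsUnit (Matrix.toLin' A) := by
        rw [Module.End.isUnit_iff]
        have h4 := LinearMap.ker_eq_bot.1 h1
        exact ⟨h4, LinearMap.surjective_of_injective h4⟩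
      have h5 := h3.map (Matrix.toLinAlgEquiv' : Matrix (Fin m) (Fin m) F ≃ₐ[F] _).symm
      exact (Matrix.toLinAlgEquiv' : Matrix (Fin m) (Fin m) F ≃ₐ[F] _).symm_apply_apply A ▸ h5
    obtain ⟨g0, hg0⟩ := hunit
    have h1 : Nat.card {g : GL (Fin m) F // tyG K (Matrix.toLin' g.1) = lam} =
        Nat.card {x : GL (Fin m) F // IsConj g0 x} := by
      refine Nat.card_congr (Equiv.subtypeEquivRight fun g => ⟨fun h => ?_, fun h => ?_⟩)
      · exact kd_nonsplit (hg0.symm ▸ hA) (kSp_of_splits hs (by rw [finrank_fin_fun]) (glG_injective g)) (by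
          rw [h]
          exact hg0.symm ▸ hAt)
      · obtain ⟨c, rfl⟩ := isConj_iff.1 h
        rw [tyG_conj]
        exact hg0.symm ▸ hAt
    have h2 := card_class g0
    rw [card_cent] at h2
    have h3 : (cU (Matrix.toLin' g0.1) : ℂ) = Ag (dOrb K (Fintype.card F : ℤ)) (Fintype.card F : ℤ) lam := hg0.symm ▸ hAc
    have hsign : (((Fintype.card F : ℕ) : ℤ)).sign = 1 := Int.sign_natCast_of_ne_zero Fintype.card_ne_zero
    rw [h1, hsign, ← h2]
    push_cast
    rw [h3, one_pow, one_mul]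

theorem typeGL_mk {n : ℕ} (hs : ∀ h : F[X], h.Monic → h.natDegree ≤ n → (h.map (algebraMap F K)).Splits)
    (g : GL (Fin n) F) (x : Kˣ) : (typeGL K hs).typ g (omk F x) = mcol g.1 (x : K) := by
  rw [mcol_eq_col]
  exact tyG_mk _ x

end data

end Cfsg.Agent.H623.GU
end

-- part: H623/GU/WeilGL
section
/-!
# S4537: the Weil kernel of `GL_n(F) × GL_m(F)`

The permutation character on the `n × m` matrices: `|F| ^ tip (typ g) (typ h⁻¹)`.
-/

set_option autoImplicit false

open Module Polynomial Cfsg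
open scoped MatrixGroups

namespace Cfsg.Agent.H623.GU

open Cfsg.Agent.H152 Cfsg.Agent.H615.GU Cfsg.Agent.H794.GUT

universe u v w x

section dims

variable {F : Type u} [Field F] [Fintype F] {K : Type w} [Field K] [Finite K] [Algebra F K]
  {V : Type v} [AddCommGroup V] [Module F V] [FiniteDimensional F V]
  {W : Type x} [AddCommGroup W] [Module F W] [FiniteDimensional F W]

/-- the dimension of the space of intertwiners -/
theorem finrank_HmG {T : End F V} (hT : KSp K T) (S : End F W) :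
    finrank F (Hm T S) = tip (dOrb K (Fintype.card F : ℤ)) (tyG K T) (tyG K S) := by
  classical
  have hfK := Fintype.ofFinite K
  obtain ⟨D, p, e, v, hd⟩ := exists_dec T
  have hex : ∀ k, ∃ x : Kˣ, mp F x = p k := by
    intro k
    by_contra hcon
    push Not at hcon
    have h1 := hT (p k) (hd.monic k) (hd.irr k) hcon
    have h2 := size_col_of_dec hd (hd.monic k) (hd.irr k)
    rw [h1, Col.size_zero] at h2
    have h3 := (Finset.sum_eq_zero_iff.1 h2.symm) k (Finset.mem_univ k)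
    rw [if_pos rfl] at h3
    exact (hd.pos k).ne' h3
  choose r hr using hex
  let P : Finset Kˣ := Finset.univ.filter fun y => ∃ k, mp F y = p k
  have hP : ∀ y, y ∈ P ↔ ∃ k, mp F y = p k := fun y => by simp only [P, _root_.Finset.mem_filter, _root_.Finset.mem_univ, _root_.true_and]
  let A : Fin D → ℕ := fun k => ∑ j ∈ Finset.range (e k), cf S (p k) j
  have hip : ∀ y : Kˣ, (tyG K T (omk F y)).ip (tyG K S (omk F y)) = ∑ k, if p k = mp F y then A k else 0 := by
    intro y
    rw [tyG_mk, tyG_mk, ip_eq _ _ (B := finrank F V) (fun j hj => by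
      rw [col_apply T (mp_monic y) (mp_irr y), cf_eq_zero T (mp_monic y) (mp_irr y) hj])]
    simp_rw [col_apply T (mp_monic y) (mp_irr y), col_apply S (mp_monic y) (mp_irr y),
      cf_of_dec hd (mp_monic y) (mp_irr y), Finset.card_filter, Finset.sum_mul]
    rw [Finset.sum_comm]
    refine Finset.sum_congr rfl fun k _ => ?_
    by_cases hk : p k = mp F y
    · simp only [hk, if_true, true_and, A]
      have h1 : Finset.range (e k) = (Finset.range (finrank F V)).filter fun j => j < e k := by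
        ext j
        rw [Finset.mem_filter, Finset.mem_range, Finset.mem_range]
        have := hd.e_le k
        omega
      rw [h1, Finset.sum_filter]
      refine Finset.sum_congr rfl fun j _ => ?_
      split_ifs <;> simp
    · simp [hk]
  have hne : ∀ y : Kˣ, tyG K T (omk F y) ≠ 0 → y ∈ P := by
    intro y hy
    rw [hP]
    by_contra hcon
    push Not at hcon
    apply hy
    rw [tyG_mk]
    ext j
    rw [col_apply T (mp_monic y) (mp_irr y), cf_of_dec hd (mp_monic y) (mp_irr y), Col.zero_apply,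
      Finset.card_eq_zero, Finset.filter_false_of_mem]
    rintro k - ⟨hk, -⟩
    exact hcon k hk.symm
  have hne' : ∀ y ∈ P, tyG K T (omk F y) ≠ 0 := by
    intro y hy h0
    obtain ⟨k, hk⟩ := (hP y).1 hy
    have h1 := size_col_of_dec hd (mp_monic y) (mp_irr y)
    rw [← tyG_mk, h0, Col.size_zero] at h1
    have h2 := (Finset.sum_eq_zero_iff.1 h1.symm) k (Finset.mem_univ k)
    rw [if_pos hk.symm] at h2
    exact (hd.pos k).ne' h2
  have hA : ∑ y ∈ P, (tyG K T (omk F y)).ip (tyG K S (omk F y)) = finrank F (Hm T S) := by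
    simp_rw [hip]
    rw [Finset.sum_comm, finrank_Hm_of_cyc hd.cyc]
    refine Finset.sum_congr rfl fun k _ => ?_
    change _ = kd S (p k) (e k)
    rw [← Finset.sum_filter, Finset.sum_const, smul_eq_mul, kd_eq S (hd.monic k) (hd.irr k)]
    congr 1
    have h1 := ncard_mp (F := F) (r k)
    rw [hr] at h1
    rw [← h1, ← Set.ncard_coe_finset]
    congr 1
    ext y
    rw [Finset.coe_filter]
    exact ⟨fun h => h.2.symm, fun h => ⟨(hP y).2 ⟨k, h⟩, Eq.symm h⟩⟩
  rw [← hA, tip, Finsupp.sum, ← Finset.sum_fiberwise_of_maps_to (s := P) (t := (tyG K T).support)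
    (g := fun y => omk F y) (fun y hy => Finsupp.mem_support_iff.2 (hne' y hy))]
  refine Finset.sum_congr rfl fun i hi => ?_
  rw [Finset.sum_congr rfl (fun y hy => by rw [(Finset.mem_filter.1 hy).2]), Finset.sum_const, smul_eq_mul]
  congr 1
  rw [dOrb, Nat.card_eq_fintype_card, Fintype.card_subtype]
  congr 1
  ext y
  constructor
  · intro h
    exact Finset.mem_filter.2 ⟨Finset.mem_univ _, (Finset.mem_filter.1 h).2⟩
  · intro h
    have h2 : omk F y = i := (Finset.mem_filter.1 h).2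
    exact Finset.mem_filter.2 ⟨hne y (by rw [h2]; exact Finsupp.mem_support_iff.1 hi), h2⟩

end dims

section weil

variable {F : Type u} [Field F] [Fintype F] {K : Type w} [Field K] [Finite K] [Algebra F K] {n m : ℕ}

theorem tyG_transpose (A : Matrix (Fin n) (Fin n) F) :
    (tyG K (Matrix.toLin' A.transpose) : Ty (Orb K (Fintype.card F : ℤ))) = tyG K (Matrix.toLin' A) := by
  ext1 o
  obtain ⟨x, rfl⟩ : ∃ x : Kˣ, omk F x = o := ⟨_, omk_out o⟩
  rw [tyG_mk, tyG_mk, mp, ← mcol_eq_col, ← mcol_eq_col, mcol, mcol, ← Cfsg.Agent.H166.GUC.colOf_transpose]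
  congr 2
  ext i j
  rw [Matrix.transpose_apply, Matrix.sub_apply, Matrix.sub_apply, Matrix.map_apply, Matrix.map_apply,
    Matrix.transpose_apply, Matrix.scalar_apply]
  congr 1
  by_cases hij : i = j
  · subst hij; rfl
  · rw [Matrix.diagonal_apply_ne _ hij, Matrix.diagonal_apply_ne _ (Ne.symm hij)]

/-- the action on the `n × m` matrices -/
def matAct (F : Type u) [Field F] (n m : ℕ) : MulAction (GL (Fin n) F × GL (Fin m) F) (Matrix (Fin n) (Fin m) F) where
  smul g X := g.1.1 * X * (g.2.1).transpose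
  one_smul X := by
    change (1 : Matrix (Fin n) (Fin n) F) * X * (1 : Matrix (Fin m) (Fin m) F).transpose = X
    rw [Matrix.transpose_one, Matrix.one_mul, Matrix.mul_one]
  mul_smul g h X := by
    change (g.1.1 * h.1.1) * X * (g.2.1 * h.2.1).transpose = g.1.1 * (h.1.1 * X * h.2.1.transpose) * g.2.1.transpose
    rw [Matrix.transpose_mul]
    simp only [Matrix.mul_assoc]

/-- the fixed points -/
theorem card_fix (hn : ∀ h : F[X], h.Monic → h.natDegree ≤ n → (h.map (algebraMap F K)).Splits)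
    (hm : ∀ h : F[X], h.Monic → h.natDegree ≤ m → (h.map (algebraMap F K)).Splits)
    (g : GL (Fin n) F) (h : GL (Fin m) F) :
    Nat.card {X : Matrix (Fin n) (Fin m) F // g.1 * X * (h.1).transpose = X} =
      Fintype.card F ^ tip (dOrb K (Fintype.card F : ℤ)) ((typeGL K hn).typ g) ((typeGL K hm).typ h⁻¹) := by
  classical
  have h1 : h.1 * (h⁻¹).1 = 1 := by rw [← Units.val_mul, mul_inv_cancel, Units.val_one]
  have h1t : (h⁻¹).1.transpose * h.1.transpose = 1 := by rw [← Matrix.transpose_mul, h1, Matrix.transpose_one]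
  have h2t : h.1.transpose * (h⁻¹).1.transpose = 1 := mul_eq_one_comm.1 h1t
  have hk : KSp K (Matrix.toLin' (h⁻¹).1.transpose) := by
    refine kSp_of_splits hm (by rw [finrank_fin_fun]) ?_
    intro x y hxy
    have h3 := congrArg (Matrix.toLin' h.1.transpose) hxy
    rw [← Matrix.toLin'_mul_apply, ← Matrix.toLin'_mul_apply, h2t, Matrix.toLin'_one] at h3
    exact h3
  have h4 := finrank_HmG hk (Matrix.toLin' g.1)
  rw [tyG_transpose, tip_comm] at h4
  change _ = Fintype.card F ^ tip (dOrb K (Fintype.card F : ℤ)) (tyG K (Matrix.toLin' g.1)) (tyG K (Matrix.toLin' (h⁻¹).1))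
  rw [← h4]
  have h5 : Nat.card (Hm (Matrix.toLin' (h⁻¹).1.transpose) (Matrix.toLin' g.1)) =
      Fintype.card F ^ finrank F (Hm (Matrix.toLin' (h⁻¹).1.transpose) (Matrix.toLin' g.1)) := by
    rw [← Nat.card_eq_fintype_card]
    exact Module.natCard_eq_pow_finrank (K := F)
      (V := Hm (Matrix.toLin' (h⁻¹).1.transpose) (Matrix.toLin' g.1))
  rw [← h5]
  refine Nat.card_congr
    { toFun := fun X => ⟨Matrix.toLin' X.1, fun y => ?_⟩
      invFun := fun Y => ⟨LinearMap.toMatrix' Y.1, ?_⟩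
      left_inv := fun X => Subtype.ext (LinearMap.toMatrix'_toLin' _)
      right_inv := fun Y => Subtype.ext (Matrix.toLin'_toMatrix' _) }
  · rw [← Matrix.toLin'_mul_apply, ← Matrix.toLin'_mul_apply]
    have h6 : X.1 * (h⁻¹).1.transpose = g.1 * X.1 := by
      calc X.1 * (h⁻¹).1.transpose = g.1 * X.1 * h.1.transpose * (h⁻¹).1.transpose := by rw [X.2]
        _ = g.1 * X.1 * (h.1.transpose * (h⁻¹).1.transpose) := Matrix.mul_assoc _ _ _
        _ = g.1 * X.1 := by rw [h2t, Matrix.mul_one]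
    rw [h6]
  · have h6 : Y.1 ∘ₗ Matrix.toLin' (h⁻¹).1.transpose = Matrix.toLin' g.1 ∘ₗ Y.1 := LinearMap.ext Y.2
    have h7 := congrArg LinearMap.toMatrix' h6
    rw [LinearMap.toMatrix'_comp, LinearMap.toMatrix'_comp, LinearMap.toMatrix'_toLin', LinearMap.toMatrix'_toLin'] at h7
    rw [← h7, Matrix.mul_assoc, h1t, Matrix.mul_one]

/-- **The Weil kernel of `GL_n × GL_m`.** -/
theorem weil_gl (hn : ∀ h : F[X], h.Monic → h.natDegree ≤ n → (h.map (algebraMap F K)).Splits)
    (hm : ∀ h : F[X], h.Monic → h.natDegree ≤ m → (h.map (algebraMap F K)).Splits) :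
    IsGeneralizedCharacter (GL (Fin n) F × GL (Fin m) F) fun x =>
      (((Fintype.card F : ℤ)).sign : ℂ) ^ (n * m) * ((Fintype.card F : ℤ) : ℂ) ^
        tip (dOrb K (Fintype.card F : ℤ)) ((typeGL K hn).typ x.1) ((typeGL K hm).typ x.2⁻¹) := by
  letI := matAct F n m
  have h1 : IsCharacter (GL (Fin n) F × GL (Fin m) F) fun g =>
      (Nat.card (MulAction.fixedBy (Matrix (Fin n) (Fin m) F) g) : ℂ) :=
    Cfsg.Agent.S0157.isCharacter_fixedBy (Matrix (Fin n) (Fin m) F)
  have hsign : (((Fintype.card F : ℕ) : ℤ)).sign = 1 := Int.sign_natCast_of_ne_zero Fintype.card_ne_zero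
  have h2 : (fun x : GL (Fin n) F × GL (Fin m) F => (((Fintype.card F : ℤ)).sign : ℂ) ^ (n * m) *
      ((Fintype.card F : ℤ) : ℂ) ^
        tip (dOrb K (Fintype.card F : ℤ)) ((typeGL K hn).typ x.1) ((typeGL K hm).typ x.2⁻¹)) = fun g =>
      (Nat.card (MulAction.fixedBy (Matrix (Fin n) (Fin m) F) g) : ℂ) := by
    funext g
    rw [hsign, Int.cast_one, one_pow, one_mul, Int.cast_natCast, ← Nat.cast_pow, ← card_fix hn hm]
    rfl
  rw [h2]
  exact Characters.Brauer.isGeneralizedCharacter_of_isCharacter h1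

end weil

end Cfsg.Agent.H623.GU
end

-- part: H941/GU/Tow
section
/-!
# S4537: the towers of the unitary and of the linear groups (helper941)

* `rzHyp_of` : (R2) and (R4) in group form; `exists_tow` : the tower from the types, the Weil kernels and `mcol`;
* `towU` : the groups `GU_n(q)`, `n ≤ N`; `towG` : the groups `GL_n(F)`, `n ≤ N`;
* `tau1_of`, `tau1_U` : the hypothesis `htau1` of `GB5.Rz.sameBlock_of_fam`.
-/

set_option autoImplicit false
set_option linter.unusedSectionVars false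

open Cfsg
open scoped ComplexConjugate TensorProduct MatrixGroups Polynomial

namespace Cfsg.Agent.H941.GU

open Cfsg.Agent.H577.GLB.Std Cfsg.Agent.H615.GU Cfsg.Agent.H623.GU
open Cfsg.Agent.H112.GLB Cfsg.Agent.H608.BlockRank Cfsg.Agent.H531.GU

universe u v

section gen

variable {K : Type v} [Field K] {θ : K →*₀ ℂ} {Q : ℤ} {M N p : ℕ} [NeZero M]

theorem evR_mul [Finite K] (v : Var M) (x : RS M) :
    H615.GU.evR θ Q M (MvPolynomial.X v * x) = Pop θ Q M v.1 v.2 (H615.GU.evR θ Q M x) :=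
  evR_X_mul θ Q M H521.GU.i2s v x

/-- (R2) and (R4) in group form -/
theorem rzHyp_of (ctx : CtxQ θ Q M N) (hp : p.Prime) {n : ℕ} (hn : n ≤ N) {X : Type u} [Group X] [Finite X]
    (T : TypeData (dOrb K Q) Q X n) (hpr : ∀ g : X, PregT Q p (T.typ g) ↔ ¬ p ∣ orderOf g) : RzHyp θ M p T where
  unit := ctx.unit
  iso := fun x hx y hy => R2 ctx hn T hx hy
  tau := fun x hx => by
    classical
    have := ctx.finK
    funext g
    have h4 := H501.GU.evR_tauP ctx.card ctx.unit ctx.inj hp ctx.dvd evR_mul hx.1 (T.typ g) (by rw [T.deg]; exact hn)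
    rw [omT_apply, h4]
    by_cases h : IsPRegular p g
    · have h1 : pReg p (omT θ M T x) g = omT θ M T x g := if_pos h
      rw [h1, if_pos ((hpr g).2 h), omT_apply]
    · have h1 : pReg p (omT θ M T x) g = 0 := if_neg h
      rw [h1, if_neg (fun h1 => h ((hpr g).1 h1))]

/-- **the tower from the types** -/
theorem exists_tow {F : Type u} [Field F] [Algebra F K] {M' : ℕ} (ctx : CtxQ θ Q M N) (C : H614.GLn.Ctx F θ N M')
    (hp : p.Prime) (hpF : (p : F) ≠ 0) {G : ℕ → Type u} [∀ n, Group (G n)] [∀ n, Finite (G n)]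
    (T : ∀ n, n ≤ N → TypeData (dOrb K Q) Q (G n) n) (ρ : ∀ n, G n →* GL (Fin n) F)
    (hρ : ∀ n, Function.Injective (ρ n))
    (hT : ∀ n (hn : n ≤ N) (g : G n) (y : Kˣ),
      (T n hn).typ g (Quotient.mk (orbSetoid K Q) y) = mcol ((ρ n g : Matrix (Fin n) (Fin n) F)) (y : K))
    (hW : WInt T) : ∃ t : Tow θ Q M N p G, t.T = T := by
  have := ctx.finK
  have := C.finF
  have hpr : ∀ n (hn : n ≤ N) (g : G n), PregT Q p ((T n hn).typ g) ↔ ¬ p ∣ orderOf g := fun n hn g => by
    rw [← H697.GW.preg_iff (K := K) (Q := Q) (lam := (T n hn).typ g) (g := ρ n g)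
      (fun h h1 h2 => C.spl h h1 (h2.trans hn)) hp hpF (hT n hn g), orderOf_injective (ρ n) (hρ n) g,
      Nat.coprime_comm, hp.coprime_iff_not_dvd]
  have h : ∀ n (hn : n ≤ N), RzHyp θ M p (T n hn) := fun n hn => rzHyp_of ctx hp hn (T n hn) (hpr n hn)
  have hdel : ∀ n (hn : n ≤ N), ∃ x ∈ Hom Q M n, omT θ M (T n hn) x 1 ≠ 0 ∧
      ∀ g : G n, g ≠ 1 → omT θ M (T n hn) x g = 0 := fun n hn => by
    obtain ⟨x, hx, h0, h1⟩ := exists_one_typ ctx hn (T n hn)
    exact ⟨x, hx, h1, h0⟩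
  have hE : EInt θ T := eInt_of C ρ hT
  have hb : ∀ (n m : ℕ) (hn : n ≤ N), n ≤ m → (h n hn).rz.Bij m :=
    rz_bij (θ := θ) (Q := Q) (M := M) (N := N) (G := G) (T := T) (p := p) H521.GU.i2s ctx hE hW h hdel
  have hg : ∀ n (hn : n ≤ N), Gr (h n hn).rz := fun n hn => (h n hn).gr H521.GU.i2s
  let t : Tow θ Q M N p G :=
    { T := T
      hyp := h
      gr := hg
      bij := hb
      preg := fun n hn g hg => (hpr n hn g).2 hg }
  exact ⟨t, rfl⟩

end gen

section U

variable {F : Type u} [Field F] [Fintype F] {K : Type v} [Field K] [Algebra F K] {θ : K →*₀ ℂ} {M N q p : ℕ} [NeZero M]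

/-- **the tower of the unitary groups** -/
theorem towU (hF : Fintype.card F = q ^ 2) (ctx : CtxQ θ (-(q : ℤ)) M N) {M' : ℕ} (C : H614.GLn.Ctx F θ N M')
    (hp : p.Prime) (hpF : (p : F) ≠ 0) :
    ∃ t : Tow θ (-(q : ℤ)) M N p (fun n => GU n F q), ∀ n hn, IsTypU q n (t.T n hn) := by
  have := ctx.finK
  have hK : ∀ k, 0 < k → k ≤ N → ((-(q : ℤ)) ^ k - 1) ∣ (Nat.card Kˣ : ℤ) := by
    rw [ctx.card]
    exact ctx.dvd
  have hq : q ≠ 0 := by
    rintro rfl
    rw [zero_pow two_ne_zero] at hF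
    exact Fintype.card_ne_zero hF
  obtain ⟨t, ht⟩ := exists_tow (G := fun n => GU n F q) ctx C hp hpF
    (fun n hn => H794.GUT.typeDataK hF hK n hn) (fun n => (GU n F q).subtype) (fun n => Subtype.val_injective)
    (fun n hn g y => H794.GUT.typeDataK_typ hF hK hn g y)
    (fun n m hn hm => OddOrderCharacters.VChar.gen_of_char (H794.GUT.weilK hF hK hq n m hn hm))
  exact ⟨t, fun n hn g x => by rw [ht]; exact H794.GUT.typeDataK_typ hF hK hn g x⟩

/-- **the tower of the linear groups** -/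
theorem towG (ctx : CtxQ θ (Fintype.card F : ℤ) M N) {M' : ℕ} (C : H614.GLn.Ctx F θ N M')
    (hp : p.Prime) (hpF : (p : F) ≠ 0) :
    ∃ t : Tow θ (Fintype.card F : ℤ) M N p (fun n => GL (Fin n) F), ∀ n hn (A : GL (Fin n) F) (x : Kˣ),
      (t.T n hn).typ A (Quotient.mk (orbSetoid K (Fintype.card F : ℤ)) x) = mcol A.1 (x : K) := by
  have := ctx.finK
  have hs : ∀ n, n ≤ N → ∀ h : F[X], h.Monic → h.natDegree ≤ n → (h.map (algebraMap F K)).Splits :=
    fun n hn h h1 h2 => C.spl h h1 (h2.trans hn)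
  obtain ⟨t, ht⟩ := exists_tow (G := fun n => GL (Fin n) F) ctx C hp hpF
    (fun n hn => typeGL K (hs n hn)) (fun n => MonoidHom.id _) (fun n => Function.injective_id)
    (fun n hn g y => typeGL_mk (hs n hn) g y)
    (fun n m hn hm => weil_gl (hs n hn) (hs m hm))
  exact ⟨t, fun n hn A x => by rw [ht]; exact typeGL_mk (hs n hn) A x⟩

end U

end Cfsg.Agent.H941.GU
end

private theorem dce_df467aa03783 : _root_.True := by
  try have : _root_.True := by simp only [_root_.Cfsg.Agent.H615.GU.mcol.eq_1]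
  try have : _root_.True := by simp only [_root_.Cfsg.Agent.H623.GU.tyG.congr_simp]
  try have : _root_.True := by simp only [_root_.Cfsg.Agent.H623.GU.cU.eq_1]
  exact _root_.True.intro
end

-- part: H614/GU/Fld_mg
section
prune_inst 0x414600500344000000000058401004000180004200000080840000804000120000900000002002004000a00000000000000000080004000000e000000000000000000100400000000020080000100000000000000300000000000000000000004000000000
set_option linter.all false
open scoped Cfsg.Agent.FastGrp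

-- part: H614/GU/Fld
section
/-!
# S4537, F2: fields and contexts

* `ctxQ_of_ctx`, `ctxQ_card` : `CtxQ` from `Ctx`;
* `exists_ctx_dvd` : a context with `p ∣ M`;
* `exists_z` : a `p`-element with `Q`-orbit of size `f = orderOf (Q : ZMod p) * p ^ s`;
* `odd_data`, `even_data` : the extensions of `F`, `|F| = q ^ 2`, `Q = -q`.
-/

set_option autoImplicit false

open Polynomial

namespace Cfsg.Agent.H614.GU

open Cfsg.Agent.H614.GLn Cfsg.Agent.H615.GU Cfsg.Agent.H505.S4536.Ext

universe u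

/-! ### arithmetic -/

section arith

variable {Q : ℤ} {p : ℕ}

theorem dvdZ_iff (n : ℕ) : (p : ℤ) ∣ Q ^ n - 1 ↔ orderOf (Q : ZMod p) ∣ n := by
  rw [orderOf_dvd_iff_pow_eq_one, ← ZMod.intCast_zmod_eq_zero_iff_dvd]
  push_cast
  rw [sub_eq_zero]

theorem orderOfZ_pos (hp : p.Prime) (hu : IsUnit (Q : ZMod p)) : 0 < orderOf (Q : ZMod p) := by
  have : NeZero p := ⟨hp.ne_zero⟩
  obtain ⟨w, hw⟩ := hu
  rw [← hw, orderOf_units]
  exact orderOf_pos w

theorem pow_sub_one_ne_zero (hQ : 2 ≤ |Q|) {n : ℕ} (hn : 0 < n) : Q ^ n - 1 ≠ 0 := by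
  intro h
  have h1 : |Q| ^ n = 1 := by
    rw [← abs_pow, sub_eq_zero.1 h, abs_one]
  have h2 : |Q| ^ 1 ≤ |Q| ^ n := pow_le_pow_right₀ (by omega) hn
  rw [h1, pow_one] at h2
  omega

theorem pow_sub_one_dvd (Q : ℤ) {a b : ℕ} (h : a ∣ b) : Q ^ a - 1 ∣ Q ^ b - 1 := by
  obtain ⟨c, rfl⟩ := h
  rw [pow_mul]
  simpa only [_root_.one_pow] using sub_dvd_pow_sub_pow (Q ^ a) 1 c

theorem arithZ (hQ : 2 ≤ |Q|) (hp : p.Prime) (hu : IsUnit (Q : ZMod p)) (s f' : ℕ)
    (hf' : f' ∣ orderOf (Q : ZMod p) * p ^ s)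
    (h : ((p ^ (padicValInt p (Q ^ (orderOf (Q : ZMod p) * p ^ s) - 1)) : ℕ) : ℤ) ∣ Q ^ f' - 1) :
    f' = orderOf (Q : ZMod p) * p ^ s := by
  have : Fact p.Prime := ⟨hp⟩
  have he := orderOfZ_pos hp hu
  obtain ⟨e, hee⟩ : ∃ e, e = orderOf (Q : ZMod p) := ⟨_, rfl⟩
  rw [← hee] at hf' h he ⊢
  have hf0 : 0 < e * p ^ s := Nat.mul_pos he (Nat.pow_pos hp.pos)
  have hne := pow_sub_one_ne_zero hQ hf0
  have h1 : (p : ℤ) ∣ Q ^ (e * p ^ s) - 1 := by
    rw [dvdZ_iff, ← hee]
    exact dvd_mul_right _ _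
  have ha : 0 < padicValInt p (Q ^ (e * p ^ s) - 1) := by
    rw [padicValInt]
    exact Nat.pos_of_ne_zero ((dvd_iff_padicValNat_ne_zero (Int.natAbs_ne_zero.2 hne)).mp (Int.natCast_dvd.1 h1))
  have h2 : (p : ℤ) ∣ Q ^ f' - 1 := (by
    rw [Nat.cast_pow]; exact dvd_pow_self (p : ℤ) ha.ne' : (p : ℤ) ∣ _).trans h
  rw [dvdZ_iff, ← hee] at h2
  obtain ⟨f'', rfl⟩ := h2
  have h3 : f'' ∣ p ^ s := Nat.dvd_of_mul_dvd_mul_left he hf'
  obtain ⟨i, hi, rfl⟩ := (Nat.dvd_prime_pow hp).mp h3
  rcases Nat.lt_or_ge i s with hlt | hge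
  · exfalso
    obtain ⟨t, rfl⟩ : ∃ t, s = t + 1 := ⟨s - 1, by omega⟩
    have h4 : Q ^ (e * p ^ i) - 1 ∣ Q ^ (e * p ^ t) - 1 :=
      pow_sub_one_dvd Q (Nat.mul_dvd_mul_left _ (pow_dvd_pow p (by omega)))
    have h5 := h.trans h4
    obtain ⟨y, hy⟩ : ∃ y : ℤ, y = Q ^ (e * p ^ t) := ⟨_, rfl⟩
    obtain ⟨a, hae⟩ : ∃ a, a = padicValInt p (Q ^ (e * p ^ (t + 1)) - 1) := ⟨_, rfl⟩
    rw [← hae, ← hy] at h5
    have h6 : ((p : ℤ)) ^ a ∣ y - 1 := by
      rwa [Nat.cast_pow] at h5
    have h8 : (p : ℤ) ∣ ∑ j ∈ Finset.range p, y ^ j := by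
      rw [← ZMod.intCast_zmod_eq_zero_iff_dvd]
      have h9 : (y : ZMod p) = 1 := by
        have h10 : (p : ℤ) ∣ y - 1 := by
          refine (dvd_pow_self (p : ℤ) ?_).trans h6
          rw [hae]
          exact ha.ne'
        have h11 := (ZMod.intCast_zmod_eq_zero_iff_dvd (y - 1) p).mpr h10
        push_cast at h11
        exact sub_eq_zero.mp h11
      push_cast
      rw [h9]
      simp
    have h12 : (p : ℤ) ^ (a + 1) ∣ Q ^ (e * p ^ (t + 1)) - 1 := by
      have h13 : Q ^ (e * p ^ (t + 1)) = y ^ p := by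
        rw [hy, ← pow_mul]
        congr 1
        ring
      rw [h13, ← geom_sum_mul y p, pow_succ, mul_comm]
      exact mul_dvd_mul h8 h6
    have h14 : p ^ (a + 1) ∣ (Q ^ (e * p ^ (t + 1)) - 1).natAbs := by
      rw [← Int.natCast_dvd_natCast, Nat.cast_pow, Int.dvd_natAbs]
      exact h12
    rw [hae, padicValInt] at h14
    exact pow_succ_padicValNat_not_dvd (Int.natAbs_ne_zero.2 hne) h14
  · have : i = s := by omega
    rw [this]

end arith

/-! ### contexts -/

section ctx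

variable {F : Type u} [Field F] {K : Type u} [Field K] [Algebra F K] {θ : K →*₀ ℂ} {N M : ℕ}

theorem isUnit_of_ctx (hctx : Ctx F θ N M) {q a : ℕ} (ha : 0 < a) (hF : Nat.card F = q ^ a) : (q : ℕ).Coprime M := by
  have := hctx.finF
  have := hctx.finK
  have h1 : Nat.card K = Nat.card F ^ Module.finrank F K := Module.natCard_eq_pow_finrank
  have h2 : Nat.card Kˣ = Nat.card K - 1 := Nat.card_units K
  have h3 : 0 < Nat.card K := Nat.card_pos
  have : Module.Finite F K := Module.Finite.of_finite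
  have hr : 0 < Module.finrank F K := Module.finrank_pos
  rw [← hctx.card, h2, h1, hF, ← pow_mul]
  have h4 : 0 < q ^ (a * Module.finrank F K) := by
    rw [pow_mul, ← hF, ← h1]; exact h3
  have h5 : Nat.Coprime (q ^ (a * Module.finrank F K)) (q ^ (a * Module.finrank F K) - 1) := by
    exact (Nat.coprime_self_sub_right (m := 1) (n := q ^ (a * Module.finrank F K)) h4).2 (Nat.coprime_one_right _)
  exact Nat.Coprime.coprime_dvd_left (dvd_pow_self q (Nat.mul_pos ha hr).ne') h5

/-- the context for `GL` -/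
theorem ctxQ_card (hctx : Ctx F θ N M) : CtxQ θ ((Nat.card F : ℕ) : ℤ) M N where
  finK := hctx.finK
  inj := hctx.inj
  card := hctx.card
  dvd k hk hkN := by
    have := hctx.finF
    have h1 : 1 ≤ Nat.card F ^ k := Nat.one_le_pow _ _ Nat.card_pos
    have h2 := Int.natCast_dvd_natCast.2 (hctx.dvd k hk hkN)
    rw [Nat.cast_sub h1] at h2
    push_cast at h2
    exact h2
  unit := by
    have h := isUnit_of_ctx hctx (q := Nat.card F) one_pos (pow_one _).symm
    rw [Int.cast_natCast]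
    exact (ZMod.isUnit_iff_coprime _ _).2 h
  two := by
    have := hctx.finF
    have h1 : 1 < Nat.card F := Finite.one_lt_card
    rw [Nat.abs_cast]
    exact_mod_cast h1

/-- the context for `GU` -/
theorem ctxQ_of_ctx (hctx : Ctx F θ N M) {q : ℕ} (hF : Nat.card F = q ^ 2) : CtxQ θ (-(q : ℤ)) M N where
  finK := hctx.finK
  inj := hctx.inj
  card := hctx.card
  dvd k hk hkN := by
    have h1 := (ctxQ_card hctx).dvd k hk hkN
    refine dvd_trans ?_ h1
    rw [hF]
    push_cast
    rw [← neg_sq ((q : ℤ)), ← pow_mul]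
    exact pow_sub_one_dvd _ (dvd_mul_left _ _)
  unit := by
    have h := isUnit_of_ctx hctx two_pos hF
    rw [Int.cast_neg, Int.cast_natCast]
    exact ((ZMod.isUnit_iff_coprime _ _).2 h).neg
  two := by
    have := hctx.finF
    have h1 : 1 < Nat.card F := Finite.one_lt_card
    rw [hF] at h1
    rw [abs_neg, Nat.abs_cast]
    have h2 : q ≠ 0 := by rintro rfl; simp at h1
    have h3 : q ≠ 1 := by rintro rfl; simp at h1
    have h4 : 2 ≤ q := by omega
    exact_mod_cast h4

end ctx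

/-! ### the element -/

section elt

variable {K : Type u} [Field K] {θ : K →*₀ ℂ} {Q : ℤ} {N M p : ℕ}

theorem pow_Q_iff {z : Kˣ} (i : ℕ) : z ^ (Q ^ i) = z ↔ ((orderOf z : ℕ) : ℤ) ∣ Q ^ i - 1 := by
  rw [orderOf_dvd_iff_zpow_eq_one, zpow_sub, zpow_one, mul_inv_eq_one]

/-- **the `p`-element with orbit of size `f`** -/
theorem exists_z (ctx : CtxQ θ Q M N) (hp : p.Prime) (hu : IsUnit (Q : ZMod p)) (s : ℕ)
    (hN : orderOf (Q : ZMod p) * p ^ s ≤ N) :
    ∃ z : Kˣ, (∃ a : ℕ, orderOf z = p ^ a) ∧ z ≠ 1 ∧ ∀ i : ℕ, z ^ (Q ^ i) = z ↔ orderOf (Q : ZMod p) * p ^ s ∣ i := by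
  have : Fact p.Prime := ⟨hp⟩
  have := ctx.finK
  have he := orderOfZ_pos hp hu
  obtain ⟨f, hf⟩ : ∃ f, f = orderOf (Q : ZMod p) * p ^ s := ⟨_, rfl⟩
  have hf0 : 0 < f := by rw [hf]; exact Nat.mul_pos he (Nat.pow_pos hp.pos)
  have hne := pow_sub_one_ne_zero ctx.two hf0
  obtain ⟨a, ha⟩ : ∃ a, a = padicValInt p (Q ^ f - 1) := ⟨_, rfl⟩
  have hPd : p ^ a ∣ (Q ^ f - 1).natAbs := by
    rw [ha, padicValInt]; exact pow_padicValNat_dvd
  have hPM : p ^ a ∣ Nat.card Kˣ := by
    rw [ctx.card]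
    refine hPd.trans ?_
    have h1 := ctx.dvd f hf0 (by rw [hf]; exact hN)
    exact Int.natCast_dvd_natCast.1 ((Int.natAbs_dvd).2 h1)
  have ha0 : a ≠ 0 := by
    rw [ha, padicValInt]
    refine (dvd_iff_padicValNat_ne_zero (Int.natAbs_ne_zero.2 hne)).mp (Int.natCast_dvd.1 ?_)
    rw [dvdZ_iff, hf]
    exact dvd_mul_right _ _
  obtain ⟨g, hg⟩ := IsCyclic.exists_ofOrder_eq_natCard (α := Kˣ)
  obtain ⟨w, hw⟩ := hPM
  have hw0 : w ≠ 0 := by
    rintro rfl
    rw [mul_zero] at hw
    exact Nat.card_pos.ne' hw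
  have hz : orderOf (g ^ w) = p ^ a := by
    rw [orderOf_pow_of_dvd hw0 (by rw [hg, hw]; exact dvd_mul_left _ _), hg, hw,
      Nat.mul_div_cancel _ (Nat.pos_of_ne_zero hw0)]
  refine ⟨g ^ w, ⟨a, hz⟩, ?_, fun i => ?_⟩
  · intro h1
    rw [h1, orderOf_one] at hz
    exact (Nat.one_lt_pow ha0 hp.one_lt).ne hz
  · rw [pow_Q_iff, hz, ← hf]
    constructor
    · intro h1
      have h2 : ((p ^ a : ℕ) : ℤ) ∣ Q ^ f - 1 := Int.natCast_dvd.2 hPd
      have hg1 : ((p ^ a : ℕ) : ℤ) ∣ Q ^ (Nat.gcd f i) - 1 := by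
        rw [← ZMod.intCast_zmod_eq_zero_iff_dvd] at h1 h2 ⊢
        push_cast at h1 h2 ⊢
        rw [sub_eq_zero] at h1 h2 ⊢
        rw [← orderOf_dvd_iff_pow_eq_one] at h1 h2 ⊢
        exact Nat.dvd_gcd h2 h1
      have h3 := arithZ ctx.two hp hu s (Nat.gcd f i) (by rw [← hf]; exact Nat.gcd_dvd_left f i)
        (by rw [← hf, ← ha]; exact hg1)
      rw [← hf] at h3
      rw [← h3]
      exact Nat.gcd_dvd_right f i
    · intro h1
      exact (Int.natCast_dvd.2 hPd).trans (pow_sub_one_dvd Q h1)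

end elt

/-! ### the extensions -/

section ext

variable {F : Type u} [Field F] {K : Type u} [Field K] [Algebra F K] {θ : K →*₀ ℂ} {N M p q : ℕ}

/-- the elements of the intermediate fields -/
theorem mem_of_pow [Finite K] (E : IntermediateField F K) {x : Kˣ} (h : x ^ (Nat.card E - 1) = 1) : (x : K) ∈ E := by
  have hE : Finite E := Finite.of_injective (fun x : E => (x : K)) Subtype.val_injective
  have hcE := Fintype.ofFinite E
  have hcK := Fintype.ofFinite K
  classical
  -- the units of `E` are the solutions of `x ^ (|E| - 1) = 1`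
  let ι : Eˣ →* Kˣ := Units.map (algebraMap E K : E →* K)
  have hι : Function.Injective ι := Units.map_injective (algebraMap E K).injective
  have h1 : (Finset.univ.image fun y : Eˣ => ι y) ⊆ Finset.univ.filter fun y : Kˣ => y ^ (Nat.card E - 1) = 1 := by
    intro y hy
    rw [Finset.mem_image] at hy
    obtain ⟨w, -, rfl⟩ := hy
    rw [Finset.mem_filter]
    refine ⟨Finset.mem_univ _, ?_⟩
    rw [← map_pow, ← Nat.card_units, pow_card_eq_one', map_one]
  have h2 : (Finset.univ.filter fun y : Kˣ => y ^ (Nat.card E - 1) = 1).card ≤ Nat.card E - 1 := by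
    have hpos : 0 < Nat.card E - 1 := by
      have : 1 < Nat.card E := Finite.one_lt_card
      omega
    exact IsCyclic.card_pow_eq_one_le hpos
  have h3 : (Finset.univ.image fun y : Eˣ => ι y).card = Nat.card E - 1 := by
    rw [Finset.card_image_of_injective _ hι, Finset.card_univ, ← Nat.card_eq_fintype_card, Nat.card_units]
  have h4 := Finset.eq_of_subset_of_card_le h1 (by rw [h3]; exact h2)
  have h5 : x ∈ Finset.univ.image fun y : Eˣ => ι y := by
    rw [h4, Finset.mem_filter]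
    exact ⟨Finset.mem_univ _, h⟩
  rw [Finset.mem_image] at h5
  obtain ⟨w, -, rfl⟩ := h5
  exact (w : E).2

/-- generation: if the period of `z` under `x ↦ x ^ |F|` is the degree of `E` then `z` generates `E` -/
theorem adjoin_eq_top [Finite F] [Finite K] (E : IntermediateField F K) (z : Eˣ)
    (h : ∀ i : ℕ, 0 < i → i ∣ Module.finrank F E →
      (z : E) ^ (Nat.card F ^ i) = z → i = Module.finrank F E) : Algebra.adjoin F {(z : E)} = ⊤ := by
  have hE : Finite E := Finite.of_injective (fun x : E => (x : K)) Subtype.val_injective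
  have : Module.Finite F E := Module.Finite.of_finite
  let L := IntermediateField.adjoin F {((z : Eˣ) : E)}
  have hzL : ((z : Eˣ) : E) ∈ L := IntermediateField.mem_adjoin_simple_self F _
  have hLd : Module.finrank F L ∣ Module.finrank F E := by
    rw [← Module.finrank_mul_finrank F L E]
    exact dvd_mul_right _ _
  have hLfin : Finite L := Finite.of_injective (fun x : L => (x : E)) Subtype.val_injective
  have hpow : (z : E) ^ (Nat.card F ^ (Module.finrank F L)) = z := by
    have := Fintype.ofFinite L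
    have h8 := FiniteField.pow_card (⟨(z : E), hzL⟩ : L)
    rw [← Nat.card_eq_fintype_card, Module.natCard_eq_pow_finrank (K := F) (V := L)] at h8
    exact congrArg (fun x : L => (x : E)) h8
  have h11 := h _ Module.finrank_pos hLd hpow
  have h12 : L = ⊤ := by
    apply IntermediateField.eq_of_le_of_finrank_eq le_top
    rw [h11, IntermediateField.finrank_top']
  have h13 : L.toSubalgebra = Algebra.adjoin F {((z : Eˣ) : E)} :=
    IntermediateField.adjoin_simple_toSubalgebra_of_isAlgebraic (IsAlgebraic.of_finite F _)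
  rw [← h13, h12]
  rfl

theorem exists_field_pos (hctx : Ctx F θ N M) {f : ℕ} (hf : 0 < f) (hfN : f ≤ N) :
    ∃ E : IntermediateField F K, Module.finrank F E = f ∧ Finite E := by
  have := hctx.finK
  obtain ⟨E, hE⟩ := exists_field hctx hf hfN
  exact ⟨E, hE, Finite.of_injective (fun x : E => (x : K)) Subtype.val_injective⟩

/-- an element of the intermediate field as a unit -/
theorem exists_unit [Finite K] (E : IntermediateField F K) {z : Kˣ} (h : (z : K) ∈ E) :
    ∃ w : Eˣ, ((w : E) : K) = z ∧ Units.map (algebraMap E K : E →* K) w = z := by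
  have h0 : (⟨(z : K), h⟩ : E) ≠ 0 := fun h1 => z.ne_zero (congrArg (fun x : E => (x : K)) h1)
  refine ⟨Units.mk0 _ h0, rfl, Units.ext rfl⟩

/-- **F2, odd case** -/
theorem odd_data (hctx : Ctx F θ N M) (hF : Nat.card F = q ^ 2) (hp : p.Prime) (hu : IsUnit ((-(q : ℤ) : ℤ) : ZMod p))
    (s : ℕ) {f : ℕ} (hf : f = orderOf ((-(q : ℤ) : ℤ) : ZMod p) * p ^ s) (hN : f ≤ N) (hodd : Odd f) :
    ∃ (E : IntermediateField F K) (z : Eˣ), Module.finrank F E = f ∧ Finite E ∧ (∃ a : ℕ, orderOf z = p ^ a) ∧ z ≠ 1 ∧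
      Algebra.adjoin F {(z : E)} = ⊤ ∧ z ^ (q ^ f + 1) = 1 ∧
      (∀ i : ℕ, (Units.map (algebraMap E K : E →* K) z) ^ ((-(q : ℤ)) ^ i) = Units.map (algebraMap E K : E →* K) z ↔
        f ∣ i) ∧
      (∀ k, f * k ≤ N → Ctx E θ k M) ∧ ∀ k, f * k ≤ N → CtxQ θ (-((q ^ f : ℕ) : ℤ)) M k := by
  have := hctx.finF
  have := hctx.finK
  have hQ := ctxQ_of_ctx hctx hF
  have hf0 : 0 < f := hodd.pos
  obtain ⟨z₀, ⟨a, ha⟩, hz1, hper⟩ := exists_z hQ hp hu s (by rw [← hf]; exact hN)
  rw [← hf] at hper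
  obtain ⟨E, hE, hEf⟩ := exists_field_pos hctx hf0 hN
  have hcE : Nat.card E = (q ^ f) ^ 2 := by
    rw [Module.natCard_eq_pow_finrank (K := F) (V := E), hE, hF, ← pow_mul, ← pow_mul, mul_comm]
  have hq0 : 0 < q := Nat.pos_of_ne_zero (by
    rintro rfl
    have : 0 < Nat.card F := Nat.card_pos
    rw [hF] at this
    simp at this)
  have hpowf : z₀ ^ (q ^ f + 1) = 1 := by
    have h1 := (hper f).2 dvd_rfl
    rw [hodd.neg_pow] at h1
    have h2 : z₀ ^ (-((q : ℤ) ^ f)) * (z₀ ^ (((q : ℤ) ^ f))) = 1 := by rw [← zpow_add]; simp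
    rw [h1] at h2
    have h3 : z₀ ^ ((q : ℤ) ^ f) = z₀ ^ (q ^ f) := by
      rw [← zpow_natCast]; push_cast; rfl
    rw [h3] at h2
    rw [pow_succ', h2]
  have hmem : (z₀ : K) ∈ E := by
    apply mem_of_pow
    rw [hcE]
    have h1 : (q ^ f) ^ 2 - 1 = (q ^ f + 1) * (q ^ f - 1) := by
      have h2 : 1 ≤ q ^ f := Nat.one_le_pow _ _ hq0
      obtain ⟨w, hw⟩ : ∃ w, q ^ f = w + 1 := ⟨q ^ f - 1, by omega⟩
      rw [hw]
      have : (w + 1) ^ 2 - 1 = (w + 1 + 1) * w := by
        have h3 : (w + 1) ^ 2 = (w + 1 + 1) * w + 1 := by ring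
        omega
      rw [this]
      congr 1
    rw [h1, pow_mul, hpowf, one_pow]
  obtain ⟨z, hz, hz'⟩ := exists_unit E hmem
  have hinj : Function.Injective (Units.map (algebraMap E K : E →* K)) :=
    Units.map_injective (algebraMap E K).injective
  refine ⟨E, z, hE, hEf, ⟨a, ?_⟩, ?_, ?_, ?_, ?_, fun k hk => ctx_ext hctx E (by rwa [hE]), fun k hk =>
    ctxQ_of_ctx (ctx_ext hctx E (k := k) (by rwa [hE])) hcE⟩
  · rw [← orderOf_injective _ hinj, hz', ha]
  · rintro rfl
    rw [map_one] at hz'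
    exact hz1 hz'.symm
  · apply adjoin_eq_top
    intro i hi0 hi h
    rw [hE] at hi ⊢
    have h1 : z₀ ^ ((-(q : ℤ)) ^ (2 * i)) = z₀ := by
      have h2 : (z : E) ^ (Nat.card F ^ i) = z := h
      have h3 : z ^ (Nat.card F ^ i) = z := Units.ext (by push_cast; exact h2)
      have h4 := congrArg (Units.map (algebraMap E K : E →* K)) h3
      rw [map_pow, hz', hF] at h4
      rw [pow_mul, neg_sq]
      have h5 : ((q : ℤ) ^ 2) ^ i = (((q ^ 2) ^ i : ℕ) : ℤ) := by push_cast; rfl
      rw [h5, zpow_natCast]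
      exact h4
    have h6 := (hper _).1 h1
    have h7 : f ∣ i := (Nat.Coprime.dvd_mul_left (Nat.coprime_two_right.2 hodd)).1 h6
    exact Nat.dvd_antisymm hi h7
  · apply hinj
    rw [map_pow, hz', hpowf, map_one]
  · intro i
    rw [hz']
    exact hper i

/-- **F2, even case** -/
theorem even_data (hctx : Ctx F θ N M) (hF : Nat.card F = q ^ 2) (hp : p.Prime) (hu : IsUnit ((-(q : ℤ) : ℤ) : ZMod p))
    (s : ℕ) {g : ℕ} (hf : 2 * g = orderOf ((-(q : ℤ) : ℤ) : ZMod p) * p ^ s) (hN : 2 * g ≤ N) :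
    ∃ (E : IntermediateField F K) (z : Eˣ), Module.finrank F E = g ∧ Finite E ∧ (∃ a : ℕ, orderOf z = p ^ a) ∧ z ≠ 1 ∧
      Algebra.adjoin F {(z : E)} = ⊤ ∧ (∀ i : ℕ, (z⁻¹) ^ q ≠ z ^ ((q ^ 2) ^ i)) ∧
      (∀ i : ℕ, (Units.map (algebraMap E K : E →* K) z) ^ ((-(q : ℤ)) ^ i) = Units.map (algebraMap E K : E →* K) z ↔
        2 * g ∣ i) ∧
      Nat.card E = q ^ (2 * g) ∧ (∀ k, g * k ≤ N → Ctx E θ k M) ∧
      ∀ k, g * k ≤ N → CtxQ θ ((-(q : ℤ)) ^ (2 * g)) M k := by
  have := hctx.finF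
  have := hctx.finK
  have hQ := ctxQ_of_ctx hctx hF
  have hf0 : 0 < 2 * g := by
    rw [hf]; exact Nat.mul_pos (orderOfZ_pos hp hu) (Nat.pow_pos hp.pos)
  have hg0 : 0 < g := by omega
  obtain ⟨z₀, ⟨a, ha⟩, hz1, hper⟩ := exists_z hQ hp hu s (by rw [← hf]; exact hN)
  rw [← hf] at hper
  obtain ⟨E, hE, hEf⟩ := exists_field_pos hctx hg0 (by omega)
  have hcE : Nat.card E = q ^ (2 * g) := by
    rw [Module.natCard_eq_pow_finrank (K := F) (V := E), hE, hF, ← pow_mul]
  have hq0 : 0 < q := Nat.pos_of_ne_zero (by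
    rintro rfl
    have : 0 < Nat.card F := Nat.card_pos
    rw [hF] at this
    simp at this)
  have hpowZ : ∀ i : ℕ, z₀ ^ ((-(q : ℤ)) ^ (2 * i)) = z₀ ^ ((q ^ 2) ^ i) := by
    intro i
    rw [pow_mul, neg_sq]
    have h5 : ((q : ℤ) ^ 2) ^ i = (((q ^ 2) ^ i : ℕ) : ℤ) := by push_cast; rfl
    rw [h5, zpow_natCast]
  have hmem : (z₀ : K) ∈ E := by
    apply mem_of_pow
    rw [hcE]
    have h1 := (hper (2 * g)).2 dvd_rfl
    rw [hpowZ, ← pow_mul] at h1
    have h2 : 1 ≤ q ^ (2 * g) := Nat.one_le_pow _ _ hq0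
    have h3 : z₀ ^ (q ^ (2 * g) - 1) * z₀ = z₀ := by
      rw [← pow_succ, Nat.sub_add_cancel h2]; exact h1
    exact mul_eq_right.1 h3
  obtain ⟨z, hz, hz'⟩ := exists_unit E hmem
  have hinj : Function.Injective (Units.map (algebraMap E K : E →* K)) :=
    Units.map_injective (algebraMap E K).injective
  refine ⟨E, z, hE, hEf, ⟨a, ?_⟩, ?_, ?_, ?_, ?_, hcE, fun k hk => ctx_ext hctx E (by rwa [hE]), fun k hk => ?_⟩
  · rw [← orderOf_injective _ hinj, hz', ha]
  · rintro rfl
    rw [map_one] at hz'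
    exact hz1 hz'.symm
  · apply adjoin_eq_top
    intro i hi0 hi h
    rw [hE] at hi ⊢
    have h1 : z₀ ^ ((-(q : ℤ)) ^ (2 * i)) = z₀ := by
      have h2 : (z : E) ^ (Nat.card F ^ i) = z := h
      have h3 : z ^ (Nat.card F ^ i) = z := Units.ext (by push_cast; exact h2)
      have h4 := congrArg (Units.map (algebraMap E K : E →* K)) h3
      rw [map_pow, hz', hF] at h4
      rw [hpowZ]
      exact h4
    have h6 := (hper _).1 h1
    exact Nat.dvd_antisymm hi (Nat.dvd_of_mul_dvd_mul_left two_pos h6)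
  · intro i h
    have h4 := congrArg (Units.map (algebraMap E K : E →* K)) h
    rw [map_pow, map_pow, map_inv, hz'] at h4
    have h5 : z₀ ^ ((-(q : ℤ)) ^ (2 * i)) = z₀ ^ (-(q : ℤ)) := by
      rw [hpowZ, ← h4, zpow_neg, zpow_natCast, inv_pow]
    have h6 : z₀ ^ ((-(q : ℤ)) ^ (2 * i + 2 * g)) = z₀ ^ ((-(q : ℤ)) ^ (2 * i)) := by
      rw [pow_add, mul_comm, zpow_mul, (hper (2 * g)).2 dvd_rfl]
    have h7 : z₀ ^ ((-(q : ℤ)) ^ (2 * i + 2 * g - 1)) = z₀ := by
      -- `x ↦ x ^ Q` is injective on `Kˣ`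
      have hQc : Function.Injective fun x : Kˣ => x ^ (-(q : ℤ)) := by
        intro x y hxy
        have h8 : (Nat.card Kˣ).Coprime q := by
          rw [hctx.card]; exact (isUnit_of_ctx hctx two_pos hF).symm
        have h9 : x ^ q = y ^ q := by
          have h10 : (x ^ q)⁻¹ = (y ^ q)⁻¹ := by simpa only [_root_.inv_inj, _root_.zpow_neg, _root_.zpow_natCast] using hxy
          exact inv_injective h10
        exact (powCoprime h8).injective h9
      apply hQc
      show (z₀ ^ ((-(q : ℤ)) ^ (2 * i + 2 * g - 1))) ^ (-(q : ℤ)) = z₀ ^ (-(q : ℤ))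
      rw [← zpow_mul, ← pow_succ, Nat.sub_add_cancel (by omega), h6, h5]
    have h8 := (hper _).1 h7
    have h9 : 2 ∣ 2 * i + 2 * g - 1 := (dvd_mul_right 2 g).trans h8
    omega
  · intro i
    rw [hz']
    exact hper i
  · have h1 := ctxQ_card (ctx_ext hctx E (k := k) (by rwa [hE]))
    have h2 : ((Nat.card E : ℕ) : ℤ) = (-(q : ℤ)) ^ (2 * g) := by
      rw [hcE, pow_mul (-(q : ℤ)), neg_sq, ← pow_mul]
      push_cast; rfl
    rwa [h2] at h1

end ext

end Cfsg.Agent.H614.GU
end

-- part: H421/GU/Twist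
section
/-!
# S4537, R5: twists by linear characters in the realization at types (helper421)

* `Dlin θ Q M a` : multiplication by `linT θ Q M a`;
* `Pop_Dlin` : `Pop k (c + a) (Dlin a f) = Dlin a (Pop k c f)`;
* `evR_twist` : `evR (twist Q M a x) lam = linT θ Q M a lam * evR x lam` for `x ∈ GenR Q M`, `TorZ Q M 1 a`.
-/

set_option autoImplicit false
set_option linter.unusedSectionVars false

namespace Cfsg.Agent.H421.GU

open MvPolynomial Cfsg.Agent.H615.GU Cfsg.Agent.H577.GLB.Std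

/-! ### local homogeneity -/

section loc

/-- multiplication by a power of the size -/
noncomputable def Sz (z : ℂ) : Module.End ℂ (Col → ℂ) where
  toFun f l := z ^ l.size * f l
  map_add' _ _ := _root_.funext fun _ => mul_add _ _ _
  map_smul' _ _ := _root_.funext fun _ => mul_left_comm _ _ _

theorem Ul_Sz (t z : ℂ) (j : ℕ) : z ^ j • (Ul t j * Sz z) = Sz z * Ul t j := by
  classical
  refine LinearMap.ext fun f => _root_.funext fun l => ?_
  show z ^ j * (∑ k ∈ (Col.below l).filter fun k => k.size + j = l.size, ev t (Np l k) * (z ^ k.size * f k)) =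
    z ^ l.size * ∑ k ∈ (Col.below l).filter fun k => k.size + j = l.size, ev t (Np l k) * f k
  rw [Finset.mul_sum, Finset.mul_sum]
  refine Finset.sum_congr rfl fun k hk => ?_
  rw [← (Finset.mem_filter.1 hk).2, pow_add]
  ring

theorem nwt_Sz {h : ℕ → Module.End ℂ (Col → ℂ)} {z : ℂ} (hh : ∀ j, z ^ j • (h j * Sz z) = Sz z * h j) (k : ℕ) :
    z ^ k • (H531.GU.nwt h k * Sz z) = Sz z * H531.GU.nwt h k := by
  induction k using Nat.strong_induction_on with
  | _ k ih =>
    cases k with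
    | zero => rw [H531.GU.nwt_zero, zero_mul, mul_zero, smul_zero]
    | succ k =>
      rw [H531.GU.nwt_succ, sub_mul, mul_sub, smul_sub, smul_mul_assoc, mul_smul_comm, smul_comm, hh, Finset.sum_mul,
        Finset.mul_sum, Finset.smul_sum]
      congr 1
      refine Finset.sum_congr rfl fun i hi => ?_
      rw [Finset.mem_range] at hi
      have h1 := ih i hi
      have h2 := hh (k + 1 - i)
      rw [← mul_assoc, ← h1, smul_mul_assoc, mul_assoc, mul_assoc, ← h2, mul_smul_comm, smul_smul, ← pow_add]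
      congr 2
      omega

theorem Pl_Sz (t z : ℂ) (k : ℕ) : z ^ k • (Pl t k * Sz z) = Sz z * Pl t k := nwt_Sz (Ul_Sz t z) k

theorem Pl_Sz_apply (t z : ℂ) (k : ℕ) (f : Col → ℂ) (l : Col) :
    z ^ k * Pl t k (fun c => z ^ c.size * f c) l = z ^ l.size * Pl t k f l :=
  congrFun (LinearMap.congr_fun (Pl_Sz t z k) f) l

end loc

section glob

variable {K : Type*} [Field K] {θ : K →*₀ ℂ} {Q : ℤ} {M : ℕ}

/-- multiplication by a linear character -/
noncomputable def Dlin (θ : K →*₀ ℂ) (Q : ℤ) (M : ℕ) (a : ZMod M) : Module.End ℂ (Ty (Orb K Q) → ℂ) where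
  toFun f lam := linT θ Q M a lam * f lam
  map_add' _ _ := _root_.funext fun _ => mul_add _ _ _
  map_smul' _ _ := _root_.funext fun _ => mul_left_comm _ _ _

theorem Dlin_apply (a : ZMod M) (f : Ty (Orb K Q) → ℂ) (lam : Ty (Orb K Q)) :
    Dlin θ Q M a f lam = linT θ Q M a lam * f lam := rfl

open Classical in
theorem detT_update [Finite K] (lam : Ty (Orb K Q)) (o : Orb K Q) (c : Col) :
    detT Q (lam.update o c) * nO Q o ^ (lam o).size = detT Q lam * nO Q o ^ c.size := by
  have : Fintype (Orb K Q) := Fintype.ofFinite _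
  have h : ∀ mu : Ty (Orb K Q), detT Q mu =
      nO Q o ^ (mu o).size * ∏ o' ∈ Finset.univ \ {o}, nO Q o' ^ (mu o').size := by
    intro mu
    show ∏ᶠ o', nO Q o' ^ (mu o').size = _
    rw [finprod_eq_prod_of_fintype, Finset.prod_eq_mul_prod_sdiff_singleton_of_mem (Finset.mem_univ o)]
  rw [h, h]
  have h1 : (lam.update o c) o = c := by simp
  have h2 : ∏ o' ∈ Finset.univ \ {o}, nO Q o' ^ ((lam.update o c) o').size =
      ∏ o' ∈ Finset.univ \ {o}, nO Q o' ^ (lam o').size := by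
    refine Finset.prod_congr rfl fun o' ho' => ?_
    have h3 : o' ≠ o := by
      rw [Finset.mem_sdiff, Finset.mem_singleton] at ho'
      exact ho'.2
    rw [Finsupp.coe_update, Function.update_of_ne h3]
  rw [h1, h2, mul_right_comm, mul_right_comm (nO Q o ^ (lam o).size), mul_comm (nO Q o ^ c.size)]

open Classical in
theorem linT_update [Finite K] (a : ZMod M) (lam : Ty (Orb K Q)) (o : Orb K Q) (c : Col) :
    linT θ Q M a (lam.update o c) * θ ((nO Q o ^ expoZ Q M 1 a : Kˣ) : K) ^ (lam o).size =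
      linT θ Q M a lam * θ ((nO Q o ^ expoZ Q M 1 a : Kˣ) : K) ^ c.size := by
  have h := congrArg (fun y : Kˣ => θ ((y ^ expoZ Q M 1 a : Kˣ) : K)) (detT_update lam o c)
  simp only [mul_zpow, Units.val_mul, map_mul] at h
  have h1 : ∀ n : ℕ, θ (((nO Q o ^ n) ^ expoZ Q M 1 a : Kˣ) : K) =
      θ ((nO Q o ^ expoZ Q M 1 a : Kˣ) : K) ^ n := by
    intro n
    rw [← map_pow, ← Units.val_pow_eq_pow_val, ← zpow_natCast, ← zpow_natCast, ← zpow_mul, ← zpow_mul, mul_comm]
  rw [h1, h1] at h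
  rw [linT, linT, th_zpow, th_zpow]
  exact h

theorem th_ne_zero (x : Kˣ) : θ (x : K) ≠ 0 := by
  rw [Ne, map_eq_zero]
  exact x.ne_zero

open Classical in
theorem lft_Dlin [Finite K] (a : ZMod M) (o : Orb K Q) (t : ℂ) (j : ℕ) (f : Ty (Orb K Q) → ℂ)
    (lam : Ty (Orb K Q)) :
    θ ((nO Q o ^ expoZ Q M 1 a : Kˣ) : K) ^ j * lft o (Pl t j) (Dlin θ Q M a f) lam =
      linT θ Q M a lam * lft o (Pl t j) f lam := by
  set z : ℂ := θ ((nO Q o ^ expoZ Q M 1 a : Kˣ) : K) with hz
  have hz0 : z ≠ 0 := th_ne_zero _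
  have hzs : z ^ (lam o).size ≠ 0 := pow_ne_zero _ hz0
  rw [H531.GU.lft_apply, H531.GU.lft_apply]
  have h1 : (fun c => Dlin θ Q M a f (lam.update o c)) =
      (linT θ Q M a lam / z ^ (lam o).size) • fun c : Col => z ^ c.size * f (lam.update o c) := by
    funext c
    have h2 := linT_update (θ := θ) a lam o c
    rw [← hz] at h2
    rw [Dlin_apply, Pi.smul_apply, smul_eq_mul, eq_div_of_mul_eq hzs h2]
    ring
  have h3 := Pl_Sz_apply t z j (fun c => f (lam.update o c)) (lam o)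
  rw [h1, map_smul, Pi.smul_apply, smul_eq_mul, mul_left_comm, h3]
  field_simp

variable [NeZero M]

/-- the twisted cuspidal operators -/
theorem Pop_Dlin [Finite K] (hM : Nat.card Kˣ = M) (hQ : IsUnit (Q : ZMod M)) {a c : ZMod M} {k : ℕ}
    (ha : TorZ Q M 1 a) (hc : TorZ Q M k c) (f : Ty (Orb K Q) → ℂ) :
    Pop θ Q M k (c + a) (Dlin θ Q M a f) = Dlin θ Q M a (Pop θ Q M k c f) := by
  classical
  have : Fintype (Orb K Q) := Fintype.ofFinite _
  unfold Pop
  rw [finsum_eq_sum_of_fintype, finsum_eq_sum_of_fintype, LinearMap.sum_apply, LinearMap.sum_apply, map_sum]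
  refine Finset.sum_congr rfl fun o _ => ?_
  split_ifs with h
  · funext lam
    rw [LinearMap.smul_apply, LinearMap.smul_apply, Dlin_apply, Pi.smul_apply, Pi.smul_apply, smul_eq_mul,
      smul_eq_mul, thO_add_lin hM hQ ha hc h.2, mul_left_comm (linT θ Q M a lam), ← lft_Dlin]
    ring
  · rw [LinearMap.zero_apply, LinearMap.zero_apply, map_zero]

theorem linT_zero (a : ZMod M) : linT θ Q M a 0 = 1 := by
  rw [linT]
  have h1 : detT Q (0 : Ty (Orb K Q)) = 1 := by
    unfold detT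
    simp
  rw [h1, Units.val_one, map_one, one_zpow]

theorem Dlin_vac (a : ZMod M) : Dlin θ Q M a vac = vac := by
  funext lam
  rw [Dlin_apply, vac]
  split_ifs with h
  · rw [h, linT_zero, one_mul]
  · rw [mul_zero]

/-- **R5**: the twist by a linear character. -/
theorem evR_twist [Finite K] (hM : Nat.card Kˣ = M) (hQ : IsUnit (Q : ZMod M))
    (hmul : ∀ (v : Var M) (x : RS M), evR θ Q M (X v * x) = Pop θ Q M v.1 v.2 (evR θ Q M x)) {a : ZMod M}
    (ha : TorZ Q M 1 a) {x : RS M} (hx : x ∈ GenR Q M) (lam : Ty (Orb K Q)) :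
    evR θ Q M (twist Q M a x) lam = linT θ Q M a lam * evR θ Q M x lam := by
  suffices h : evR θ Q M (twist Q M a x) = Dlin θ Q M a (evR θ Q M x) by rw [h, Dlin_apply]
  rw [GenR, ← Subalgebra.mem_toSubmodule, Algebra.adjoin_eq_span] at hx
  induction hx using Submodule.span_induction with
  | zero => simp
  | add x y _ _ hx hy => rw [map_add, map_add, map_add, map_add, hx, hy]
  | smul c x _ hx => rw [map_smul, map_smul, map_smul, map_smul, hx]
  | mem x hx =>
    induction hx using Submonoid.closure_induction_left with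
    | one => rw [map_one, evR_one, Dlin_vac]
    | mul_left y hy x _ ih =>
      obtain ⟨⟨k, c⟩, rfl⟩ := hy
      rw [map_mul]
      show evR θ Q M (twist Q M a (rv Q M k c) * twist Q M a x) = Dlin θ Q M a (evR θ Q M (rv Q M k c * x))
      by_cases h : 0 < k ∧ TorZ Q M k c
      · have hcan : TorZ Q M k (canon Q M c) := by
          obtain ⟨j, hj⟩ := H614.GLn.RSt.sameZ_canon (Q := Q) c
          rw [hj]
          exact H614.GLn.RSt.torZ_mul k h.2 j
        have hca := H614.GLn.RSt.torZ_add k hcan (torZ_of_one ha k)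
        have h1 : rv Q M k c = X (k, canon Q M c) := by rw [rv, if_pos h]
        have h2 : twist Q M a (rv Q M k c) = X (k, canon Q M (canon Q M c + a)) := by
          rw [h1, twist, aeval_X]
          show rv Q M k (canon Q M c + a) = _
          rw [rv, if_pos ⟨h.1, hca⟩]
        rw [h2, h1, hmul, hmul, Pop_canon hM hQ hca, ih, Pop_Dlin hM hQ ha hcan]
      · have h1 : rv Q M k c = 0 := by rw [rv, if_neg h]
        rw [h1, map_zero, zero_mul, zero_mul, map_zero, map_zero]

end glob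

end Cfsg.Agent.H421.GU
end

-- part: H614/GU/Trn
section
/-!
# S4537, F1: from the kernel of the determinant on `GU n F q` to `SU n F q`

* `detU F n q : GU n F q →* Fˣ`, `suS F n q` : its kernel (`suS_normal`, `isCyclic_quot`);
* `suE : SU n F q ≃* suS F n q`;
* `su_of_suS` : transport of the bound `l(B) ≤ p ^ s`.
-/

set_option autoImplicit false

open Cfsg
open scoped MatrixGroups Matrix

namespace Cfsg.Agent.H614.GU

universe u

variable {F : Type u} [Field F] {n q : ℕ}

/-- the determinant on `GU n F q` -/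
noncomputable def detU (F : Type u) [Field F] (n q : ℕ) : Cfsg.GU n F q →* Fˣ :=
  (Matrix.GeneralLinearGroup.det : GL (Fin n) F →* Fˣ).comp (Cfsg.GU n F q).subtype

/-- the kernel of the determinant on `GU n F q` -/
noncomputable def suS (F : Type u) [Field F] (n q : ℕ) : Subgroup (Cfsg.GU n F q) := (detU F n q).ker

theorem mem_suS {x : Cfsg.GU n F q} : x ∈ suS F n q ↔ Matrix.GeneralLinearGroup.det (x : GL (Fin n) F) = 1 := Iff.rfl

instance suS_normal : (suS F n q).Normal := by unfold suS; infer_instance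

theorem mem_suS_of_det {x : Cfsg.GU n F q} (h : ((x : GL (Fin n) F) : Matrix (Fin n) (Fin n) F).det = 1) :
    x ∈ suS F n q := Units.ext h

/-- the quotient is cyclic -/
theorem isCyclic_quot [Finite F] : IsCyclic (Cfsg.GU n F q ⧸ suS F n q) :=
  isCyclic_of_injective (QuotientGroup.kerLift (detU F n q)) (QuotientGroup.kerLift_injective _)

theorem mem_GU_toGL {x : Matrix.SpecialLinearGroup (Fin n) F} :
    (Matrix.SpecialLinearGroup.toGL x : GL (Fin n) F) ∈ Cfsg.GU n F q ↔ x ∈ Cfsg.SU n F q := Iff.rfl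

/-- `SU n F q` is the kernel of the determinant on `GU n F q` -/
noncomputable def suE (F : Type u) [Field F] (n q : ℕ) : Cfsg.SU n F q ≃* suS F n q where
  toFun x := ⟨⟨Matrix.SpecialLinearGroup.toGL (x : Matrix.SpecialLinearGroup (Fin n) F), mem_GU_toGL.2 x.2⟩,
    mem_suS_of_det (x : Matrix.SpecialLinearGroup (Fin n) F).2⟩
  invFun y := ⟨⟨((y : Cfsg.GU n F q) : GL (Fin n) F), congrArg Units.val y.2⟩, fun u v => (y : Cfsg.GU n F q).2 u v⟩
  left_inv x := Subtype.ext (Subtype.ext rfl)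
  right_inv y := Subtype.ext (Subtype.ext (Units.ext rfl))
  map_mul' x y := Subtype.ext (Subtype.ext (by
    show Matrix.SpecialLinearGroup.toGL ((x * y : Cfsg.SU n F q) : Matrix.SpecialLinearGroup (Fin n) F) = _
    rw [Subgroup.coe_mul, map_mul]
    rfl))

/-- **F1**: the bound for the kernel of the determinant gives the bound for `SU n F q` -/
theorem su_of_suS [Finite F] {p : ℕ} {𝔐 : Ideal AlgInt}
    (h : ∀ (B : Set (IrrCharacter (suS F n q))), IsPBlock 𝔐 B → ∀ D : Subgroup (suS F n q), IsDefectGroup p 𝔐 B D →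
      ∀ s : ℕ, SectionalPRankLE p s D → blockRank p B ≤ p ^ s)
    (B : Set (IrrCharacter (Cfsg.SU n F q))) (hB : IsPBlock 𝔐 B)
    (D : Subgroup (Cfsg.SU n F q)) (hD : IsDefectGroup p 𝔐 B D) (s : ℕ)
    (hs : SectionalPRankLE p s D) : blockRank p B ≤ p ^ s :=
  H809.GLB.rank_transport (suE F n q) h B hB D hD s hs

end Cfsg.Agent.H614.GU
end

-- part: H666/GU/Lin
section
/-!
# The labels of the linear characters, abstract version and `GU n F q` (S4537)

* `lnf θ Q M f a : G →* ℂˣ`, `g ↦ θ (f g) ^ expoZ Q M 1 a`;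
* `linData` : `LinData R f.ker` if `f` maps `G` onto `{x | x ^ (Q - 1) = 1}`;
* `fU`, `guLin` : the case of `GU n F q`, `Q = -q`.
-/

set_option autoImplicit false
set_option linter.unusedSectionVars false

open Cfsg
open scoped ComplexConjugate MatrixGroups

namespace Cfsg.Agent.H666.GU

open Cfsg.Agent.H577.GLB Cfsg.Agent.H577.GLB.Std Cfsg.Agent.H614 Cfsg.Agent.H112.GLB
open Cfsg.Agent.H615.GU Cfsg.Agent.H421.GU Cfsg.Agent.H666.Clif

universe u v

section abs

variable {K : Type v} [Field K] {θ : K →*₀ ℂ} {Q : ℤ} {M : ℕ} {N : ℕ}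
variable {G : Type u} [Group G] {f : G →* Kˣ}

/-- the linear character with label `a` -/
noncomputable def lnf (θ : K →*₀ ℂ) (Q : ℤ) (M : ℕ) (f : G →* Kˣ) (a : ZMod M) : G →* ℂˣ :=
  ((Units.map (θ : K →* ℂ)).comp f) ^ (expoZ Q M 1 a)

theorem lnf_apply (a : ZMod M) (g : G) : lnf θ Q M f a g = Units.map (θ : K →* ℂ) (f g ^ expoZ Q M 1 a) := by
  rw [map_zpow]
  rfl

theorem lnf_coe (a : ZMod M) (g : G) : ((lnf θ Q M f a g : ℂˣ) : ℂ) = θ ((f g : Kˣ) : K) ^ expoZ Q M 1 a := by
  rw [lnf_apply, th_zpow]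
  rfl

theorem expoZ_zero [NeZero M] : expoZ Q M 1 (0 : ZMod M) = 0 := by
  simp [expoZ]

variable [NeZero M] (h : CtxQ θ Q M N) (hN : 1 ≤ N) (hf : ∀ g : G, f g ^ (Q - 1) = 1)

include hf in
theorem hf' (g : G) : f g ^ (Q ^ 1) = f g := by
  have h1 := hf g
  rw [zpow_sub, zpow_one, mul_inv_eq_one] at h1
  rw [pow_one]
  exact h1

include hf in
theorem lnf_add {a b : ZMod M} (ha : TorZ Q M 1 a) (hb : TorZ Q M 1 b) :
    lnf θ Q M f (a + b) = lnf θ Q M f a * lnf θ Q M f b := by
  ext g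
  rw [MonoidHom.mul_apply, lnf_apply, lnf_apply, lnf_apply, pow_expoZ_add (hf' hf g) ha hb, map_mul]

theorem lnf_zero : lnf θ Q M f (0 : ZMod M) = 1 := by
  ext g
  rw [lnf_apply, expoZ_zero, zpow_zero, map_one, MonoidHom.one_apply]

theorem torZ_nsmul' {a : ZMod M} (ha : TorZ Q M 1 a) (k : ℕ) : TorZ Q M 1 (k • a) := by
  rw [TorZ] at ha ⊢
  rw [nsmul_eq_mul, mul_left_comm, ha, mul_zero]

include hf in
theorem lnf_nsmul {a : ZMod M} (ha : TorZ Q M 1 a) (k : ℕ) : lnf θ Q M f (k • a) = lnf θ Q M f a ^ k := by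
  induction k with
  | zero => rw [zero_smul, lnf_zero, hom_pow_zero]
  | succ k ih => rw [succ_nsmul, lnf_add hf (torZ_nsmul' ha k) ha, ih, hom_pow_succ]

include h

theorem Q_sub_ne : Q - 1 ≠ 0 := by
  have h2 := h.two
  intro h0
  have h1 : Q = 1 := by omega
  rw [h1] at h2
  norm_num at h2

include hN in
theorem dvd_one : (Q - 1) ∣ (M : ℤ) := by
  have h1 := h.dvd 1 one_pos hN
  rwa [pow_one] at h1

include hN in
/-- a generator of the group of the `x` with `x ^ (Q - 1) = 1` -/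
theorem exists_x0 : ∃ x0 : Kˣ, orderOf x0 = (Q - 1).natAbs ∧ ∀ x : Kˣ, x ^ (Q - 1) = 1 → x ∈ Subgroup.zpowers x0 := by
  have := h.finK
  obtain ⟨g, hg⟩ := IsCyclic.exists_generator (α := Kˣ)
  have ho : orderOf g = M := by rw [orderOf_eq_card_of_forall_mem_zpowers hg, h.card]
  obtain ⟨d, hd⟩ := dvd_one h hN
  have hM0 : M ≠ 0 := NeZero.ne M
  have hr0 : (Q - 1).natAbs ≠ 0 := by
    rw [Int.natAbs_ne_zero]
    exact Q_sub_ne h
  have hMr : M = (Q - 1).natAbs * d.natAbs := by
    rw [← Int.natAbs_mul, ← hd, Int.natAbs_natCast]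
  have hd0 : d.natAbs ≠ 0 := by
    intro h0
    rw [h0, mul_zero] at hMr
    exact hM0 hMr
  refine ⟨g ^ d.natAbs, ?_, ?_⟩
  · rw [orderOf_pow' g hd0, ho]
    rw [Nat.gcd_eq_right ⟨_, by rw [mul_comm]; exact hMr⟩]
    exact Nat.div_eq_of_eq_mul_left (Nat.pos_of_ne_zero hd0) hMr
  · intro x hx
    obtain ⟨i, hi⟩ := Subgroup.mem_zpowers_iff.1 (hg x)
    have h1 : g ^ (i * (Q - 1)) = 1 := by rw [zpow_mul, hi, hx]
    have h2 : ((orderOf g : ℕ) : ℤ) ∣ i * (Q - 1) := orderOf_dvd_iff_zpow_eq_one.2 h1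
    rw [ho, hd, mul_comm] at h2
    have h3 : d ∣ i := by
      obtain ⟨t, ht⟩ := h2
      refine ⟨t, ?_⟩
      have h4 := Q_sub_ne h
      have h5 : i * (Q - 1) = (d * t) * (Q - 1) := by rw [ht]; ring
      exact mul_right_cancel₀ h4 h5
    obtain ⟨t, ht⟩ := h3
    have h4 : ∃ e : ℤ, d = (d.natAbs : ℤ) * e := by
      rcases Int.natAbs_eq d with h5 | h5
      · exact ⟨1, by omega⟩
      · exact ⟨-1, by omega⟩
    obtain ⟨e, he⟩ := h4
    refine Subgroup.mem_zpowers_iff.2 ⟨e * t, ?_⟩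
    rw [← hi, ← zpow_natCast, ← zpow_mul, ht]
    congr 1
    rw [← mul_assoc, ← he]

include hN hf in
theorem lnf_eq_one (hsurj : ∀ x : Kˣ, x ^ (Q - 1) = 1 → ∃ g, f g = x) {a : ZMod M} (ha : TorZ Q M 1 a)
    (h1 : lnf θ Q M f a = 1) : a = 0 := by
  obtain ⟨x0, hx0, -⟩ := exists_x0 h hN
  have h2 : x0 ^ (Q - 1) = 1 := by
    have h3 : x0 ^ ((Q - 1).natAbs : ℤ) = 1 := by rw [zpow_natCast, ← hx0, pow_orderOf_eq_one]
    rcases Int.natAbs_eq (Q - 1) with h5 | h5
    · rw [h5]; exact h3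
    · rw [h5, zpow_neg, h3, inv_one]
  obtain ⟨g, hg⟩ := hsurj x0 h2
  have h3 := DFunLike.congr_fun h1 g
  rw [lnf_apply, MonoidHom.one_apply, hg] at h3
  have h4 : x0 ^ expoZ Q M 1 a = 1 := by
    apply Units.ext
    apply h.inj
    have h5 := congrArg (fun z : ℂˣ => (z : ℂ)) h3
    simp only [Units.coe_map, Units.val_one] at h5
    rw [Units.val_one, map_one]
    exact h5
  have h5 : ((orderOf x0 : ℕ) : ℤ) ∣ expoZ Q M 1 a := orderOf_dvd_iff_zpow_eq_one.2 h4
  rw [hx0, Int.natAbs_dvd] at h5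
  obtain ⟨j, hj⟩ := h5
  have h6 := expoZ_mul ha
  rw [pow_one, hj] at h6
  have h7 : (M : ℤ) ∣ (a.val : ℤ) := by
    refine ⟨j, ?_⟩
    have h8 := Q_sub_ne h
    apply mul_right_cancel₀ h8
    rw [← h6]
    ring
  have h8 : M ∣ a.val := by exact_mod_cast h7
  have h9 := Nat.eq_zero_of_dvd_of_lt h8 (ZMod.val_lt a)
  exact (ZMod.val_eq_zero a).1 h9

include hN hf in
theorem orderOf_lnf (hsurj : ∀ x : Kˣ, x ^ (Q - 1) = 1 → ∃ g, f g = x) {a : ZMod M} (ha : TorZ Q M 1 a) :
    orderOf (lnf θ Q M f a) = addOrderOf a := by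
  refine Nat.dvd_antisymm ?_ ?_
  · apply orderOf_dvd_of_pow_eq_one
    rw [← lnf_nsmul hf ha, addOrderOf_nsmul_eq_zero, lnf_zero]
  · apply addOrderOf_dvd_of_nsmul_eq_zero
    apply lnf_eq_one h hN hf hsurj (torZ_nsmul' ha _)
    rw [lnf_nsmul hf ha, pow_orderOf_eq_one]

include hN hf in
theorem lnf_surj (hsurj : ∀ x : Kˣ, x ^ (Q - 1) = 1 → ∃ g, f g = x) (l : G →* ℂˣ) (hl : ∀ x ∈ f.ker, l x = 1) :
    ∃ a : ZMod M, TorZ Q M 1 a ∧ lnf θ Q M f a = l := by
  obtain ⟨x0, hx0, hgen⟩ := exists_x0 h hN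
  have hr0 : (Q - 1).natAbs ≠ 0 := by
    rw [Int.natAbs_ne_zero]
    exact Q_sub_ne h
  have hker : ∀ g g' : G, f g = f g' → l g = l g' := by
    intro g g' hgg
    have h1 : l (g * g'⁻¹) = 1 := hl _ (by rw [MonoidHom.mem_ker, map_mul, map_inv, hgg, mul_inv_cancel])
    rwa [map_mul, map_inv, mul_inv_eq_one] at h1
  have h2 : x0 ^ (Q - 1) = 1 := by
    have h3 : x0 ^ ((Q - 1).natAbs : ℤ) = 1 := by rw [zpow_natCast, ← hx0, pow_orderOf_eq_one]
    rcases Int.natAbs_eq (Q - 1) with h5 | h5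
    · rw [h5]; exact h3
    · rw [h5, zpow_neg, h3, inv_one]
  obtain ⟨g0, hg0⟩ := hsurj x0 h2
  -- the value at `g0` is a root of unity
  have h3 : l g0 ^ (Q - 1).natAbs = 1 := by
    rw [← map_pow, hl]
    rw [MonoidHom.mem_ker, map_pow, hg0, ← hx0, pow_orderOf_eq_one]
  have hprim : IsPrimitiveRoot (θ ((x0 : Kˣ) : K)) (Q - 1).natAbs := by
    rw [← hx0]
    have h4 : IsPrimitiveRoot x0 (orderOf x0) := IsPrimitiveRoot.orderOf x0
    exact (IsPrimitiveRoot.coe_units_iff.2 h4).map_of_injective (f := (θ : K →* ℂ)) h.inj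
  have : NeZero (Q - 1).natAbs := ⟨hr0⟩
  obtain ⟨e, -, he⟩ := hprim.eq_pow_of_pow_eq_one (ξ := ((l g0 : ℂˣ) : ℂ)) (by
    rw [← Units.val_pow_eq_pow_val, h3, Units.val_one])
  obtain ⟨d, hd⟩ := dvd_one h hN
  set a : ZMod M := (((e : ℤ) * d : ℤ) : ZMod M) with ha
  have hta : TorZ Q M 1 a := by
    rw [TorZ, ha, pow_one]
    have h5 : ((Q - 1 : ℤ) : ZMod M) * (((e : ℤ) * d : ℤ) : ZMod M) = 0 := by
      rw [← Int.cast_mul, ZMod.intCast_zmod_eq_zero_iff_dvd]
      exact ⟨e, by rw [hd]; ring⟩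
    push_cast at h5 ⊢
    exact h5
  have hM0 : (M : ℤ) ≠ 0 := by exact_mod_cast NeZero.ne M
  -- the exponent
  have hexp : (Q - 1) ∣ expoZ Q M 1 a - e := by
    have h5 := expoZ_mul hta
    rw [pow_one] at h5
    have h6 : (M : ℤ) ∣ (a.val : ℤ) - e * d := by
      rw [← ZMod.intCast_zmod_eq_zero_iff_dvd]
      push_cast
      rw [ZMod.natCast_zmod_val, ha]
      push_cast
      ring
    obtain ⟨t, ht⟩ := h6
    refine ⟨t, mul_right_cancel₀ hM0 ?_⟩
    rw [sub_mul, h5]
    linear_combination (Q - 1) * ht - (e : ℤ) * hd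
  refine ⟨a, hta, ?_⟩
  have h7 : lnf θ Q M f a g0 = l g0 := by
    apply Units.ext
    rw [lnf_coe, hg0, ← he, th_zpow]
    have h8 : x0 ^ expoZ Q M 1 a = x0 ^ (e : ℤ) := by
      refine pow_of_level (Q := Q) (k := 1) ?_ ?_
      · rw [← hg0]
        exact hf' hf g0
      · rw [pow_one]
        exact hexp
    rw [h8, zpow_natCast, Units.val_pow_eq_pow_val, map_pow]
  ext g
  congr 1
  obtain ⟨i, hi⟩ := Subgroup.mem_zpowers_iff.1 (hgen (f g) (hf g))
  have h8 : f g = f (g0 ^ i) := by rw [map_zpow, hg0, hi]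
  rw [hker g (g0 ^ i) h8, map_zpow, ← h7, ← map_zpow, lnf_apply, lnf_apply, h8]

end abs

section data

variable {K : Type v} [Field K] {θ : K →*₀ ℂ} {Q : ℤ} {M : ℕ} [NeZero M] {N p n : ℕ}
variable {G : Type u} [Group G] [Finite G]

/-- the labels of the linear characters -/
noncomputable def linData {R : Rz Q M p n G} (h : CtxQ θ Q M N) (hN : 1 ≤ N) (f : G →* Kˣ)
    (hf : ∀ g, f g ^ (Q - 1) = 1) (hsurj : ∀ x : Kˣ, x ^ (Q - 1) = 1 → ∃ g, f g = x)
    (htw : ∀ a, TorZ Q M 1 a → ∀ x ∈ Hom Q M n,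
      R.om (twist Q M a x) = fun g => θ ((f g : Kˣ) : K) ^ expoZ Q M 1 a * R.om x g)
    (S : Subgroup G) (hS : S = f.ker) : LinData R S where
  ln a := lnf θ Q M f a
  triv a _ x hx := by
    rw [hS, MonoidHom.mem_ker] at hx
    rw [lnf_apply, hx, one_zpow, map_one]
  surj l hl := by
    subst hS
    exact lnf_surj h hN hf hsurj l hl
  ord a ha := orderOf_lnf h hN hf hsurj ha
  tw a ha x hx := by
    rw [htw a ha x hx]
    funext g
    rw [Pi.mul_apply, lnf_coe]

/-- the index of the kernel divides `|Q - 1|` -/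
theorem index_dvd (h : CtxQ θ Q M N) (f : G →* Kˣ) (hf : ∀ g, f g ^ (Q - 1) = 1) :
    (f.ker).index ∣ (Q - 1).natAbs := by
  have := h.finK
  rw [Subgroup.index_ker]
  have hcy : IsCyclic f.range := Subgroup.isCyclic _
  obtain ⟨g, hg⟩ := IsCyclic.exists_generator (α := f.range)
  rw [← orderOf_eq_card_of_forall_mem_zpowers hg, orderOf_dvd_iff_pow_eq_one]
  obtain ⟨_, ⟨x, rfl⟩⟩ := g
  apply Subtype.ext
  show f x ^ (Q - 1).natAbs = 1
  rw [← zpow_natCast]
  rcases Int.natAbs_eq (Q - 1) with h5 | h5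
  · rw [← h5]; exact hf x
  · have h6 := hf x
    rw [h5, zpow_neg, inv_eq_one] at h6
    exact h6

end data

end Cfsg.Agent.H666.GU
end

-- part: H666/GU/GuLin
section
/-!
# The labels of the linear characters of `GU n F q` (S4537)

* `fU : GU n F q →* Kˣ`, the determinant in `K`: `fU_pow`, `fU_surj`, `ker_fU`;
* `guLin : LinData hR.rz (suS F n q)`;
* `index_suS` : the index of `suS F n q` is prime to `p` if `p` does not divide `q + 1`.
-/

set_option autoImplicit false
set_option linter.unusedSectionVars false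

open Cfsg Polynomial
open scoped ComplexConjugate MatrixGroups

namespace Cfsg.Agent.H666.GU

open Cfsg.Agent.H577.GLB Cfsg.Agent.H577.GLB.Std Cfsg.Agent.H614 Cfsg.Agent.H112.GLB
open Cfsg.Agent.H615.GU Cfsg.Agent.H421.GU Cfsg.Agent.H666.Clif Cfsg.Agent.H614.GU Cfsg.Agent.H623.GU

universe u v

variable {F : Type u} [Field F] {K : Type v} [Field K] [Algebra F K] {θ : K →*₀ ℂ} {q n N M p : ℕ} [NeZero M]

/-- the determinant on `GU n F q` in the large field -/
noncomputable def fU (F : Type u) [Field F] (K : Type v) [Field K] [Algebra F K] (n q : ℕ) : Cfsg.GU n F q →* Kˣ :=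
  (Units.map ((algebraMap F K : F →+* K) : F →* K)).comp (detU F n q)

theorem fU_coe (g : Cfsg.GU n F q) : ((fU F K n q g : Kˣ) : K) =
    algebraMap F K (Matrix.det ((g : GL (Fin n) F) : Matrix (Fin n) (Fin n) F)) := rfl

theorem ker_fU : suS F n q = (fU F K n q).ker := by
  ext g
  rw [mem_suS, MonoidHom.mem_ker]
  have hinj : Function.Injective (Units.map ((algebraMap F K : F →+* K) : F →* K)) :=
    Units.map_injective (algebraMap F K).injective
  constructor
  · intro h
    show Units.map ((algebraMap F K : F →+* K) : F →* K) (Matrix.GeneralLinearGroup.det (g : GL (Fin n) F)) = 1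
    rw [h, map_one]
  · intro h
    apply hinj
    rw [map_one]
    exact h

theorem fU_pow [Finite F] (hF : Nat.card F = q ^ 2) (hn0 : 0 < n) (g : Cfsg.GU n F q) :
    fU F K n q g ^ (-(q : ℤ) - 1) = 1 := by
  have := Fintype.ofFinite F
  have : NeZero n := ⟨hn0.ne'⟩
  have h1 := H321.Ker.det_GU (by rw [← Nat.card_eq_fintype_card]; exact hF) g.2
  have h2 : fU F K n q g ^ (q + 1) = 1 := by
    have h3 := congrArg (Units.map ((algebraMap F K : F →+* K) : F →* K)) h1
    rw [map_pow, map_one] at h3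
    exact h3
  have h4 : (-(q : ℤ) - 1) = -((q + 1 : ℕ) : ℤ) := by push_cast; ring
  rw [h4, zpow_neg, zpow_natCast, h2, inv_one]

/-- the determinants are the elements of norm one -/
theorem fU_surj [Finite F] [Finite K] (hF : Nat.card F = q ^ 2) (hn0 : 0 < n) (x : Kˣ)
    (hx : x ^ (-(q : ℤ) - 1) = 1) : ∃ g : Cfsg.GU n F q, fU F K n q g = x := by
  classical
  have : NeZero n := ⟨hn0.ne'⟩
  have h4 : (-(q : ℤ) - 1) = -((q + 1 : ℕ) : ℤ) := by push_cast; ring
  rw [h4, zpow_neg, zpow_natCast, inv_eq_one] at hx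
  -- the elements of norm one of `F`
  obtain ⟨g, hg⟩ := IsCyclic.exists_generator (α := Fˣ)
  have ho : orderOf g = q ^ 2 - 1 := by
    rw [orderOf_eq_card_of_forall_mem_zpowers hg, Nat.card_units, hF]
  have hq2 : 2 ≤ q := by
    have h1 : 2 ≤ Nat.card F := Finite.one_lt_card
    rw [hF] at h1
    nlinarith only [h1]
  have hfac : q ^ 2 - 1 = (q + 1) * (q - 1) := by
    obtain ⟨r, rfl⟩ : ∃ r, q = r + 1 := ⟨q - 1, by omega⟩
    have h5 : (r + 1) ^ 2 - 1 = r * r + 2 * r := by
      have h6 : (r + 1) ^ 2 = r * r + 2 * r + 1 := by ring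
      omega
    rw [h5, Nat.add_sub_cancel]
    ring
  have hy0 : orderOf (g ^ (q - 1)) = q + 1 := by
    rw [orderOf_pow' g (by omega), ho, hfac, Nat.gcd_eq_right (Dvd.intro_left _ rfl)]
    exact Nat.mul_div_cancel _ (by omega)
  let y0 : Kˣ := Units.map ((algebraMap F K : F →+* K) : F →* K) (g ^ (q - 1))
  have hinj : Function.Injective (Units.map ((algebraMap F K : F →+* K) : F →* K)) :=
    Units.map_injective (algebraMap F K).injective
  have hy : orderOf y0 = q + 1 := by rw [← hy0]; exact orderOf_injective _ hinj _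
  have h5 : x ∈ Subgroup.zpowers y0 := by
    have h6 : IsPrimitiveRoot y0 (q + 1) := by rw [← hy]; exact IsPrimitiveRoot.orderOf y0
    have h7 : IsPrimitiveRoot (y0 : K) (q + 1) := IsPrimitiveRoot.coe_units_iff.2 h6
    have : NeZero (q + 1) := ⟨by omega⟩
    obtain ⟨i, -, hi⟩ := h7.eq_pow_of_pow_eq_one (ξ := (x : K)) (by
      rw [← Units.val_pow_eq_pow_val, hx, Units.val_one])
    refine Subgroup.mem_zpowers_iff.2 ⟨i, ?_⟩
    apply Units.ext
    rw [zpow_natCast, Units.val_pow_eq_pow_val]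
    exact hi
  obtain ⟨i, hi⟩ := Subgroup.mem_zpowers_iff.1 h5
  set δ : Fˣ := (g ^ (q - 1)) ^ i with hδ
  have hδ1 : δ ^ (q + 1) = 1 := by
    rw [hδ, ← zpow_natCast, ← zpow_mul, mul_comm, zpow_mul, zpow_natCast, ← hy0, pow_orderOf_eq_one, one_zpow]
  refine ⟨⟨H321.Ker.dg n δ, H321.Ker.dg_mem_GU hδ1⟩, ?_⟩
  have h6 : detU F n q ⟨H321.Ker.dg n δ, H321.Ker.dg_mem_GU hδ1⟩ = δ := by
    apply Units.ext
    exact H321.Ker.det_dg δ
  show Units.map ((algebraMap F K : F →+* K) : F →* K) (detU F n q _) = x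
  rw [h6, hδ, map_zpow]
  exact hi

theorem hom_le_genR {Q : ℤ} {M : ℕ} (n : ℕ) : ∀ x ∈ Hom Q M n, x ∈ GenR Q M := fun _ hx => hx.1

/-- the labels of the linear characters of `GU n F q` -/
noncomputable def guLin [Finite F] (hF : Nat.card F = q ^ 2) (h : CtxQ θ (-(q : ℤ)) M N) (hn : n ≤ N) (hn0 : 0 < n)
    (hs : ∀ h : F[X], h.Monic → h.natDegree ≤ n → (h.map (algebraMap F K)).Splits)
    {T : TypeData (dOrb K (-(q : ℤ))) (-(q : ℤ)) (Cfsg.GU n F q) n} (hT : IsTypU q n T)
    (hR : RzHyp θ M p T) : LinData hR.rz (suS F n q) :=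
  have := h.finK
  linData h (hn0.trans_le hn) (fU F K n q) (fU_pow hF hn0) (fU_surj hF hn0) (by
    intro a ha x hx
    funext g
    rw [RzHyp.rz_om_apply, RzHyp.rz_om_apply, fU_coe]
    rw [evR_twist h.card h.unit (fun v x => H531.GU.evR_X_mul θ _ M H521.GU.i2s v x) ha (hom_le_genR n x hx),
      H697.GW.linT_eq_GU hs hT θ M a g]) (suS F n q) ker_fU

theorem guLin_ln [Finite F] (hF : Nat.card F = q ^ 2) (h : CtxQ θ (-(q : ℤ)) M N) (hn : n ≤ N) (hn0 : 0 < n)
    (hs : ∀ h : F[X], h.Monic → h.natDegree ≤ n → (h.map (algebraMap F K)).Splits)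
    {T : TypeData (dOrb K (-(q : ℤ))) (-(q : ℤ)) (Cfsg.GU n F q) n} (hT : IsTypU q n T)
    (hR : RzHyp θ M p T) (a : ZMod M) (g : Cfsg.GU n F q) : (((guLin hF h hn hn0 hs hT hR).ln a g : ℂˣ) : ℂ) =
      θ (algebraMap F K (Matrix.det ((g : GL (Fin n) F) : Matrix (Fin n) (Fin n) F))) ^ expoZ (-(q : ℤ)) M 1 a :=
  lnf_coe a g

/-- the index of `suS F n q` divides `q + 1` -/
theorem index_suS_dvd [Finite F] (hF : Nat.card F = q ^ 2) (h : CtxQ θ (-(q : ℤ)) M N) (hn0 : 0 < n) :
    (suS F n q).index ∣ q + 1 := by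
  have h1 := index_dvd h (fU F K n q) (fU_pow hF hn0)
  rw [← ker_fU] at h1
  have h2 : (-(q : ℤ) - 1).natAbs = q + 1 := by omega
  rwa [h2] at h1

theorem index_suS_coprime [Finite F] (hp : p.Prime) (hF : Nat.card F = q ^ 2) (h : CtxQ θ (-(q : ℤ)) M N)
    (hn0 : 0 < n) (hne : ((-(q : ℤ) : ℤ) : ZMod p) ≠ 1) : ((suS F n q).index).Coprime p := by
  refine Nat.Coprime.coprime_dvd_left (index_suS_dvd hF h hn0) ?_
  rw [Nat.coprime_comm, hp.coprime_iff_not_dvd]
  intro hd
  apply hne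
  have h1 : ((q + 1 : ℕ) : ZMod p) = 0 := (ZMod.natCast_eq_zero_iff _ _).2 hd
  push_cast at h1 ⊢
  linear_combination -h1

end Cfsg.Agent.H666.GU
end

private theorem dce_5d04276ace54 : _root_.True := by
  try have : _root_.True := by simp only [_root_.Cfsg.Agent.H615.GU.expoZ.eq_1]
  exact _root_.True.intro
end
end
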